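import Mathlib
import Cfsg.Agent.Base
import Cfsg.Agent.Lib.H4.Sieve
import Cfsg.Agent.Lib.Core.MinNormal
import Cfsg.Agent.Lib.GL.Basic
import Cfsg.Agent.S0494
import Cfsg.Agent.S0497
import Cfsg.Agent.S0984
import Cfsg.Agent.S0721
import Cfsg.Agent.S2119

/-! Subgroups of the alternating group of degree 8 with trivial solvable radical. -/

set_option autoImplicit false

namespace H81.A8

open Subgroup H4.Sv
open scoped Pointwise

abbrev A8 : Type := alternatingGroup (Fin 8)

theorem card_alt (n : ℕ) (hn : 2 ≤ n) : Nat.card (alternatingGroup (Fin n)) = n.factorial / 2 := by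
  haveI : Nontrivial (Fin n) := Fin.nontrivial_iff_two_le.2 hn
  rw [nat_card_alternatingGroup]; simp

theorem card_A8 : Nat.card A8 = 20160 := by rw [card_alt 8 (by norm_num)]; rfl

instance simple_A8 : IsSimpleGroup A8 := alternatingGroup.isSimpleGroup (by simp)

theorem not_comm_of_card {G : Type*} [Group G] [IsSimpleGroup G] (h : ¬ (Nat.card G).Prime) :
    ¬ IsMulCommutative G := fun hc => h (by
  letI : CommGroup G := { (inferInstance : Group G) with mul_comm := hc.1.1 }
  exact IsSimpleGroup.prime_card)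

theorem not_comm_A8 : ¬ IsMulCommutative A8 := not_comm_of_card (by rw [card_A8]; norm_num)

variable {H : Type*} [Group H] [Finite H]

theorem card_cases (f : H →* A8) (hf : Function.Injective f) :
    Nat.card H ∣ 20160 ∧ (Nat.card H = 20160 ∨ Nat.card H ≤ 2520) := by
  have h1 : Nat.card f.range = Nat.card H := (Nat.card_congr (MonoidHom.ofInjective hf).toEquiv).symm
  have h2 := f.range.index_mul_card
  rw [h1, card_A8] at h2
  refine ⟨Dvd.intro_left _ h2, ?_⟩
  by_cases ht : f.range = ⊤
  · left; rw [ht, index_top] at h2; omega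
  · right
    have h3 := H36.two_mul_card_dvd_factorial not_comm_A8 ht
    rw [card_A8] at h3
    have h4 : 8 ≤ f.range.index := by
      by_contra h
      push Not at h
      interval_cases f.range.index <;> simp [Nat.factorial] at h3
    nlinarith

theorem card_simple (f : H →* A8) (hf : Function.Injective f) [IsSimpleGroup H]
    (hc : ¬ IsMulCommutative H) : Nat.card H ∈ ({60, 168, 360, 504, 2520, 20160} : Finset ℕ) := by
  obtain ⟨h1, h2⟩ := card_cases f hf
  have h3 := not_kill hc
  have key : ∀ n ∈ Nat.divisors 20160, kill n = false →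
      n ∈ ({60, 168, 360, 504, 2520, 3360, 6720, 20160} : Finset ℕ) := by decide +kernel
  have h4 := key _ (Nat.mem_divisors.2 ⟨h1, by norm_num⟩) h3
  simp only [Finset.mem_insert, Finset.mem_singleton] at h4 ⊢
  omega

theorem card_norm7 (P : Sylow 7 A8) : Nat.card (normalizer ((P : Subgroup A8) : Set A8)) = 21 := by
  haveI : Fact (Nat.Prime 7) := ⟨by norm_num⟩
  have hP : Nat.card P = 7 := by
    have := H36.card_sylow_eq_pow P (k := 1) (by rw [card_A8]; norm_num) (by rw [card_A8]; norm_num)
    simpa using this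
  obtain ⟨M, hM⟩ := H33.exists_isPModular 7
  obtain ⟨c, hc⟩ := exists_card_cent P hP
  obtain ⟨B⟩ := H4.nonempty_B0 (H36.commutator_eq_top_of_simple not_comm_A8) hM (by norm_num) P hP
  obtain ⟨l, -, hl⟩ := chkOne_sound not_comm_A8 (by norm_num) P hP hM rfl hc B
    (C := fun np _ c _ => c != 1 || np == 960) (by rw [card_A8]; decide +kernel)
  have hc1 : c = 1 := by
    obtain ⟨g, hg⟩ := exists_prime_orderOf_dvd_card' (G := P) 7 (by rw [hP])
    have hg' : orderOf (((g : A8) : Equiv.Perm (Fin 8))) = 7 := by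
      rw [Subgroup.orderOf_coe, Subgroup.orderOf_coe, hg]
    have hcy := Equiv.Perm.isCycle_of_prime_order' (σ := ((g : A8) : Equiv.Perm (Fin 8)))
      (by rw [hg']; norm_num) (by rw [hg']; simp)
    have h1 := Equiv.Perm.nat_card_centralizer ((g : A8) : Equiv.Perm (Fin 8))
    rw [hcy.cycleType, ← hcy.orderOf, hg'] at h1
    simp at h1
    have h2 : Nat.card (centralizer ((P : Subgroup A8) : Set A8))
        ∣ Nat.card (centralizer {((g : A8) : Equiv.Perm (Fin 8))}) := by
      refine card_dvd_of_injective (((alternatingGroup (Fin 8)).subtype.comp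
        (centralizer ((P : Subgroup A8) : Set A8)).subtype).codRestrict _ fun x => ?_) ?_
      · rw [mem_centralizer_iff]
        rintro y rfl
        exact congrArg Subtype.val (x.2 g g.2)
      · intro x y h
        exact Subtype.ext (Subtype.ext (congrArg
          (fun z : centralizer {((g : A8) : Equiv.Perm (Fin 8))} => z.1) h))
    rw [hc, h1] at h2
    have := Nat.le_of_dvd (by norm_num) h2
    have h0 : c ≠ 0 := by
      rintro rfl
      exact Nat.card_pos.ne' hc
    omega
  have h960 : Nat.card (Sylow 7 A8) = 960 := by simpa [hc1] using hl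
  have := H36.card_eq_sylow_mul P
  rw [card_A8, h960] at this
  omega

theorem card_norm_dvd (f : H →* A8) (hf : Function.Injective f) (Q : Subgroup H)
    (hQ : Nat.card Q = 7) : Nat.card (normalizer (Q : Set H)) ∣ 21 := by
  haveI : Fact (Nat.Prime 7) := ⟨by norm_num⟩
  have h1 : Nat.card (Q.map f) = 7 := by rw [card_map_of_injective hf, hQ]
  obtain ⟨P, hP⟩ := (IsPGroup.of_card (p := 7) (n := 1) (G := Q.map f) (by simpa using h1)).exists_le_sylow
  have hP7 : Nat.card P = 7 := by
    have := H36.card_sylow_eq_pow P (k := 1) (by rw [card_A8]; norm_num) (by rw [card_A8]; norm_num)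
    simpa using this
  have h2 : Q.map f = P := eq_of_le_of_card_ge hP (by rw [h1]; exact hP7.le)
  rw [← card_norm7 P, ← h2, ← card_map_of_injective (K := normalizer (Q : Set H)) hf]
  exact card_dvd_of_le (le_normalizer_map f)

theorem simple_of_minNormal (f : H →* A8) (hf : Function.Injective f)
    (hsol : ∀ K : Subgroup H, K.Normal → Group.IsSolvable K → K = ⊥) {N : Subgroup H}
    (hN : H3.IsMinNormal N) : IsSimpleGroup N ∧ ¬ IsMulCommutative N := by
  haveI := hN.1
  have hna : ¬ IsMulCommutative N := fun h => hN.2 (hsol N hN.1 (isSolvable_of_comm h.1.1))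
  refine ⟨?_, hna⟩
  obtain ⟨T, _, m, hT, hm, ⟨e⟩⟩ := Cfsg.Agent.S0721.result N hN.2 hN.3
  haveI : Finite (Fin m → T) := Finite.of_equiv _ e.toEquiv
  have hi : Function.Injective (MonoidHom.mulSingle (fun _ : Fin m => T) ⟨0, hm⟩) :=
    fun a b h => by simpa using congrFun h ⟨0, hm⟩
  haveI : Finite T := Finite.of_injective _ hi
  have hTc : ¬ IsMulCommutative T := fun h => hna ⟨⟨fun x y => e.injective (by
    rw [map_mul, map_mul]; ext i; exact h.1.1 _ _)⟩⟩
  have hfN : Function.Injective (f.comp N.subtype) := hf.comp N.subtype_injective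
  have h1 := card_simple ((f.comp N.subtype).comp (e.symm.toMonoidHom.comp
    (MonoidHom.mulSingle (fun _ : Fin m => T) ⟨0, hm⟩))) (hfN.comp (e.symm.injective.comp hi)) hTc
  have h2 := (card_cases _ hfN).1
  rw [Nat.card_congr e.toEquiv, Nat.card_fun, Nat.card_eq_fintype_card (α := Fin m),
    Fintype.card_fin] at h2
  have hm1 : m = 1 := by
    by_contra h
    have h3 : Nat.card T ^ 2 ∣ 20160 := (pow_dvd_pow _ (by omega)).trans h2
    simp only [Finset.mem_insert, Finset.mem_singleton] at h1
    rcases h1 with h1 | h1 | h1 | h1 | h1 | h1 <;> rw [h1] at h3 <;> norm_num at h3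
  subst hm1
  exact (e.trans (MulEquiv.funUnique (Fin 1) T)).isSimpleGroup

theorem centralizer_eq_bot (f : H →* A8) (hf : Function.Injective f)
    (hsol : ∀ K : Subgroup H, K.Normal → Group.IsSolvable K → K = ⊥) {N : Subgroup H}
    (hN : H3.IsMinNormal N) (hH : Nat.card H ≤ 2520) : centralizer (N : Set H) = ⊥ := by
  haveI := hN.1
  by_contra hne
  obtain ⟨M, hM, hle⟩ := H3.exists_isMinNormal_le (centralizer (N : Set H)) hne
  haveI := hM.1
  obtain ⟨hs, hc⟩ := simple_of_minNormal f hf hsol hN
  obtain ⟨hs', hc'⟩ := simple_of_minNormal f hf hsol hM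
  have hMN : M ≠ N := by
    rintro rfl
    exact hc ⟨⟨fun x y => Subtype.ext (hle y.2 x x.2)⟩⟩
  have h1 := card_simple (f.comp N.subtype) (hf.comp N.subtype_injective) hc
  have h2 := card_simple (f.comp M.subtype) (hf.comp M.subtype_injective) hc'
  have h3 : Function.Injective (fun x : M × N => (x.1 : H) * x.2) := by
    rintro ⟨a, b⟩ ⟨c, d⟩ h
    have h4 : ((c : H)⁻¹ * a) ∈ M ⊓ N := ⟨M.mul_mem (M.inv_mem c.2) a.2, by
      have : (c : H)⁻¹ * a = d * (b : H)⁻¹ := by
        simp only at h
        rw [inv_mul_eq_iff_eq_mul, ← mul_assoc, ← h, mul_inv_cancel_right]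
      rw [this]; exact N.mul_mem d.2 (N.inv_mem b.2)⟩
    rw [hM.inf_eq_bot_of_ne hN hMN, mem_bot, inv_mul_eq_one] at h4
    obtain rfl : c = a := Subtype.ext h4
    simp only [mul_right_inj] at h
    rw [Subtype.ext h]
  have h5 := Nat.card_le_card_of_injective _ h3
  rw [Nat.card_prod] at h5
  simp only [Finset.mem_insert, Finset.mem_singleton] at h1 h2
  have : 60 ≤ Nat.card M := by omega
  have : 60 ≤ Nat.card N := by omega
  nlinarith

theorem card_norm_sylow {N : Type*} [Group N] [Finite N] [IsSimpleGroup N]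
    (hc : ¬ IsMulCommutative N) {p n : ℕ} [Fact p.Prime] (hn : Nat.card N = n) (P : Sylow p N)
    (C : ℕ → Bool) (h1 : n = p ^ 1 * (n / p ^ 1)) (h2 : ¬ p ∣ n / p ^ 1)
    (h : chkPow n p 1 (fun x => C (n / x)) = true) :
    C (Nat.card (normalizer ((P : Subgroup N) : Set N))) = true ∧ Nat.card P = p := by
  subst hn
  have h3 := chkPow_sound hc le_rfl h1 h2 h
  have h4 := H36.card_eq_sylow_mul P
  refine ⟨?_, ?_⟩
  · rw [h4, Nat.mul_div_cancel_left _ Nat.card_pos] at h3
    exact h3
  · have := H36.card_sylow_eq_pow P (k := 1) (Dvd.intro _ h1.symm) (by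
      intro h5
      rw [h1, pow_succ, Nat.mul_dvd_mul_iff_left (pow_pos (Fact.out : p.Prime).pos _)] at h5
      exact h2 h5)
    simpa using this

theorem exists_hom_six (f : H →* A8) (hf : Function.Injective f) (N : Subgroup H) [N.Normal]
    [IsSimpleGroup N] (hN : Nat.card N = 360) (hC : centralizer (N : Set H) = ⊥) :
    ∃ φ : H →* Equiv.Perm (Fin 6), Function.Injective φ := by
  classical
  have hc : ¬ IsMulCommutative N := not_comm_of_card (by rw [hN]; norm_num)
  letI : MulAction H (Fin 8) := MulAction.compHom _ ((alternatingGroup (Fin 8)).subtype.comp f)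
  have hfaith : ∀ g : H, (∀ x : Fin 8, g • x = x) → g = 1 := fun g hg =>
    hf (by rw [map_one]; exact Subtype.ext (Equiv.ext hg))
  obtain ⟨g, hg⟩ := exists_ne (1 : N)
  obtain ⟨x, hx⟩ : ∃ x : Fin 8, (g : H) • x ≠ x := by
    by_contra h
    push Not at h
    exact hg (Subtype.ext (hfaith _ h))
  have hne : MulAction.stabilizer N x ≠ ⊤ := fun h => hx (by
    have : g ∈ MulAction.stabilizer N x := h ▸ mem_top g
    exact this)
  have h1 := H36.two_mul_card_dvd_factorial hc hne
  have h2 := (MulAction.stabilizer N x).index_mul_card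
  have h3 : (MulAction.stabilizer N x).index ≤ 8 := by
    rw [MulAction.index_stabilizer]
    simpa using Set.ncard_le_card (MulAction.orbit N x)
  rw [hN] at h1 h2
  have h6 : (MulAction.stabilizer N x).index = 6 := by
    by_contra h
    have h8 : (MulAction.stabilizer N x).index = 8 := by
      interval_cases hh : (MulAction.stabilizer N x).index <;> simp [Nat.factorial] at h1 h ⊢
      omega
    haveI : Fact (Nat.Prime 5) := ⟨by norm_num⟩
    set K := MulAction.stabilizer N x
    have hK : Nat.card K = 45 := by rw [h8] at h2; omega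
    obtain ⟨R⟩ : Nonempty (Sylow 5 K) := inferInstance
    have hR : Nat.card R = 5 := by
      simpa using H36.card_sylow_eq_pow R (k := 1) (by rw [hK]; norm_num) (by rw [hK]; norm_num)
    have hRn : (R : Subgroup K).Normal := by
      have a1 := card_sylow_modEq_one 5 K
      have a2 := H36.card_eq_sylow_mul R
      have a3 : Nat.card (Sylow 5 K) ∣ 45 := Dvd.intro _ (a2.symm.trans hK)
      have a4 : Nat.card (Sylow 5 K) = 1 := by
        have := Nat.le_of_dvd (by norm_num) a3
        unfold Nat.ModEq at a1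
        interval_cases Nat.card (Sylow 5 K) <;> simp_all
      rw [a4, one_mul] at a2
      rw [← normalizer_eq_top_iff]
      exact eq_top_of_card_eq _ a2.symm
    obtain ⟨P, hP⟩ := (R.isPGroup'.map K.subtype).exists_le_sylow
    obtain ⟨b1, b2⟩ := card_norm_sylow hc hN P (fun x => x == 60 || x == 10) (by norm_num)
      (by norm_num) (by decide +kernel)
    have b3 : (R : Subgroup K).map K.subtype = P :=
      eq_of_le_of_card_ge hP (by rw [card_map_of_injective K.subtype_injective]; exact (b2.trans hR.symm).le)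
    have b4 : K ≤ normalizer ((P : Subgroup N) : Set N) := by
      have := le_normalizer_map (H := (R : Subgroup K)) K.subtype
      rwa [normalizer_eq_top_iff.2 hRn, ← MonoidHom.range_eq_map, range_subtype, b3] at this
    have b5 := card_dvd_of_le b4
    rw [hK] at b5
    simp only [Bool.or_eq_true, beq_iff_eq] at b1
    rcases b1 with b1 | b1 <;> rw [b1] at b5 <;> norm_num at b5
  rw [MulAction.index_stabilizer] at h6
  have hinv : ∀ (h : H) (y : Fin 8), y ∈ MulAction.orbit N x → h • y ∈ MulAction.orbit N x := by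
    intro h y hy
    have hb := MulAction.IsBlock.orbit_of_normal (N := N) x
    have : h • MulAction.orbit N x = MulAction.orbit N x := by
      by_contra hne
      have hd := hb.smul_eq_or_disjoint h |>.resolve_left hne
      have := Set.ncard_le_card (h • MulAction.orbit N x ∪ MulAction.orbit N x)
      rw [Set.ncard_union_eq hd, Set.ncard_smul_set, h6] at this
      simp at this
    rw [← this]; exact Set.smul_mem_smul_set hy
  let O : SubMulAction H (Fin 8) := ⟨MulAction.orbit N x, fun h y hy => hinv h y hy⟩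
  have hO : Nat.card O = 6 := h6
  obtain ⟨e⟩ : Nonempty (O ≃ Fin 6) := ⟨Finite.equivFinOfCardEq hO⟩
  refine ⟨e.permCongrHom.toMonoidHom.comp (MulAction.toPermHom H O), e.permCongrHom.injective.comp ?_⟩
  rw [← MonoidHom.ker_eq_bot_iff, eq_bot_iff, ← hC]
  have hk : (MulAction.toPermHom H O).ker ⊓ N = ⊥ := by
    rcases (inferInstance : ((MulAction.toPermHom H O).ker.subgroupOf N).Normal).eq_bot_or_eq_top
      with h | h
    · rwa [subgroupOf_eq_bot, disjoint_iff] at h
    · exfalso
      have : g ∈ (MulAction.toPermHom H O).ker.subgroupOf N := h ▸ mem_top g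
      rw [mem_subgroupOf, MonoidHom.mem_ker] at this
      have h2 := congrArg (fun σ : Equiv.Perm O => ((σ ⟨x, MulAction.mem_orbit_self x⟩ : O) : Fin 8)) this
      exact hx h2
  intro k hk' y hy
  exact (commute_of_normal_of_disjoint _ _ inferInstance inferInstance (disjoint_iff.2 hk) k y hk' hy).symm

theorem classify (f : H →* A8) (hf : Function.Injective f) [Nontrivial H]
    (hsol : ∀ K : Subgroup H, K.Normal → Group.IsSolvable K → K = ⊥) :
    (∃ n : ℕ, 5 ≤ n ∧ n ≤ 8 ∧ Nonempty (H ≃* alternatingGroup (Fin n))) ∨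
    Nonempty (H ≃* Equiv.Perm (Fin 5)) ∨ Nonempty (H ≃* Equiv.Perm (Fin 6)) ∨
    (IsSimpleGroup H ∧ Nat.card H = 168) := by
  obtain ⟨hd, h20 | hH⟩ := card_cases f hf
  · exact Or.inl ⟨8, by norm_num, le_rfl,
      H10.nonempty_mulEquiv_of_injective f hf (by rw [card_A8, h20])⟩
  obtain ⟨N, hN⟩ := H3.exists_isMinNormal H
  haveI := hN.1
  obtain ⟨hs, hc⟩ := simple_of_minNormal f hf hsol hN
  have hC := centralizer_eq_bot f hf hsol hN hH
  have hfN : Function.Injective (f.comp N.subtype) := hf.comp N.subtype_injective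
  have h1 := card_simple _ hfN hc
  have hdN : Nat.card N ∣ Nat.card H := N.card_subgroup_dvd_card
  have hleN : Nat.card N ≤ Nat.card H := Nat.le_of_dvd Nat.card_pos hdN
  have heq : Nat.card H = Nat.card N → Nonempty (H ≃* N) := fun h =>
    ⟨(H10.nonempty_mulEquiv_of_injective N.subtype N.subtype_injective h.le).some.symm⟩
  haveI : Fact (Nat.Prime 7) := ⟨by norm_num⟩
  simp only [Finset.mem_insert, Finset.mem_singleton] at h1
  rcases h1 with h1 | h1 | h1 | h1 | h1 | h1
  · obtain ⟨e⟩ := Cfsg.Agent.S0494.result h1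
    let φ : H →* Equiv.Perm (Fin 5) :=
      (MulEquiv.ofBijective _ (Cfsg.Agent.S2119.result 5 (by norm_num) (by norm_num))).symm.toMonoidHom.comp
        ((MulAut.congr e).toMonoidHom.comp (MulAut.conjNormal : H →* MulAut N))
    have hφ : Function.Injective φ := by
      refine (MulEquiv.ofBijective _ (Cfsg.Agent.S2119.result 5 (by norm_num)
        (by norm_num))).symm.injective.comp ((MulAut.congr e).injective.comp ?_)
      rw [← MonoidHom.ker_eq_bot_iff, eq_bot_iff, ← hC]
      intro k hk y hy
      have := congrArg (fun σ : MulAut N => ((σ ⟨y, hy⟩ : N) : H)) (MonoidHom.mem_ker.1 hk)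
      simp only [MulAut.conjNormal_apply, MulAut.one_apply] at this
      exact (mul_inv_eq_iff_eq_mul.1 this).symm
    have h2 := card_dvd_of_injective φ hφ
    have h120 : Nat.card (Equiv.Perm (Fin 5)) = 120 := by rw [Nat.card_perm]; simp; rfl
    rw [h120] at h2
    have h3 := Nat.le_of_dvd (by norm_num) h2
    rw [h1] at hdN
    have : Nat.card H = 60 ∨ Nat.card H = 120 := by
      have : 0 < Nat.card H := Nat.card_pos
      omega
    rcases this with h | h
    · obtain ⟨e'⟩ := heq (h.trans h1.symm)
      exact Or.inl ⟨5, le_rfl, by norm_num, ⟨e'.trans e⟩⟩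
    · exact Or.inr (Or.inl (H10.nonempty_mulEquiv_of_injective φ hφ (by rw [h120, h])))
  · obtain ⟨P⟩ : Nonempty (Sylow 7 N) := inferInstance
    obtain ⟨b1, b2⟩ := card_norm_sylow hc h1 P (fun x => x == 21) (by norm_num)
      (by norm_num) (by decide +kernel)
    have b3 := card_norm_dvd f hf ((P : Subgroup N).map N.subtype)
      (by rw [card_map_of_injective N.subtype_injective]; exact b2)
    have b4 : (normalizer ((P : Subgroup N) : Set N)).map N.subtype
        = normalizer (((P : Subgroup N).map N.subtype : Subgroup H) : Set H) := by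
      refine eq_of_le_of_card_ge (le_normalizer_map _) ?_
      rw [card_map_of_injective N.subtype_injective, beq_iff_eq.1 b1]
      exact Nat.le_of_dvd (by norm_num) b3
    have b5 := P.normalizer_sup_eq_top
    rw [← b4, sup_eq_right.2 (map_subtype_le _)] at b5
    have b6 : Nat.card H = Nat.card N := by rw [b5, card_top]
    obtain ⟨e⟩ := heq b6
    exact Or.inr (Or.inr (Or.inr ⟨e.isSimpleGroup, b6.trans h1⟩))
  · obtain ⟨φ, hφ⟩ := exists_hom_six f hf N h1 hC
    obtain ⟨e⟩ := Cfsg.Agent.S0497.result h1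
    have h2 := card_dvd_of_injective φ hφ
    have h720 : Nat.card (Equiv.Perm (Fin 6)) = 720 := by rw [Nat.card_perm]; simp; rfl
    rw [h720] at h2
    have h3 := Nat.le_of_dvd (by norm_num) h2
    rw [h1] at hdN
    have : Nat.card H = 360 ∨ Nat.card H = 720 := by
      have : 0 < Nat.card H := Nat.card_pos
      omega
    rcases this with h | h
    · obtain ⟨e'⟩ := heq (h.trans h1.symm)
      exact Or.inl ⟨6, by norm_num, by norm_num, ⟨e'.trans e⟩⟩
    · exact Or.inr (Or.inr (Or.inl (H10.nonempty_mulEquiv_of_injective φ hφ (by rw [h720, h]))))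
  · exfalso
    obtain ⟨P⟩ : Nonempty (Sylow 7 N) := inferInstance
    obtain ⟨b1, b2⟩ := card_norm_sylow hc h1 P (fun x => x == 63 || x == 14) (by norm_num)
      (by norm_num) (by decide +kernel)
    have b3 := card_norm_dvd _ hfN P b2
    simp only [Bool.or_eq_true, beq_iff_eq] at b1
    rcases b1 with b1 | b1 <;> rw [b1] at b3 <;> norm_num at b3
  · obtain ⟨e⟩ := Cfsg.Agent.S0984.result h1
    obtain ⟨e'⟩ := heq (by omega)
    exact Or.inl ⟨7, by norm_num, by norm_num, ⟨e'.trans e⟩⟩
  · omega

/-- over the field with two elements `GL = PSL` -/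
theorem nonempty_GL_equiv (n : ℕ) (hn : 1 ≤ n) :
    Nonempty (GL (Fin n) (ZMod 2) ≃* Matrix.ProjectiveSpecialLinearGroup (Fin n) (ZMod 2)) := by
  haveI : Nonempty (Fin n) := ⟨⟨0, hn⟩⟩
  have h1 : center (Matrix.SpecialLinearGroup (Fin n) (ZMod 2)) = ⊥ := by
    rw [← card_eq_one, H10.card_center_SL]; simp
  have h2 := H10.card_units_mul_card_SL (ι := Fin n) (R := ZMod 2)
  rw [H10.card_units_field] at h2
  obtain ⟨e⟩ := H10.nonempty_mulEquiv_of_injective
    (Matrix.SpecialLinearGroup.toGL : Matrix.SpecialLinearGroup (Fin n) (ZMod 2) →* _)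
    Matrix.SpecialLinearGroup.toGL_injective (by rw [← h2]; simp)
  exact ⟨e.symm.trans (H10.quotCenterEquivOfBot h1).symm⟩

end H81.A8
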