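import Mathlib
import Cfsg.Agent.Base
import Cfsg.Agent.Lib.FGS.ClassSize

/-!
Counting conjugacy classes through commuting pairs.
-/

set_option autoImplicit false

namespace H81

open Subgroup H80

variable {G : Type*} [Group G]

theorem card_conjClasses_mul_card [Fintype G] :
    Nat.card (ConjClasses G) * Nat.card G = ∑ x : G, Nat.card Cx⟦x⟧ := by
  rw [← card_comm_eq_card_conjClasses_mul_card, ← Nat.card_sigma]
  refine Nat.card_congr ⟨fun p => ⟨p.1.1, p.1.2, mem_Cx_iff_commute.2 p.2⟩,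
    fun p => ⟨(p.1, p.2), mem_Cx_iff_commute.1 p.2.2⟩, fun _ => rfl, fun _ => rfl⟩

open Classical in
theorem card_inf_eq_filter [Fintype G] (A B : Subgroup G) :
    Nat.card (A ⊓ B : Subgroup G) = (Finset.univ.filter fun g => g ∈ A ∧ g ∈ B).card := by
  rw [Nat.card_eq_fintype_card, Fintype.card_subtype]
  simp only [mem_inf]

open Classical in
/-- Double counting of commuting pairs in `S × B`. -/
theorem sum_card_Cx_inf [Fintype G] (S : Finset G) (B : Subgroup G) :
    ∑ x ∈ S, Nat.card (Cx⟦x⟧ ⊓ B : Subgroup G) =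
      ∑ y : B, (S.filter fun x => x ∈ Cx⟦(y : G)⟧).card := by
  have : ∀ x : G, Nat.card (Cx⟦x⟧ ⊓ B : Subgroup G) =
      ∑ y : B, if x ∈ Cx⟦(y : G)⟧ then 1 else 0 := by
    intro x
    rw [← Finset.card_filter, ← H1.card_subgroupOf_eq, Nat.card_eq_fintype_card,
      Fintype.card_subtype]
    congr 1
    ext y
    simp only [Finset.mem_filter, Finset.mem_univ, true_and, mem_subgroupOf]
    exact mem_Cx_comm
  simp only [this, Finset.card_filter]
  exact Finset.sum_comm

theorem card_le_card_inf_mul_index [Finite G] (A Y : Subgroup G) :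
    Nat.card A ≤ Nat.card (A ⊓ Y : Subgroup G) * Y.index := by
  rw [← H1.card_inf_mul_relIndex Y A, inf_comm]
  refine Nat.mul_le_mul_left _ ?_
  have := relIndex_le_of_le_right (H := Y) (le_top : A ≤ ⊤) (by
    rw [relIndex_top_right]; exact index_ne_zero_of_finite)
  rwa [relIndex_top_right] at this

theorem card_conjClasses_pos [Finite G] : 0 < Nat.card (ConjClasses G) := by
  have : Nonempty (ConjClasses G) := ⟨1⟩
  exact Nat.card_pos

theorem card_conjClasses_subgroup_le [Finite G] (Y : Subgroup G) :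
    Nat.card (ConjClasses Y) ≤ Y.index * Nat.card (ConjClasses G) := by
  classical
  have := Fintype.ofFinite G
  refine Nat.le_of_mul_le_mul_right ?_ (Nat.card_pos (α := Y))
  rw [mul_right_comm, index_mul_card, mul_comm (Nat.card G), card_conjClasses_mul_card,
    card_conjClasses_mul_card]
  calc ∑ y : Y, Nat.card Cx⟦y⟧ ≤ ∑ y : Y, Nat.card Cx⟦(y : G)⟧ :=
        Finset.sum_le_sum fun y _ => by
          rw [card_Cx_subtype]; exact card_le_of_le (by simp)
    _ = ∑ x ∈ Finset.univ.filter (· ∈ Y), Nat.card Cx⟦x⟧ :=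
        (Finset.sum_subtype _ (by simp) (fun x : G => Nat.card Cx⟦x⟧)).symm
    _ ≤ _ := Finset.sum_le_sum_of_subset (Finset.filter_subset _ _)

theorem card_conjClasses_mul_le_aux [Fintype G] (Y : Subgroup G) [Fintype Y] :
    Nat.card (ConjClasses G) * Nat.card G ≤ Y.index * ∑ y : Y, Nat.card Cx⟦(y : G)⟧ := by
  classical
  rw [card_conjClasses_mul_card]
  calc ∑ x : G, Nat.card Cx⟦x⟧ ≤ ∑ x : G, Nat.card (Cx⟦x⟧ ⊓ Y : Subgroup G) * Y.index :=
        Finset.sum_le_sum fun x _ => card_le_card_inf_mul_index _ _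
    _ = Y.index * ∑ y : Y, Nat.card Cx⟦(y : G)⟧ := by
        rw [← Finset.sum_mul, mul_comm, sum_card_Cx_inf]
        congr 1
        refine Finset.sum_congr (by ext; simp) fun y _ => ?_
        rw [Nat.card_eq_fintype_card, Fintype.card_subtype]

theorem card_conjClasses_le_index_mul [Finite G] (Y : Subgroup G) :
    Nat.card (ConjClasses G) ≤ Y.index * Nat.card (ConjClasses Y) := by
  classical
  have := Fintype.ofFinite G
  refine Nat.le_of_mul_le_mul_right ?_ (Nat.card_pos (α := G))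
  refine (card_conjClasses_mul_le_aux Y).trans ?_
  rw [mul_assoc, ← index_mul_card Y, mul_left_comm (Nat.card (ConjClasses Y)),
    card_conjClasses_mul_card, Finset.mul_sum, Finset.mul_sum, Finset.mul_sum]
  refine Finset.sum_le_sum fun y _ => Nat.mul_le_mul_left _ ?_
  rw [card_Cx_subtype, mul_comm]
  exact card_le_card_inf_mul_index _ _

theorem card_conjClasses_lt_index_mul [Finite G] (Y : Subgroup G) (hY : ¬ Y.Normal) :
    Nat.card (ConjClasses G) < Y.index * Nat.card (ConjClasses Y) := by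
  classical
  have := Fintype.ofFinite G
  refine Nat.lt_of_mul_lt_mul_right (a := Nat.card G) ?_
  refine (card_conjClasses_mul_le_aux Y).trans_lt ?_
  rw [mul_assoc, ← index_mul_card Y, mul_left_comm (Nat.card (ConjClasses Y)),
    card_conjClasses_mul_card]
  refine Nat.mul_lt_mul_of_pos_left ?_ (Nat.pos_of_ne_zero index_ne_zero_of_finite)
  rw [Finset.mul_sum]
  have hle : ∀ y : Y, Nat.card Cx⟦(y : G)⟧ ≤ Y.index * Nat.card Cx⟦y⟧ := fun y => by
    rw [card_Cx_subtype, mul_comm]
    exact card_le_card_inf_mul_index _ _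
  refine Finset.sum_lt_sum (fun y _ => hle y) ?_
  by_contra hn
  push Not at hn
  refine hY ⟨fun y hy g => ?_⟩
  have h1 := le_antisymm (hle ⟨y, hy⟩) (hn ⟨y, hy⟩ (Finset.mem_univ _))
  rw [card_Cx_subtype, ← H1.card_inf_mul_relIndex Y, inf_comm, mul_comm Y.index] at h1
  have h2 := Nat.eq_of_mul_eq_mul_left Nat.card_pos h1
  obtain ⟨k, hk, a, ha, e⟩ := exists_mul_of_relIndex_eq h2 g⁻¹
  have e2 : g = a⁻¹ * k⁻¹ := by rw [← mul_inv_rev, ← e, inv_inv]
  have h3 : k⁻¹ * y * k = y := mem_Cx_iff_conj'.1 hk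
  have : g * y * g⁻¹ = a⁻¹ * (k⁻¹ * y * k) * a := by rw [e2]; group
  rw [this, h3]
  exact mul_mem (mul_mem (inv_mem ha) hy) ha

open Classical in
theorem card_filter_coset_le [Fintype G] (N C : Subgroup G) [N.Normal] (q : G ⧸ N) :
    ((Finset.univ.filter fun x : G => (x : G ⧸ N) = q).filter fun x => x ∈ C).card ≤
      Nat.card (C ⊓ N : Subgroup G) := by
  rcases ((Finset.univ.filter fun x : G => (x : G ⧸ N) = q).filter fun x => x ∈ C).eq_empty_or_nonempty
    with h | ⟨a, ha⟩
  · rw [h]; exact Nat.zero_le _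
  rw [card_inf_eq_filter]
  simp only [Finset.mem_filter, Finset.mem_univ, true_and] at ha
  refine Finset.card_le_card_of_injOn (fun x => a⁻¹ * x) (fun x hx => ?_)
    (fun x _ y _ e => mul_left_cancel e)
  simp only [Finset.coe_filter, Finset.mem_filter, Finset.mem_univ, true_and, Set.mem_setOf_eq] at hx ⊢
  exact ⟨mul_mem (inv_mem ha.2) hx.2, QuotientGroup.eq.1 (ha.1.trans hx.1.symm)⟩

theorem card_Cx_le_mul [Finite G] (N : Subgroup G) [N.Normal] (x : G) :
    Nat.card Cx⟦x⟧ ≤ Nat.card Cx⟦(x : G ⧸ N)⟧ * Nat.card (Cx⟦x⟧ ⊓ N : Subgroup G) := by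
  rw [← H1.card_map_mk'_mul N, inf_comm]
  exact Nat.mul_le_mul_right _ (card_le_of_le (map_Cx_le (QuotientGroup.mk' N) x))

theorem card_conjClasses_le_mul [Finite G] (N : Subgroup G) [N.Normal] :
    Nat.card (ConjClasses G) ≤ Nat.card (ConjClasses N) * Nat.card (ConjClasses (G ⧸ N)) := by
  classical
  have := Fintype.ofFinite G
  refine Nat.le_of_mul_le_mul_right ?_ (Nat.card_pos (α := G))
  rw [card_conjClasses_mul_card, card_eq_card_quotient_mul_card_subgroup N,
    show ∀ a b c d : ℕ, a * b * (c * d) = b * c * (a * d) from fun a b c d => by ring,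
    card_conjClasses_mul_card, card_conjClasses_mul_card,
    ← Finset.sum_fiberwise (s := Finset.univ) (g := fun x : G => (x : G ⧸ N)), Finset.sum_mul]
  refine Finset.sum_le_sum fun q _ => ?_
  calc ∑ x ∈ Finset.univ.filter (fun x : G => (x : G ⧸ N) = q), Nat.card Cx⟦x⟧
      ≤ ∑ x ∈ Finset.univ.filter (fun x : G => (x : G ⧸ N) = q),
          Nat.card Cx⟦q⟧ * Nat.card (Cx⟦x⟧ ⊓ N : Subgroup G) :=
        Finset.sum_le_sum fun x hx => by
          rw [← (Finset.mem_filter.1 hx).2]; exact card_Cx_le_mul N x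
    _ ≤ _ := by
        rw [← Finset.mul_sum, sum_card_Cx_inf]
        refine Nat.mul_le_mul_left _ (Finset.sum_le_sum fun y _ => ?_)
        rw [card_Cx_subtype]
        convert card_filter_coset_le N _ q

end H81
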