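import Mathlib
import Cfsg.Agent.Base
import Cfsg.Agent.Lib.H81.Fix4a
import Cfsg.Agent.Lib.H81.TI8
import Cfsg.Agent.S1175
import Cfsg.Agent.S3224

/-! Simple transitive groups in which involutions fix at most four points. -/

set_option autoImplicit false
set_option linter.style.haveILetI false
set_option linter.unusedSectionVars false

namespace H81

open Cfsg Subgroup MulAction H83
open scoped Pointwise

variable {G : Type*} [Group G]

theorem exists_central_pow [Finite G] {p : ℕ} [Fact p.Prime] {U T : Subgroup G} (hT : IsPGroup p T)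
    (hU : U ≤ T) (h1 : U ≠ ⊥) (hn : ∀ t ∈ T, ∀ u ∈ U, t * u * t⁻¹ ∈ U) :
    ∃ z ∈ U, orderOf z = p ∧ ∀ t ∈ T, t * z = z * t := by
  obtain ⟨y, hy, y1⟩ := ne_bot_iff.1 (H69.inf_centralizer_ne_bot (hT.to_le hU) hT
    (le_normalizer_iff.2 hn) h1)
  obtain ⟨n, hn⟩ := exists_orderOf_pow hT (hU hy.1) y1
  exact ⟨y ^ n, pow_mem hy.1 n, hn, fun t ht => (centralizer _).pow_mem hy.2 n t ht⟩

def d8Perm : D8 →* Equiv.Perm (Fin 4) := MonoidHom.mk' (fun d => match d with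
  | .r i => Equiv.addRight (show Fin 4 from i)
  | .sr i => (Equiv.addRight (show Fin 4 from i)).trans (Equiv.neg _)) (by decide)

theorem d8Perm_inj : Function.Injective d8Perm := by decide

theorem Act.exists_d8 {M K T : Subgroup G} {φ : G → Equiv.Perm (Fin 4)} (h : Act M K φ) (hT : T ≤ M)
    (h2 : IsPGroup 2 T) : ∃ ψ : G → D8, Act T (T ⊓ K) ψ := by
  haveI : Fact (Nat.Prime 2) := ⟨Nat.prime_two⟩
  have h8 : Nat.card d8Perm.range = 8 := by
    rw [← Nat.card_congr (MonoidHom.ofInjective d8Perm_inj).toEquiv, DihedralGroup.nat_card]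
  obtain ⟨k, -, hk⟩ := H4.exists_conj_le_of_not_dvd_relIndex (K := ⊤) (S := d8Perm.range)
    (IsPGroup.of_card (n := 3) h8) (by
      have := d8Perm.range.card_mul_index
      rw [h8, Nat.card_perm, Nat.card_fin] at this
      rw [relIndex_top_right]; simp [Nat.factorial] at this; omega)
    (h2.of_surjective _ (h.hom hT).rangeRestrict_surjective) le_top
  have e : ∀ t ∈ T, d8Perm (Function.invFun d8Perm (k * φ t * k⁻¹)) = k * φ t * k⁻¹ :=
    fun t ht => Function.invFun_eq (hk _ ⟨⟨t, ht⟩, rfl⟩)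
  refine ⟨fun g => Function.invFun d8Perm (k * φ g * k⁻¹), fun a ha b hb => d8Perm_inj ?_,
    fun a ha => ?_, inf_le_left⟩
  · rw [map_mul, e a ha, e b hb, e _ (mul_mem ha hb), h.mul _ (hT ha) _ (hT hb)]; group
  · rw [← d8Perm_inj.eq_iff, e a ha, map_one, conj_eq_one_iff, h.ker a (hT ha), mem_inf, and_iff_right ha]

theorem sr_d8 : SR 2 D8 := Mac.sr_two_of_eight (IsPGroup.of_card (n := 3) DihedralGroup.nat_card)
  DihedralGroup.nat_card.le (Or.inr ⟨.r 1, by decide⟩)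

theorem sectional_of_sylow [Finite G] (S : Sylow 2 G) {k : ℕ} (h : SR k S) : SectionalPRankLE 2 k G :=
  H58.Har.sr_of_sylow (H69.isSylowIn_top S) fun H K hH hK hsq => by
    rw [← H4.card_mul_relIndex_of_le hK, mul_comm]
    exact Nat.mul_le_mul_right _ (sr_subgroup_iff.1 h H K hH hK hsq)

variable {Ω : Type*} [MulAction G Ω] [Finite G] [Finite Ω]

theorem stabilizer_ne_top [FaithfulSMul G Ω] [IsPretransitive G Ω] {Δ : Set Ω} (h : 1 ≤ Nat.card Δ)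
    {P : Subgroup G} (hU : P ⊓ fixingSubgroup G Δ ≠ ⊥) : stabilizer G Δ ≠ ⊤ := fun e => by
  obtain ⟨u, hu, u1⟩ := ne_bot_iff.1 hU
  obtain ⟨⟨a, ha⟩⟩ := (Nat.card_pos_iff.1 h).1
  refine u1 (FaithfulSMul.eq_of_smul_eq_smul (α := Ω) fun x => ?_)
  obtain ⟨g, rfl⟩ := exists_smul_eq G a x
  rw [one_smul]
  exact (mem_fixingSubgroup_iff _).1 hu.2 _ ((mem_stabilizer_set.1 (e ▸ mem_top g) a).2 ha)

theorem FB.sr_four (h : FB G Ω 2 4) {S : Subgroup G} (hS : IsPGroup 2 S) {Δ : Set Ω} (hΔ : Nat.card Δ = 4)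
    (hM : ¬ S ≤ stabilizer G Δ) (hU : S ⊓ fixingSubgroup G Δ ≠ ⊥) : SR 4 S := by
  haveI : Fact (Nat.Prime 2) := ⟨Nat.prime_two⟩
  obtain ⟨φ, hφ, -⟩ := exists_act (G := G) Δ hΔ
  obtain ⟨ψ, hψ⟩ := hφ.exists_d8 (T := S ⊓ stabilizer G Δ) inf_le_right hS.to_inf_left
  set T := S ⊓ stabilizer G Δ with hT
  obtain ⟨g, ⟨gS, gN⟩, gT, gg⟩ := H58.Har.exists_sq_mem (hS.to_inf_left (K := normalizer (T : Set G)))
    (H4.lt_inf_normalizer_of_lt hS (lt_of_le_of_ne (inf_le_left : T ≤ S)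
      fun e => hM (e ▸ inf_le_right))).not_ge
  obtain ⟨z, hz, oz, zc⟩ := exists_central_pow (U := S ⊓ fixingSubgroup G Δ) (T := T) hS.to_inf_left
    (inf_le_inf_left _ hφ.le) hU fun t ht u hu =>
      ⟨S.mul_mem (S.mul_mem ht.1 hu.1) (S.inv_mem ht.1), hφ.conj_mem ht.2 hu.2⟩
  have zT : z ∈ T := ⟨hz.1, hφ.le hz.2⟩
  refine TI8.sr (T := T.subgroupOf S) (φ := fun s => ψ s) (g := ⟨g, gS⟩) (z := ⟨z, hz.1⟩)
    ⟨fun a ha b hb => hψ.mul _ ha _ hb, fun u hu u1 e x hx e' => ⟨x.2, h.ti hS hΔ u.2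
      (fun k => u1 (Subtype.ext k)) ((hψ.ker _ hu).1 e).2 ((hψ.ker _ hx).1 e').2⟩,
      fun t => mem_normalizer_iff.1 gN t, gT, gg, zT, fun e => ?_, Subtype.ext ?_,
      (hψ.ker _ zT).2 ⟨zT, hz.2⟩, fun t ht => Subtype.ext (zc _ ht)⟩ hS
  · rw [show z = 1 from congrArg Subtype.val e] at oz; simp at oz
  · exact (pow_two z).symm.trans (oz ▸ pow_orderOf_eq_one z)

theorem FB.sr_four' (h : FB G Ω 2 4) {S : Subgroup G} (hS : IsPGroup 2 S) {Δ Δ' : Set Ω}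
    (hΔ : Nat.card Δ = 4) (hΔ' : Nat.card Δ' = 4) (hne : Δ ≠ Δ') (hM : S ≤ stabilizer G Δ)
    (hM' : S ≤ stabilizer G Δ') : SR 4 S := by
  haveI : Fact (Nat.Prime 2) := ⟨Nat.prime_two⟩
  obtain ⟨φ, hφ, -⟩ := exists_act (G := G) Δ hΔ
  obtain ⟨φ', hφ', -⟩ := exists_act (G := G) Δ' hΔ'
  obtain ⟨ψ, hψ⟩ := hφ.exists_d8 hM hS
  obtain ⟨ψ', hψ'⟩ := hφ'.exists_d8 hM' hS
  let f := hψ.hom le_rfl
  let f' := (hψ'.hom le_rfl).comp f.ker.subtype
  have hf : Function.Injective f' := (injective_iff_map_eq_one _).2 fun a ha =>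
    Subtype.ext (Subtype.ext (mem_bot.1 ((h.inf_eq_bot hS hΔ hΔ' hne).le
      ⟨(hψ.ker _ a.1.2).1 a.2, ((hψ'.ker _ a.1.2).1 ha).2⟩)))
  refine Mac.sr_ext (a := 2) (b := 2) f.ker (fun H K hH hsq => ?_)
    (sr_d8.of_injective _ (QuotientGroup.kerLift_injective f))
  rw [← inf_relIndex_right]
  exact sr_subgroup_iff.1 (sr_d8.of_injective f' hf) H _ hH inf_le_right
    fun x hx => ⟨hsq x hx, mul_mem hx hx⟩

theorem FB.even_case [IsSimpleGroup G] [FaithfulSMul G Ω] [IsPretransitive G Ω] {f : ℕ}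
    (h : FB G Ω 2 f) {t : G} (ht : orderOf t = 2) (hf : Nat.card (fixedBy Ω t) = f) (h1 : 1 ≤ f)
    (h4 : f ≤ 4) (S : Sylow 2 G) : (∃ H : Subgroup G, IsStronglyEmbedded H) ∨
      (f ≤ 3 ∧ ((∃ n : ℕ, Nonempty ((S : Subgroup G) ≃* DihedralGroup n)) ∨
        IsQuasiDihedral (S : Subgroup G))) ∨ (f = 4 ∧ SectionalPRankLE 2 4 G) := by
  haveI : Fact (Nat.Prime 2) := ⟨Nat.prime_two⟩
  have hm : f ≤ 3 → ¬ 2 ^ 2 ∣ f.factorial := fun _ => by interval_cases f <;> simp_all [Nat.factorial]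
  rcases h.tri S ht hf with ⟨Δ, hΔ, hM, hU⟩ | ⟨Δ, Δ', hΔ, hΔ', hne, hM, hM', hU, hU'⟩ |
    ⟨Δ, hΔ, hM, hU, hc⟩
  · rcases h4.eq_or_lt with rfl | h4
    · exact Or.inr (Or.inr ⟨rfl, sectional_of_sylow S (h.sr_four S.isPGroup' hΔ hM hU)⟩)
    obtain ⟨x, hx, ox, hc, -, hn, -⟩ := h.not_le S.isPGroup' hΔ (hm (by omega)) hM hU
    have e : centralizer {(⟨x, hx.1⟩ : (S : Subgroup G))} =
        ((S : Subgroup G) ⊓ centralizer {x}).subgroupOf S := by
      ext g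
      simp [mem_centralizer_singleton_iff, mem_subgroupOf, Subtype.ext_iff]
    refine Or.inr (Or.inl ⟨by omega, ?_⟩)
    rcases Cfsg.Agent.S3224.result S.isPGroup' ⟨x, hx.1⟩ (by rwa [orderOf_mk]) (by
      rw [e, Nat.card_congr (subgroupOfEquivOfLe inf_le_left).toEquiv, hc]; rfl) with k | k | k
    exacts [Or.inl k, Or.inr k, (hn (inf_eq_left.1 (eq_of_le_of_card_ge inf_le_left (by
      rw [k, hc]; rfl)))).elim]
  · rcases h4.eq_or_lt with rfl | h4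
    · exact Or.inr (Or.inr ⟨rfl, sectional_of_sylow S (h.sr_four' S.isPGroup' hΔ hΔ' hne hM hM')⟩)
    obtain ⟨k1, -, k2⟩ := h.two_blocks S.isPGroup' hΔ (hm (by omega)) hΔ' hne hM hM' hU hU'
    haveI : Nontrivial (S : Subgroup G) := Finite.one_lt_card_iff_nontrivial.1 (by rw [k1]; norm_num)
    haveI : IsKleinFour (S : Subgroup G) :=
      ⟨k1, (Monoid.exponent_eq_prime_iff Nat.prime_two).2 fun g hg =>
        orderOf_eq_prime (Subtype.ext (k2 g g.2)) hg⟩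
    exact Or.inr (Or.inl ⟨by omega, Or.inl ⟨2, IsKleinFour.nonempty_mulEquiv⟩⟩)
  · obtain ⟨φ, hφ, -⟩ := exists_act (G := G) Δ hΔ
    obtain ⟨z, hz, oz, zc⟩ := exists_central_pow S.isPGroup' inf_le_left hU fun t ht u hu =>
      ⟨S.1.mul_mem (S.1.mul_mem ht hu.1) (S.1.inv_mem ht), hφ.conj_mem (hM ht) hu.2⟩
    have z1 : z ≠ 1 := fun e => by simp [e] at oz
    have zz : z * z = 1 := (pow_two z).symm.trans (oz ▸ pow_orderOf_eq_one z)
    refine Or.inl (Cfsg.Agent.S1175.result (stabilizer G Δ) (stabilizer_ne_top (by omega) hU) z oz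
      (hφ.le hz.2) ⟨S, hz.1, zc⟩ (hc z hz z1) fun g h1 h3 x hx => ?_)
    have h5 := hφ.conj_mem (hc z hz z1 g (h.cent S.isPGroup' hΔ hz.1 z1 hz.2 h1.symm)) hz.2
    have h6 : z * (g * z * g⁻¹) ≠ 1 := fun e => h3 (by
      rw [eq_inv_of_mul_eq_one_right e, inv_eq_of_mul_eq_one_right zz])
    exact h.cent (P := zpowers (z * (g * z * g⁻¹))) (IsPGroup.of_card (n := 1) (by
      rw [Nat.card_zpowers, pow_one]
      exact orderOf_eq_prime (by
        rw [pow_two]; exact sq_mul_sq zz (by rw [conj_mul, zz]; simp) h1) h6)) hΔ (mem_zpowers _) h6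
      (mul_mem hz.2 h5) (mem_centralizer_singleton_iff.1 hx)

end H81
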