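import Mathlib
import Cfsg.Agent.Base
import Cfsg.Agent.Lib.H81.Fix4b
import Cfsg.Agent.Lib.H81.MC3

/-! Simple transitive groups with odd point stabilizers in which elements of order 3 fix at most
four points. -/

set_option autoImplicit false
set_option linter.style.haveILetI false
set_option linter.unusedSectionVars false

namespace H81

open Cfsg Subgroup MulAction
open scoped Pointwise

theorem perm_fix : ∀ m ≤ 4, ∀ y g : Equiv.Perm (Fin m), y ≠ 1 → y ^ 3 = 1 →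
    ∃ i j : Fin 3, ∃ b, (g * ((g * y * g⁻¹) ^ j.val * y ^ i.val)) b = b := by
  intro m hm
  interval_cases m <;> decide +kernel

set_option synthInstance.maxSize 1000 in
theorem perm_cyc : ∀ m ≤ 4, ∀ a b : Equiv.Perm (Fin m), a ^ 3 = 1 → b ^ 3 = 1 → (a * b) ^ 3 = 1 →
    (a⁻¹ * b) ^ 3 = 1 → a ≠ 1 → b ≠ 1 → b = a ∨ b = a⁻¹ := by
  intro m hm
  interval_cases m <;> decide +kernel

variable {G : Type*} [Group G]

theorem sq_of_odd_inv {g d : G} {n : ℕ} (hg : Odd n) (hn : g ^ n = 1) (hi : g * d * g⁻¹ = d⁻¹) :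
    d * d = 1 := by
  have e2 : Commute (g ^ 2) d := by
    have : g * (g * d * g⁻¹) * g⁻¹ = d := by rw [hi, ← conj_inv, hi, inv_inv]
    rw [Commute, SemiconjBy, sq]
    conv_rhs => rw [← this]
    group
  obtain ⟨k, rfl⟩ := hg
  have e4 : Commute g d := by
    rw [pow_succ, pow_mul, mul_eq_one_iff_eq_inv] at hn
    simpa [hn] using (e2.pow_left k).inv_left
  rw [e4.eq, mul_inv_cancel_right] at hi
  exact eq_inv_iff_mul_eq_one.1 hi

variable {Ω : Type*} [MulAction G Ω] [Finite G] [Finite Ω]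

theorem exists_odd_act {M K : Subgroup G} {m : ℕ} {φ : G → Equiv.Perm (Fin m)} (h : Act M K φ)
    (hf : ∀ a ∈ M, ∀ b, φ a b = b → ∃ x : Ω, a • x = x) (h4 : m ≤ 4)
    (ho : ∀ (g : G) (x : Ω), g • x = x → Odd (orderOf g)) {y g : G} (hy : y ∈ M) (hg : g ∈ M)
    (y1 : y ∉ K) (y3 : y ^ 3 ∈ K) :
    ∃ i j : ℕ, Odd (orderOf (g * ((g * y * g⁻¹) ^ j * y ^ i))) := by
  obtain ⟨i, j, b, e⟩ := perm_fix m h4 (φ y) (φ g) (fun e => y1 ((h.ker y hy).1 e))
    (by rw [← h.pow hy]; exact (h.ker _ (pow_mem hy 3)).2 y3)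
  have h1 := mul_mem (mul_mem hg hy) (inv_mem hg)
  have h2 := mul_mem (pow_mem h1 j) (pow_mem hy i)
  obtain ⟨x, hx⟩ := hf _ (mul_mem hg h2) b (by
    rwa [h.mul _ hg _ h2, h.mul _ (pow_mem h1 j) _ (pow_mem hy i), h.pow h1, h.pow hy, h.conj hg hy])
  exact ⟨i, j, ho _ x hx⟩

theorem FB.odd_case [IsSimpleGroup G] [FaithfulSMul G Ω] [IsPretransitive G Ω] (hG : commutator G = ⊤)
    {m : ℕ} (h : FB G Ω 3 m) {t : G} (ht : orderOf t = 3) (hf : Nat.card (fixedBy Ω t) = m) (h1 : 1 ≤ m)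
    (h4 : m ≤ 4) (ho : ∀ (g : G) (x : Ω), g • x = x → Odd (orderOf g)) (P : Sylow 3 G) :
    (∃ H : Subgroup G, H ≠ ⊤ ∧ 3 ∣ Nat.card H ∧
      ∀ g : G, g ∉ H → ¬ 3 ∣ Nat.card ↥(H ⊓ H.map (MulAut.conj g).toMonoidHom)) ∨
    (Nat.card P = 9 ∧ ∀ x ∈ (P : Subgroup G), x ^ 3 = 1) := by
  haveI : Fact (Nat.Prime 3) := ⟨Nat.prime_three⟩
  have hm : ¬ 3 ^ 2 ∣ m.factorial := by interval_cases m <;> simp [Nat.factorial]
  have hP := P.isPGroup'
  rcases h.tri P ht hf with ⟨Δ, hΔ, hM, hU⟩ | ⟨Δ, Δ', hΔ, hΔ', hne, hM, hM', hU, hU'⟩ |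
    ⟨Δ, hΔ, hM, hU, hc⟩
  · obtain ⟨x, hx, ox, hc, he, hn, y, hy, yK⟩ := h.not_le hP hΔ hm hM hU
    obtain ⟨φ, hφ, hfix⟩ := exists_act (G := G) Δ hΔ
    obtain ⟨g, hg⟩ := isConj_iff.1 (mc3 hG P hx.1 ox hc he hn)
    have x1 : x ≠ 1 := fun e => by simp [e] at ox
    have yx : Commute y x := mem_centralizer_singleton_iff.1 hy.2
    obtain ⟨i, j, e⟩ := exists_odd_act hφ hfix h4 ho (h.cent hP hΔ hx.1 x1 hx.2 yx)
      (h.ti hP hΔ hx.1 x1 hx.2 (hg ▸ (fixingSubgroup G Δ).inv_mem hx.2)) yK (he y hy ▸ one_mem _)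
    have h5 : Commute (g * y * g⁻¹) x := by
      have := (yx.map (MulAut.conj g)).inv_right
      rwa [MulAut.conj_apply, MulAut.conj_apply, hg, inv_inv] at this
    have h6 := sq_of_odd_inv e (pow_orderOf_eq_one _) (d := x) (by
      rw [mul_assoc g, ((h5.pow_left j).mul_left (yx.pow_left i)).eq, ← hg]; group)
    have := orderOf_dvd_of_pow_eq_one ((pow_two x).trans h6)
    rw [ox] at this
    omega
  · obtain ⟨k1, -, k2⟩ := h.two_blocks hP hΔ hm hΔ' hne hM hM' hU hU'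
    exact Or.inr ⟨k1, k2⟩
  obtain ⟨φ, hφ, hfix⟩ := exists_act (G := G) Δ hΔ
  set K := fixingSubgroup G Δ with hK
  set M := stabilizer G Δ with hM'
  have p3 : ∀ a ∈ (P : Subgroup G), a ^ 3 ∈ K := fun a ha =>
    hφ.pow_mem (by rwa [Nat.card_perm, Nat.card_fin]) hM hP ha
  have p3' : ∀ a ∈ (P : Subgroup G), φ a ^ 3 = 1 := fun a ha => by
    rw [← hφ.pow (hM ha)]; exact (hφ.ker _ (hM (pow_mem ha 3))).2 (p3 a ha)
  have key : ∀ g ∈ M, ∀ a ∈ (P : Subgroup G), g * a * g⁻¹ ∈ (P : Subgroup G) → a⁻¹ * (g * a * g⁻¹) ∈ K :=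
    fun g hg a ha hga => by
      by_cases aK : a ∈ K
      · exact mul_mem (inv_mem aK) (hφ.conj_mem hg aK)
      have a1 : φ a ≠ 1 := fun e => aK ((hφ.ker a (hM ha)).1 e)
      rcases perm_cyc m h4 _ _ (p3' a ha) (p3' _ hga) (by rw [← hφ.mul _ (hM ha) _ (hM hga), p3' _ (mul_mem ha hga)])
        (by rw [← hφ.inv (hM ha), ← hφ.mul _ (hM (inv_mem ha)) _ (hM hga), p3' _ (mul_mem (inv_mem ha) hga)]) a1
        (by rw [hφ.conj hg (hM ha)]; simpa using a1) with e | e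
      · exact (hφ.ker _ (hM (mul_mem (inv_mem ha) hga))).1 (by
          rw [hφ.mul _ (hM (inv_mem ha)) _ (hM hga), e, hφ.inv (hM ha), inv_mul_cancel])
      obtain ⟨i, j, e1⟩ := exists_odd_act hφ hfix h4 ho (hM ha) hg aK (p3 a ha)
      have h2 := mul_mem (pow_mem (hM hga) j) (pow_mem (hM ha) i)
      have h6 := sq_of_odd_inv e1 (g := φ (g * ((g * a * g⁻¹) ^ j * a ^ i))) (d := φ a)
        (by rw [← hφ.pow (mul_mem hg h2), pow_orderOf_eq_one, hφ.one]) (by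
        rw [hφ.mul _ hg _ h2, hφ.mul _ (pow_mem (hM hga) j) _ (pow_mem (hM ha) i), hφ.pow (hM hga),
          hφ.pow (hM ha), e]
        rw [hφ.conj hg (hM ha)] at e
        conv_rhs => rw [← e]
        group)
      have := p3' a ha
      rw [pow_succ, pow_two, h6, one_mul] at this
      exact (a1 this).elim
  have hPK : (P : Subgroup G) ≤ K := by
    have fus : ∀ a ∈ (P : Subgroup G), ∀ g, g * a * g⁻¹ ∈ (P : Subgroup G) → a⁻¹ * (g * a * g⁻¹) ∈ K :=
      fun a ha g hg => by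
        refine H4.alperin_catches P (Φ := fun A g => ∀ a ∈ A, a⁻¹ * (g * a * g⁻¹) ∈ K)
          ⟨fun h1 _ _ h2 a ha => h2 a (h1 ha), fun {A g k} _ _ _ h1 h2 a ha => ?_,
            fun {A g} _ _ h1 => ?_⟩ (fun _ => True) (H4.exists_fullyNorm_conj_true P) (fun n hn a ha => ?_)
          (fun D hD hF _ H hH e => ?_) (zpowers_le.2 ha) (H4.conj_smul_le_iff.2 ?_) a (mem_zpowers a)
        · simpa [mul_assoc] using mul_mem (h1 a ha) (h2 _ (smul_mem_pointwise_smul _ _ _ ha))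
        · rintro _ ⟨a, ha, rfl⟩
          simpa [mul_assoc] using inv_mem (h1 a ha)
        · obtain ⟨u, hu, u1⟩ := ne_bot_iff.1 hU
          exact key n (hc u hu u1 n (hM ((mem_normalizer_iff.1 hn u).1 hu.1))) a ha
            ((mem_normalizer_iff.1 hn a).1 ha)
        · by_cases hDK : D ⊓ K = ⊥
          · by_contra hne
            obtain ⟨z, hz, oz, zc⟩ := exists_central_pow hP inf_le_left hU fun t ht u hu =>
              ⟨P.1.mul_mem (P.1.mul_mem ht hu.1) (P.1.inv_mem ht), hφ.conj_mem (hM ht) hu.2⟩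
            have := hDK.le ⟨hH.inf_centralizer_le hP hD hF (fun c hc => (e c).2
              ⟨centralizer_le_normalizer _ hc, fun a ha => by rw [← hc a ha]; simp⟩) hne
              ⟨hz.1, fun d hd => zc d (hD.le hd)⟩, hz.2⟩
            simp [mem_bot.1 this] at oz
          · obtain ⟨u, hu, u1⟩ := ne_bot_iff.1 hDK
            exact fun n hn => (e n).2 ⟨hn, fun a ha => key n (hc u ⟨hD.le hu.1, hu.2⟩ u1 n
              (hM (hD.le ((mem_normalizer_iff.1 hn u).1 hu.1)))) a (hD.le ha)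
              (hD.le ((mem_normalizer_iff.1 hn a).1 ha))⟩
        · rintro _ ⟨i, rfl⟩
          simpa using zpow_mem hg i
    have := commutator_inf_eq_focalSubgroup P
    rw [hG, top_inf_eq] at this
    rw [this, focalSubgroup_def, closure_le]
    rintro _ ⟨h1, x, hx, u, rfl⟩
    simpa [commutatorElement_def, mul_assoc] using fus _ (inv_mem hx) u (by
      simpa [commutatorElement_def, mul_assoc] using mul_mem (inv_mem hx) h1)
  refine Or.inl ⟨M, stabilizer_ne_top (by omega) hU, (H69.dvd_card_of_ne_bot hP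
    fun e => hU (by simp [e])).trans (card_dvd_of_le hM), fun g hg hd => hg ?_⟩
  obtain ⟨⟨_, h5, y, hy, rfl⟩, oy⟩ := exists_prime_orderOf_dvd_card' 3 hd
  replace oy : orderOf y = 3 := ((MulAut.conj g).orderOf_eq y).symm.trans ((Subgroup.orderOf_coe _).trans oy)
  obtain ⟨d, hd, e⟩ := H4.exists_conj_le_sylow_of_le P hM (T := zpowers y)
    (IsPGroup.of_card (n := 1) (by rw [Nat.card_zpowers, oy, pow_one])) (zpowers_le.2 hy)
  have h6 := e y (mem_zpowers y)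
  exact (M.mul_mem_cancel_right (inv_mem hd)).1 (hc _ ⟨h6, hPK h6⟩
    (fun k => by simp [conj_eq_one_iff.1 k] at oy) _ (by simpa [mul_assoc] using h5))

end H81
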