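import Mathlib
import Cfsg.Agent.Base
import Cfsg.Agent.Lib.H81.Reg2
import Cfsg.Agent.Lib.Zass.OddTwoPoint
import Cfsg.Agent.Lib.CIT.Main
import Cfsg.Agent.Lib.CIT.Gen
import Cfsg.Agent.Lib.GL.Basic
import Cfsg.Agent.S2202
import Cfsg.Agent.S0742
import Cfsg.Agent.S0885
import Cfsg.Agent.S0738
import Cfsg.Agent.S0731
import Cfsg.Agent.S0338
import Cfsg.Agent.S0346

/-! Doubly transitive groups with an involution whose centraliser has constant fixity. -/

set_option autoImplicit false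

namespace H81

open MulAction Subgroup

variable {G Ω : Type*} [Group G] [MulAction G Ω]

/-- consequences of the counting argument -/
structure CF (G Ω : Type*) [Group G] [MulAction G Ω] (i : ℕ) : Prop where
  h2 : IsMultiplyPretransitive G Ω 2
  swap : ∀ (s : G) (a b : Ω), a ≠ b → s • a = b → s • b = a → s * s = 1
  fixi : ∀ u : G, u ≠ 1 → u * u = 1 → ∀ c : G, c * u = u * c → c ≠ 1 →
    {x : Ω | c • x = x}.ncard = i
  cardC : ∀ u : G, u ≠ 1 → u * u = 1 → Nat.card (centralizer ({u} : Set G)) + i = Nat.card Ω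
  conj : ∀ u v : G, u ≠ 1 → u * u = 1 → v ≠ 1 → v * v = 1 → ∃ g : G, g⁻¹ * u * g = v
  ex : ∃ t : G, t ≠ 1 ∧ t * t = 1

theorem exists_smul_ne [FaithfulSMul G Ω] {g : G} (hg : g ≠ 1) : ∃ a : Ω, g • a ≠ a := by
  by_contra h
  push Not at h
  exact hg (FaithfulSMul.eq_of_smul_eq_smul (α := Ω) fun a => by rw [h, one_smul])

theorem cf_of [Finite G] [Finite Ω] [FaithfulSMul G Ω] (h2 : IsMultiplyPretransitive G Ω 2) (i : ℕ)
    (t : G) (ht1 : t ≠ 1) (ht : t * t = 1)
    (hC : ∀ g : G, g * t = t * g → g ≠ 1 → {x : Ω | g • x = x}.ncard = i) : CF G Ω i := by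
  have hti := hC t rfl ht1
  have hX : {x : Ω | t • x ≠ x}.ncard + i = Nat.card Ω := by
    rw [← hti, add_comm]
    exact Set.ncard_add_ncard_compl {x : Ω | t • x = x}
  have hXpos : 0 < {x : Ω | t • x ≠ x}.ncard := by
    rw [Set.ncard_pos]
    exact exists_smul_ne ht1
  have hdvd := card_dvd_of_fix (Ω := Ω) (centralizer ({t} : Set G)) i
    (fun c hc => hC c (mem_centralizer_singleton_iff.1 hc)) (by omega)
  have key : ∀ a b : Ω, a ≠ b → (Nat.card (centralizer ({t} : Set G)) + i = Nat.card Ω) ∧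
      ∀ s : G, s • a = b → s • b = a → ∃ g : G, g⁻¹ * t * g = s := by
    intro a b hab
    set E : Set G := {g | t • g • a = g • b} with hE
    set S : Set G := {s | s • a = b ∧ s • b = a} with hS
    have hSc : S.ncard = Nat.card ↥(stabilizer G a ⊓ stabilizer G b) :=
      ncard_transporter h2 hab hab.symm
    have h1 := H80.ncard_eq_mul_of_fiber E {x : Ω | t • x ≠ x} (fun g => g • a)
      (fun g hg h => hab (smul_left_cancel g (h.symm.trans hg)))
      (Nat.card ↥(stabilizer G a ⊓ stabilizer G b)) fun x hx => by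
        rw [← ncard_transporter h2 hab (x := x) (y := t • x) (fun e => hx e.symm)]
        congr 1
        ext g
        constructor
        · rintro ⟨h1, h2⟩
          exact ⟨h2, by rw [← h2]; exact h1.symm⟩
        · rintro ⟨h1, h2⟩
          exact ⟨by show t • g • a = g • b; rw [h1, h2], h1⟩
    have h3 := H80.ncard_eq_mul_of_fiber E ((fun g => g⁻¹ * t * g) '' E) (fun g => g⁻¹ * t * g)
      (fun g hg => ⟨g, hg, rfl⟩) (Nat.card (centralizer ({t} : Set G))) (by
        rintro _ ⟨g0, hg0, rfl⟩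
        rw [← ncard_conj_fiber g0 rfl]
        congr 1
        ext g
        refine ⟨fun h => h.2, fun h => ⟨?_, h⟩⟩
        have h' : g⁻¹ * t * g = g0⁻¹ * t * g0 := h
        have h0 : t • g0 • a = g0 • b := hg0
        show t • g • a = g • b
        rw [← inv_smul_eq_iff, ← mul_smul, ← mul_smul] at h0 ⊢
        rw [h', h0])
    have hsub : (fun g => g⁻¹ * t * g) '' E ⊆ S := by
      rintro _ ⟨g, hg, rfl⟩
      have h0 : t • g • a = g • b := hg
      refine ⟨by rw [mul_smul, mul_smul, h0, inv_smul_smul], ?_⟩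
      rw [mul_smul, mul_smul, ← h0, ← mul_smul t t, ht, one_smul, inv_smul_smul]
    have hle := Set.ncard_le_ncard hsub
    have hD : 0 < Nat.card ↥(stabilizer G a ⊓ stabilizer G b) := Nat.card_pos
    have hle2 : Nat.card (centralizer ({t} : Set G)) ≤ {x : Ω | t • x ≠ x}.ncard := by
      have := Nat.le_of_dvd (by omega) hdvd
      omega
    have hge : {x : Ω | t • x ≠ x}.ncard ≤ Nat.card (centralizer ({t} : Set G)) := by
      apply Nat.le_of_mul_le_mul_left _ hD
      rw [← h1, h3, mul_comm, ← hSc]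
      exact Nat.mul_le_mul_right _ hle
    have heq : Nat.card (centralizer ({t} : Set G)) = {x : Ω | t • x ≠ x}.ncard :=
      le_antisymm hle2 hge
    refine ⟨by omega, fun s h1' h2' => ?_⟩
    have : (fun g => g⁻¹ * t * g) '' E = S := by
      apply Set.eq_of_subset_of_ncard_le hsub
      apply Nat.le_of_mul_le_mul_left _ hXpos
      rw [hSc, mul_comm, ← h1, h3, heq]
    obtain ⟨g, -, hg⟩ : s ∈ (fun g => g⁻¹ * t * g) '' E := by rw [this]; exact ⟨h1', h2'⟩
    exact ⟨g, hg⟩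
  have hconj : ∀ u : G, u ≠ 1 → u * u = 1 → ∃ g : G, g⁻¹ * t * g = u := by
    intro u h1 hu
    obtain ⟨a, ha⟩ := exists_smul_ne (Ω := Ω) h1
    exact (key a (u • a) ha.symm).2 u rfl (by rw [← mul_smul, hu, one_smul])
  refine ⟨h2, fun s a b hab h1 h2 => ?_, fun u h1 hu c hc c1 => ?_, fun u h1 hu => ?_,
    fun u v u1 hu v1 hv => ?_, t, ht1, ht⟩
  · obtain ⟨g, rfl⟩ := (key a b hab).2 s h1 h2
    calc g⁻¹ * t * g * (g⁻¹ * t * g) = g⁻¹ * (t * t) * g := by group
      _ = 1 := by rw [ht]; group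
  · obtain ⟨g, rfl⟩ := hconj u h1 hu
    have e : c = g⁻¹ * (g * c * g⁻¹) * g := by group
    rw [e, ncard_fix_conj]
    refine hC _ ?_ fun h => c1 (by rw [e, h]; group)
    calc g * c * g⁻¹ * t = g * (c * (g⁻¹ * t * g)) * g⁻¹ := by group
      _ = t * (g * c * g⁻¹) := by rw [hc]; group
  · obtain ⟨g, rfl⟩ := hconj u h1 hu
    obtain ⟨a, ha⟩ := exists_smul_ne (Ω := Ω) ht1
    rw [← (key a (t • a) ha.symm).1, ← ncard_conj_fiber (t := g⁻¹ * t * g) 1 rfl,
      ← ncard_conj_fiber (t := t) g rfl, ← H80.ncard_image_mul_left g]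
    congr 2
    ext x
    constructor
    · rintro ⟨y, hy, rfl⟩
      have hy' : y⁻¹ * (g⁻¹ * t * g) * y = 1⁻¹ * (g⁻¹ * t * g) * 1 := hy
      show (g * y)⁻¹ * t * (g * y) = g⁻¹ * t * g
      calc (g * y)⁻¹ * t * (g * y) = y⁻¹ * (g⁻¹ * t * g) * y := by group
        _ = _ := by rw [hy']; group
    · intro hx
      have hx' : x⁻¹ * t * x = g⁻¹ * t * g := hx
      refine ⟨g⁻¹ * x, ?_, by simp⟩
      show (g⁻¹ * x)⁻¹ * (g⁻¹ * t * g) * (g⁻¹ * x) = 1⁻¹ * (g⁻¹ * t * g) * 1
      calc (g⁻¹ * x)⁻¹ * (g⁻¹ * t * g) * (g⁻¹ * x) = x⁻¹ * t * x := by group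
        _ = _ := by rw [hx']; group
  · obtain ⟨g, rfl⟩ := hconj u u1 hu
    obtain ⟨g', rfl⟩ := hconj v v1 hv
    exact ⟨g⁻¹ * g', by group⟩

/-- the conclusion -/
def Concl (G Ω : Type*) [Group G] [MulAction G Ω] : Prop :=
  (∃ (F : Type) (_ : Field F) (_ : Fintype F),
    Nonempty (G ≃* Matrix.ProjectiveSpecialLinearGroup (Fin 2) F)) ∨
  Cfsg.Lie.IsoSuzuki G ∨ HasReg G Ω

namespace CF

variable {i : ℕ} (h : CF G Ω i)
include h

/-- an element swapping two points inverts their pointwise stabiliser -/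
theorem inv {s d : G} {a b : Ω} (hab : a ≠ b) (h1 : s • a = b) (h2 : s • b = a)
    (ha : d • a = a) (hb : d • b = b) : s * d * s⁻¹ = d⁻¹ := by
  have e1 := h.swap s a b hab h1 h2
  have e2 := h.swap (s * d) a b hab (by rw [mul_smul, ha, h1]) (by rw [mul_smul, hb, h2])
  rw [inv_eq_of_mul_eq_one_right e1, eq_inv_iff_mul_eq_one, ← e2]
  group

theorem comm {d e : G} {a b : Ω} (hab : a ≠ b) (ha : d • a = a) (hb : d • b = b)
    (ha' : e • a = a) (hb' : e • b = b) : d * e = e * d := by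
  obtain ⟨s, h1, h2⟩ := H26.trans2 h.h2 hab hab.symm
  have e1 := h.inv hab h1 h2 ha hb
  have e2 := h.inv hab h1 h2 ha' hb'
  have e3 := h.inv (d := d * e) hab h1 h2 (by rw [mul_smul, ha', ha]) (by rw [mul_smul, hb', hb])
  have : (d * e)⁻¹ = (e * d)⁻¹ := by
    rw [← e3, mul_inv_rev, ← e1, ← e2]; group
  exact inv_injective this

/-- an element fixing three points is inverted by an element fixing one of them -/
theorem three {d : G} {a b c : Ω} (hab : a ≠ b) (hbc : b ≠ c) (hac : a ≠ c) (ha : d • a = a)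
    (hb : d • b = b) (hc : d • c = c) : ∃ g : G, g • b = b ∧ g * d * g⁻¹ = d⁻¹ := by
  obtain ⟨s1, p1, q1⟩ := H26.trans2 h.h2 hab hab.symm
  obtain ⟨s2, p2, q2⟩ := H26.trans2 h.h2 hac hac.symm
  obtain ⟨s3, p3, q3⟩ := H26.trans2 h.h2 hbc hbc.symm
  have e1 := h.inv hab p1 q1 ha hb
  have e2 := h.inv (d := d⁻¹) hac p2 q2 (by rw [inv_smul_eq_iff, ha]) (by rw [inv_smul_eq_iff, hc])
  have e3 := h.inv hbc p3 q3 hb hc
  refine ⟨s1 * s2 * s3, by rw [mul_smul, mul_smul, p3, q2, p1], ?_⟩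
  calc s1 * s2 * s3 * d * (s1 * s2 * s3)⁻¹ = s1 * (s2 * (s3 * d * s3⁻¹) * s2⁻¹) * s1⁻¹ := by group
    _ = d⁻¹ := by rw [e3, e2, inv_inv, e1]

theorem even [Finite G] : Even (Nat.card G) := by
  obtain ⟨t, t1, ht⟩ := h.ex
  rw [even_iff_two_dvd, ← orderOf_eq_prime (p := 2) (by rw [sq, ht]) t1]
  exact orderOf_dvd_natCard t

theorem nontrivial [FaithfulSMul G Ω] : Nontrivial Ω := by
  obtain ⟨t, t1, -⟩ := h.ex
  obtain ⟨a, ha⟩ := exists_smul_ne (Ω := Ω) t1
  exact ⟨⟨_, _, ha⟩⟩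

/-- at least three fixed points: centralisers of involutions are elementary abelian -/
theorem sq_eq_one [Finite Ω] (hi : 3 ≤ i) {t : G} (t1 : t ≠ 1) (ht : t * t = 1) {c : G}
    (hc : c * t = t * c) : c * c = 1 := by
  have hF := h.fixi t t1 ht t rfl t1
  -- elements moving a fixed point of `t`
  have out : ∀ c : G, c * t = t * c → (∃ x : Ω, t • x = x ∧ c • x ≠ x) → c * c = 1 := by
    rintro c hc ⟨x, hx, hcx⟩
    have c1 : c ≠ 1 := by rintro rfl; exact hcx (one_smul _ _)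
    have hF' := h.fixi t t1 ht c hc c1
    obtain ⟨y, hy, hty⟩ : ∃ y : Ω, c • y = y ∧ t • y ≠ y := by
      by_contra hcon
      push Not at hcon
      have : {x : Ω | c • x = x} = {x : Ω | t • x = x} :=
        Set.eq_of_subset_of_ncard_le hcon (by rw [hF, hF'])
      have hx' : x ∈ {x : Ω | c • x = x} := by rw [this]; exact hx
      exact hcx hx'
    have := h.inv (s := t) (d := c) hty.symm rfl (by rw [← mul_smul, ht, one_smul]) hy
      (by rw [← mul_smul, hc, mul_smul, hy])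
    rw [← hc, mul_inv_cancel_right] at this
    exact eq_inv_iff_mul_eq_one.1 this
  by_cases hm : ∃ x : Ω, t • x = x ∧ c • x ≠ x
  · exact out c hc hm
  push Not at hm
  obtain ⟨a, b, e, ha, hb, he, hab, hae, hbe⟩ :=
    (Set.two_lt_ncard_iff (s := {x : Ω | t • x = x})).1 (by omega)
  obtain ⟨g, -, hg⟩ := h.three hab hbe hae (hm a ha) (hm b hb) (hm e he)
  obtain ⟨s1, p1, q1⟩ := H26.trans2 h.h2 hab hab.symm
  obtain ⟨s2, p2, q2⟩ := H26.trans2 h.h2 hae hae.symm
  have tinv : t⁻¹ = t := inv_eq_of_mul_eq_one_right ht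
  have c1 : s1 * t = t * s1 := by
    have := h.inv hab p1 q1 ha hb
    rw [tinv, mul_inv_eq_iff_eq_mul] at this
    exact this
  have c2 : s2 * t = t * s2 := by
    have := h.inv hae p2 q2 ha he
    rw [tinv, mul_inv_eq_iff_eq_mul] at this
    exact this
  have e1 := h.inv hab p1 q1 (hm a ha) (hm b hb)
  have e2 := h.inv hae p2 q2 (hm a ha) (hm e he)
  have hne : (s1 * s2) • a ≠ a := by
    rw [mul_smul, p2]
    intro h'
    exact hbe (smul_left_cancel s1 (q1.trans h'.symm))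
  have c12 : s1 * s2 * t = t * (s1 * s2) := by rw [mul_assoc, c2, ← mul_assoc, c1, mul_assoc]
  have o1 := out (s1 * s2) c12 ⟨a, ha, hne⟩
  have o2 := out (s1 * s2 * c) (by rw [mul_assoc, hc, ← mul_assoc, c12]; group)
    ⟨a, ha, by rw [mul_smul, hm a ha]; exact hne⟩
  have e3 : s1 * s2 * c = c * (s1 * s2) := by
    calc s1 * s2 * c = s1 * (s2 * c * s2⁻¹) * s2 := by group
      _ = (s1 * c * s1⁻¹)⁻¹ * (s1 * s2) := by rw [e2]; group
      _ = c * (s1 * s2) := by rw [e1, inv_inv]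
  calc c * c = (s1 * s2)⁻¹ * (s1 * s2 * c * (s1 * s2 * c)) * c⁻¹ * (s1 * s2)⁻¹ * c := by group
    _ = (s1 * s2)⁻¹ * (s1 * s2 * c)⁻¹ * c := by rw [o2]; group
    _ = (s1 * s2 * (s1 * s2))⁻¹ := by rw [e3]; group
    _ = 1 := by rw [o1, inv_one]

theorem concl_big [Finite G] [Finite Ω] [FaithfulSMul G Ω] (hi : 3 ≤ i) : Concl G Ω := by
  have hab : ∀ t : G, orderOf t = 2 → IsMulCommutative ↥(centralizer ({t} : Set G)) := by
    intro t ho
    have t1 : t ≠ 1 := by rintro rfl; simp at ho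
    have ht : t * t = 1 := by rw [← sq, ← ho, pow_orderOf_eq_one]
    refine ⟨⟨fun x y => Subtype.ext ?_⟩⟩
    have hx := h.sq_eq_one hi t1 ht (mem_centralizer_singleton_iff.1 x.2)
    have hy := h.sq_eq_one hi t1 ht (mem_centralizer_singleton_iff.1 y.2)
    have hxy := h.sq_eq_one hi t1 ht (mem_centralizer_singleton_iff.1 (x * y).2)
    show (x : G) * y = y * x
    rw [coe_mul] at hxy
    calc (x : G) * y = ((x : G) * (y : G))⁻¹ := (inv_eq_of_mul_eq_one_right hxy).symm
      _ = y * x := by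
        rw [mul_inv_rev, inv_eq_of_mul_eq_one_right hx, inv_eq_of_mul_eq_one_right hy]
  obtain ⟨t, t1, ht⟩ := h.ex
  rcases Cfsg.Agent.S2202.result h.even hab with hc | hn | ⟨F, _, _, A, _, _, hF, -, ⟨e⟩⟩
  · exfalso
    have hF := h.fixi t t1 ht t rfl t1
    obtain ⟨a, b, ha, hb, hab⟩ := (Set.one_lt_ncard_iff (s := {x : Ω | t • x = x})).1 (by omega)
    obtain ⟨s, p1, q1⟩ := H26.trans2 h.h2 hab hab.symm
    have hs := h.swap s a b hab p1 q1
    have c1 : s * t = t * s := by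
      have := h.inv hab p1 q1 ha hb
      rw [inv_eq_of_mul_eq_one_right ht, mul_inv_eq_iff_eq_mul] at this
      exact this
    obtain ⟨P, hP⟩ := (H9.isPGroup_closure_pair_of_commute hs ht c1).exists_le_sylow
    haveI := hc P
    have s1 : s ≠ 1 := by rintro rfl; exact hab (by rw [← p1, one_smul])
    have hsP : s ∈ (P : Subgroup G) := hP (subset_closure (by simp))
    have htP : t ∈ (P : Subgroup G) := hP (subset_closure (by simp))
    haveI : Fintype (P : Subgroup G) := Fintype.ofFinite _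
    classical
    have hle := IsCyclic.card_pow_eq_one_le (α := (P : Subgroup G)) (n := 2) two_pos
    have : ({1, ⟨s, hsP⟩, ⟨t, htP⟩} : Finset (P : Subgroup G)) ⊆
        Finset.univ.filter fun x => x ^ 2 = 1 := by
      intro x hx
      simp only [Finset.mem_insert, Finset.mem_singleton] at hx
      rw [Finset.mem_filter]
      refine ⟨Finset.mem_univ _, ?_⟩
      rcases hx with rfl | rfl | rfl
      · simp
      · exact Subtype.ext (by rw [sq]; exact hs)
      · exact Subtype.ext (by rw [sq]; exact ht)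
    have h3 := Finset.card_le_card this
    rw [Finset.card_eq_three.2 ⟨_, _, _, fun e => s1 (congrArg Subtype.val e).symm,
      fun e => t1 (congrArg Subtype.val e).symm, fun e => hab (by
        have e' : s = t := congrArg Subtype.val e
        rw [← p1, e']; exact ha.symm), rfl⟩] at h3
    omega
  · obtain ⟨P, hP⟩ := (IsPGroup.of_card (p := 2) (n := 1) (G := zpowers t) (by
      rw [Nat.card_zpowers, orderOf_eq_prime (p := 2) (by rw [sq, ht]) t1]; rfl)).exists_le_sylow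
    haveI := hn P
    haveI := P.isPGroup'.isNilpotent
    refine Or.inr (Or.inr (hasReg_of_solvable h.h2 (P : Subgroup G) (fun e => t1 ?_) inferInstance))
    rw [← mem_bot, ← e]
    exact hP (mem_zpowers t)
  · by_cases hA : ∃ a : A, a ≠ 1
    · obtain ⟨a, ha⟩ := hA
      refine Or.inr (Or.inr (hasReg_of_central h.h2 (z := e.symm (1, a)) (fun h' => ha ?_)
        fun g => ?_))
      · have := congrArg e h'
        rw [MulEquiv.apply_symm_apply, map_one] at this
        exact congrArg Prod.snd this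
      · apply e.injective
        rw [map_mul, map_mul, MulEquiv.apply_symm_apply]
        exact Prod.ext (by simp) (mul_comm _ _)
    · push Not at hA
      haveI : Unique A := ⟨⟨1⟩, hA⟩
      have hZ : center (Matrix.SpecialLinearGroup (Fin 2) F) = ⊥ := by
        rw [← card_eq_one, H10.card_center_SL, Fintype.card_fin, Nat.card_eq_fintype_card]
        obtain ⟨n, -, hn⟩ := FiniteField.card F 2
        rw [hn]
        refine Nat.coprime_two_left.2 ?_
        exact Nat.Even.sub_odd (Nat.one_le_pow _ _ two_pos)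
          ((Nat.even_pow' n.ne_zero).2 even_two) odd_one
      exact Or.inl ⟨F, inferInstance, inferInstance, ⟨(e.trans MulEquiv.prodUnique).trans
        (H10.quotCenterEquivOfBot hZ).symm⟩⟩

theorem concl_two [Finite G] [Finite Ω] [FaithfulSMul G Ω] (hi : i = 2) : Concl G Ω := by
  by_cases hno : HasReg G Ω
  · exact Or.inr (Or.inr hno)
  haveI := h.nontrivial
  obtain ⟨t, t1, ht⟩ := h.ex
  have hF := h.fixi t t1 ht t rfl t1
  obtain ⟨a, b, ha, hb, hab⟩ := (Set.one_lt_ncard_iff (s := {x : Ω | t • x = x})).1 (by omega)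
  have hZ : Cfsg.IsZassenhausGroup G Ω := by
    refine isZassenhaus_of h.h2 hno fun g x y z hxy hyz hxz hx hy hz => ?_
    by_contra g1
    obtain ⟨k, k1, k2⟩ := H26.trans2 h.h2 hab hxy
    have hc := h.comm (d := k⁻¹ * g * k) (e := t) hab
      (by rw [mul_smul, mul_smul, k1, hx, ← k1, inv_smul_smul])
      (by rw [mul_smul, mul_smul, k2, hy, ← k2, inv_smul_smul]) ha hb
    have := h.fixi t t1 ht _ hc (fun e => g1 (by
      calc g = k * (k⁻¹ * g * k) * k⁻¹ := by group
        _ = 1 := by rw [e]; group))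
    rw [ncard_fix_conj] at this
    have h3 := (Set.two_lt_ncard_iff (s := {x : Ω | g • x = x})).2
      ⟨x, y, z, hx, hy, hz, hxy, hxz, hyz⟩
    omega
  haveI := Fintype.ofFinite Ω
  have hle : stabilizer G a ⊓ stabilizer G b ≤ centralizer ({t} : Set G) := fun d hd =>
    mem_centralizer_singleton_iff.2 (h.comm hab hd.1 hd.2 ha hb)
  obtain ⟨s, p1, q1⟩ := H26.trans2 h.h2 hab hab.symm
  have c1 : s * t = t * s := by
    have := h.inv hab p1 q1 ha hb
    rw [inv_eq_of_mul_eq_one_right ht, mul_inv_eq_iff_eq_mul] at this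
    exact this
  have hlt : stabilizer G a ⊓ stabilizer G b < centralizer ({t} : Set G) :=
    lt_of_le_of_ne hle fun e => by
      have : s ∈ stabilizer G a ⊓ stabilizer G b := by
        rw [e]; exact mem_centralizer_singleton_iff.2 c1
      exact hab (this.1.symm.trans p1)
  have hcC := h.cardC t t1 ht
  rw [Nat.card_eq_fintype_card (α := Ω)] at hcC
  obtain ⟨m, hm⟩ := card_dvd_of_le hle
  have hm2 : 2 ≤ m := by
    rcases m with _ | _ | m
    · have : 0 < Nat.card (centralizer ({t} : Set G)) := Nat.card_pos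
      omega
    · exact absurd (eq_of_le_of_card_ge hle (by omega)) hlt.ne
    · omega
  obtain ⟨p, f, K, _, _, -, -, -, -, e⟩ := Cfsg.Agent.S0742.result hZ hab (by
    rw [even_iff_two_dvd, ← orderOf_eq_prime (p := 2) (by rw [sq, ht]) t1]
    exact Subgroup.orderOf_dvd_natCard _ ⟨ha, hb⟩) (by
      have := Nat.mul_le_mul_left (Nat.card ↥(stabilizer G a ⊓ stabilizer G b)) hm2
      omega)
  exact Or.inl ⟨K, inferInstance, inferInstance, e⟩

omit h in
theorem exists_invol [Finite G] {K : Subgroup G} (hK : Even (Nat.card K)) :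
    ∃ u ∈ K, u ≠ 1 ∧ u * u = 1 := by
  obtain ⟨u, hu⟩ := exists_prime_orderOf_dvd_card' (G := K) 2 (even_iff_two_dvd.1 hK)
  refine ⟨u, u.2, fun e => ?_, ?_⟩
  · have : u = 1 := Subtype.ext e
    rw [this] at hu; simp at hu
  · rw [← coe_mul, ← sq, ← hu, pow_orderOf_eq_one, coe_one]

omit h in
theorem sq_of_odd {g d : G} (hg : Odd (orderOf g)) (hi : g * d * g⁻¹ = d⁻¹) : d * d = 1 := by
  have e2 : g ^ 2 * d = d * g ^ 2 := by
    rw [sq]
    calc g * g * d = g * (g * d * g⁻¹) * g := by group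
      _ = (g * d * g⁻¹)⁻¹ * (g * g) := by
        conv_lhs => rw [hi]
        group
      _ = d * (g * g) := by rw [hi, inv_inv]
  obtain ⟨k, hk⟩ := hg
  have e3 : g = (g ^ 2) ^ (k + 1) := by
    rw [← pow_mul, show 2 * (k + 1) = orderOf g + 1 by omega, pow_succ, pow_orderOf_eq_one, one_mul]
  have e4 : g * d = d * g := by
    rw [e3]; exact (Commute.pow_left e2 (k + 1))
  rw [e4, mul_inv_cancel_right] at hi
  exact eq_inv_iff_mul_eq_one.1 hi

theorem odd_twoStab [Finite G] [Finite Ω] (hi : i ≤ 1) {a b : Ω} (hab : a ≠ b) :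
    Odd (Nat.card ↥(stabilizer G a ⊓ stabilizer G b)) := by
  rw [← Nat.not_even_iff_odd]
  intro he
  obtain ⟨u, hu, u1, uu⟩ := exists_invol he
  have := h.fixi u u1 uu u rfl u1
  have h2 := (Set.one_lt_ncard_iff (s := {x : Ω | u • x = x})).2 ⟨a, b, hu.1, hu.2, hab⟩
  omega

theorem eq_one_of_sq [Finite Ω] (hi : i ≤ 1) {d : G} {a b : Ω} (hab : a ≠ b) (ha : d • a = a)
    (hb : d • b = b) (hd : d * d = 1) : d = 1 := by
  by_contra d1
  have := h.fixi d d1 hd d rfl d1
  have h2 := (Set.one_lt_ncard_iff (s := {x : Ω | d • x = x})).2 ⟨a, b, ha, hb, hab⟩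
  omega

theorem concl_zero [Finite G] [Finite Ω] [FaithfulSMul G Ω] (hi : i = 0) : Concl G Ω := by
  by_cases hno : HasReg G Ω
  · exact Or.inr (Or.inr hno)
  haveI := h.nontrivial
  have nofix : ∀ u : G, u ≠ 1 → u * u = 1 → ∀ x : Ω, u • x ≠ x := by
    intro u u1 uu x hx
    have := h.fixi u u1 uu u rfl u1
    have h2 := (Set.ncard_pos (s := {x : Ω | u • x = x})).2 ⟨x, hx⟩
    omega
  have hZ : Cfsg.IsZassenhausGroup G Ω := by
    refine isZassenhaus_of h.h2 hno fun d x y z hxy hyz hxz hx hy hz => ?_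
    obtain ⟨g, hg, hgd⟩ := h.three hxy hyz hxz hx hy hz
    refine h.eq_one_of_sq (by omega) hxy hx hy (sq_of_odd ?_ hgd)
    rw [← Nat.not_even_iff_odd, ← Nat.card_zpowers]
    intro he
    obtain ⟨u, hu, u1, uu⟩ := exists_invol he
    exact nofix u u1 uu y ((zpowers_le (H := stabilizer G y)).2 hg hu)
  letI := Fintype.ofFinite Ω
  have hP := H13.Zass.pre_of hZ
  have h4 := hP.four_le_card
  obtain ⟨t, t1, ht⟩ := h.ex
  have hn : Even (Nat.card Ω) := by
    rw [← h.cardC t t1 ht, hi, add_zero, even_iff_two_dvd,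
      ← orderOf_eq_prime (p := 2) (by rw [sq, ht]) t1]
    exact Subgroup.orderOf_dvd_natCard _ (mem_centralizer_singleton_iff.2 rfl)
  obtain ⟨a, b, hb⟩ := exists_pair_ne Ω
  obtain ⟨K, hK⟩ := hP.exists_isKer a
  have hKc := hK.card_add_one hb.symm
  rw [Nat.card_eq_fintype_card (α := Ω)] at hKc h4 hn
  rcases Cfsg.Agent.S0885.result hZ hb (Fintype.card Ω - 1) _ (by omega) rfl
      (h.odd_twoStab (by omega) hb) K hK.le_stabilizer hKc hK.fix with h1 | ⟨h1, -, -⟩
  swap
  · exfalso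
    obtain ⟨n, hn'⟩ := h1.exists_card_eq
    obtain ⟨k, hk⟩ := hn
    rcases n with _ | n
    · omega
    · rw [pow_succ] at hn'; omega
  obtain ⟨hab, -⟩ := Cfsg.Agent.S0738.result hZ hb
    (by rw [Nat.sub_sub] at h1; exact h1) K hK.le_stabilizer hK.normal_subgroupOf hK.existsUnique
  rcases Cfsg.Agent.S0731.result hZ a K hK.le_stabilizer hK.normal_subgroupOf hab hK.existsUnique
    with ⟨h3, -⟩ | ⟨F, _, _, -, hF⟩
  swap
  · exact Or.inl ⟨F, inferInstance, inferInstance, hF⟩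
  exfalso
  obtain ⟨c, -, hca, hcb, -⟩ := hP.exists_two_more hb
  obtain ⟨g, g1, g2, g3⟩ := H26.trans3 h3 hb hca.symm hcb.symm hca.symm hb hcb
  exact nofix g (by rintro rfl; exact hcb (by rw [← g2, one_smul]))
    (h.swap g b c hcb.symm g2 g3) a g1

theorem fix_unique [Finite Ω] (hi : i = 1) {u c : G} (u1 : u ≠ 1) (uu : u * u = 1)
    (hc : c * u = u * c) (c1 : c ≠ 1) {x y : Ω} (hx : c • x = x) (hy : c • y = y) : x = y := by
  by_contra hxy
  have := h.fixi u u1 uu c hc c1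
  have h2 := (Set.one_lt_ncard_iff (s := {x : Ω | c • x = x})).2 ⟨x, y, hx, hy, hxy⟩
  omega

theorem exists_fix [Finite Ω] (hi : i = 1) {u : G} (u1 : u ≠ 1) (uu : u * u = 1) :
    ∃ x : Ω, u • x = x := by
  have := h.fixi u u1 uu u rfl u1
  exact (Set.ncard_pos (s := {x : Ω | u • x = x})).1 (by omega)

theorem cent_fix [Finite Ω] (hi : i = 1) {u c : G} (u1 : u ≠ 1) (uu : u * u = 1)
    (hc : c * u = u * c) {x : Ω} (hx : u • x = x) : c • x = x :=
  h.fix_unique hi u1 uu rfl u1 (by rw [← mul_smul, ← hc, mul_smul, hx]) hx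

/-- the centraliser of an involution is transitive on the remaining points -/
theorem cent_trans [Finite G] [Finite Ω] (hi : i = 1) {u : G} (u1 : u ≠ 1) (uu : u * u = 1) {x : Ω}
    (hx : u • x = x) {y z : Ω} (hy : y ≠ x) (hz : z ≠ x) : ∃ c : G, c * u = u * c ∧ c • y = z := by
  have hc := h.cardC u u1 uu
  have hsub : (fun c : G => c • y) '' (centralizer ({u} : Set G)) ⊆ Set.univ \ {x} := by
    rintro _ ⟨c, hc, rfl⟩
    refine ⟨trivial, fun e => hy ?_⟩
    have e' : c • y = x := e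
    exact smul_left_cancel c (e'.trans
      (h.cent_fix hi u1 uu (mem_centralizer_singleton_iff.1 hc) hx).symm)
  have hinj : Set.InjOn (fun c : G => c • y) (centralizer ({u} : Set G)) := by
    intro c hc c' hc' e
    have e' : c • y = c' • y := e
    have hm : c'⁻¹ * c ∈ centralizer ({u} : Set G) := mul_mem (inv_mem hc') hc
    by_contra hne
    have hm' := mem_centralizer_singleton_iff.1 hm
    refine hy (h.fix_unique hi u1 uu hm' (fun e => hne ?_) ?_ (h.cent_fix hi u1 uu hm' hx))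
    · rw [inv_mul_eq_one] at e; exact e.symm
    · rw [mul_smul, e', inv_smul_smul]
  have := Set.eq_of_subset_of_ncard_le hsub (by
    rw [Set.ncard_image_of_injOn hinj, H80.ncard_coe_subgroup,
      Set.ncard_sdiff_singleton_of_mem (Set.mem_univ x), Set.ncard_univ]; omega)
  obtain ⟨c, hc, e⟩ : z ∈ (fun c : G => c • y) '' (centralizer ({u} : Set G)) := by
    rw [this]; exact ⟨trivial, hz⟩
  exact ⟨c, mem_centralizer_singleton_iff.1 hc, e⟩

theorem no_klein [Finite G] [Finite Ω] (hi : i = 1) {d : G} (d1 : d ≠ 1) {a b c : Ω} (hab : a ≠ b)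
    (hbc : b ≠ c) (hac : a ≠ c) (ha : d • a = a) (hb : d • b = b) (hc : d • c = c)
    (E : Subgroup G) : ¬ IsKleinFour E := by
  have dd : d * d ≠ 1 := fun e => d1 (h.eq_one_of_sq hi.le hab ha hb e)
  have nocent : ∀ u : G, u ≠ 1 → u * u = 1 → d * u ≠ u * d := fun u u1 uu e =>
    hab (h.fix_unique hi u1 uu e d1 ha hb)
  -- an involution fixing `b` and inverting `d`
  obtain ⟨u, u1, uu, ub, ud⟩ : ∃ u : G, u ≠ 1 ∧ u * u = 1 ∧ u • b = b ∧ u * d * u⁻¹ = d⁻¹ := by
    obtain ⟨g, hg, hgd⟩ := h.three hab hbc hac ha hb hc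
    have he : Even (Nat.card (zpowers g)) := by
      rw [← Nat.not_odd_iff_even, Nat.card_zpowers]
      exact fun ho => dd (sq_of_odd ho hgd)
    obtain ⟨u, hu, u1, uu⟩ := exists_invol he
    refine ⟨u, u1, uu, (zpowers_le (H := stabilizer G b)).2 hg hu, ?_⟩
    have key : ∀ n : ℕ, g ^ n * d * (g ^ n)⁻¹ = d ∨ g ^ n * d * (g ^ n)⁻¹ = d⁻¹ := by
      intro n
      induction n with
      | zero => left; simp
      | succ n ih =>
        have e : g ^ (n + 1) * d * (g ^ (n + 1))⁻¹ = (g ^ n * d * (g ^ n)⁻¹)⁻¹ := by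
          calc g ^ (n + 1) * d * (g ^ (n + 1))⁻¹ = g ^ n * (g * d * g⁻¹) * (g ^ n)⁻¹ := by group
            _ = _ := by rw [hgd]; group
        rcases ih with ih | ih
        · right; rw [e, ih]
        · left; rw [e, ih, inv_inv]
    obtain ⟨n, rfl⟩ := (mem_powers_iff_mem_zpowers.2 hu)
    rcases key n with e | e
    · exact absurd (mul_inv_eq_iff_eq_mul.1 e).symm (nocent _ u1 uu)
    · exact e
  -- all involutions fixing `b` invert `d`
  have all : ∀ v : G, v ≠ 1 → v * v = 1 → v • b = b → v * d * v⁻¹ = d⁻¹ := by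
    intro v v1 vv vb
    obtain ⟨g, rfl⟩ := h.conj u v u1 uu v1 vv
    have gb : g • b = b := by
      refine h.fix_unique hi u1 uu rfl u1 ?_ ub
      rw [mul_smul, mul_smul, inv_smul_eq_iff] at vb
      exact vb
    obtain ⟨k, hk, hka⟩ := h.cent_trans hi u1 uu ub hab (y := a) (z := g • a)
      (fun e => hab (smul_left_cancel g (e.trans gb.symm)))
    have kb := h.cent_fix hi u1 uu hk ub
    have hcm := h.comm (d := k⁻¹ * g) (e := d) hab (by rw [mul_smul, ← hka, inv_smul_smul])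
      (by rw [mul_smul, gb, inv_smul_eq_iff, kb]) ha hb
    have e1 : g⁻¹ * u * g = (k⁻¹ * g)⁻¹ * u * (k⁻¹ * g) := by
      calc g⁻¹ * u * g = g⁻¹ * (u * k) * (k⁻¹ * g) := by group
        _ = _ := by rw [← hk]; group
    rw [e1]
    calc (k⁻¹ * g)⁻¹ * u * (k⁻¹ * g) * d * ((k⁻¹ * g)⁻¹ * u * (k⁻¹ * g))⁻¹
        = (k⁻¹ * g)⁻¹ * u * (k⁻¹ * g * d) * (k⁻¹ * g)⁻¹ * u⁻¹ * (k⁻¹ * g) := by group
      _ = (k⁻¹ * g)⁻¹ * (u * d * u⁻¹) * (k⁻¹ * g) := by rw [hcm]; group
      _ = ((k⁻¹ * g)⁻¹ * (d * (k⁻¹ * g)))⁻¹ := by rw [ud]; group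
      _ = d⁻¹ := by rw [← hcm]; group
  intro hE
  obtain ⟨v, w, v1, w1, vw⟩ : ∃ v w : E, v ≠ 1 ∧ w ≠ 1 ∧ v ≠ w := by
    have h3 : 2 < (Set.univ : Set E).ncard := by rw [Set.ncard_univ, hE.card_four]; norm_num
    obtain ⟨x, y, z, -, -, -, xy, xz, yz⟩ := (Set.two_lt_ncard_iff).1 h3
    by_cases hx : x = 1
    · subst hx; exact ⟨y, z, xy.symm, xz.symm, yz⟩
    by_cases hy : y = 1
    · subst hy; exact ⟨x, z, hx, yz.symm, xz⟩
    exact ⟨x, y, hx, hy, xy⟩
  have sq : ∀ x : E, (x : G) * x = 1 := fun x => by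
    rw [← coe_mul, IsKleinFour.mul_self, coe_one]
  have vw' : (w : G) * v = v * w := by
    have := sq (v * w)
    rw [coe_mul] at this
    calc (w : G) * v = ((v : G) * w)⁻¹ := by
          rw [mul_inv_rev, inv_eq_of_mul_eq_one_right (sq v), inv_eq_of_mul_eq_one_right (sq w)]
      _ = v * w := inv_eq_of_mul_eq_one_right this
  have v1' : (v : G) ≠ 1 := fun e => v1 (Subtype.ext e)
  have w1' : (w : G) ≠ 1 := fun e => w1 (Subtype.ext e)
  obtain ⟨x, vx⟩ := h.exists_fix hi v1' (sq v)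
  have wx := h.cent_fix hi v1' (sq v) vw' vx
  haveI := isPretransitive_of_is_two_pretransitive (G := G) (α := Ω) (h2 := h.h2)
  obtain ⟨k, rfl⟩ := exists_smul_eq G b x
  have cj : ∀ y : E, y ≠ 1 → (y : G) • k • b = k • b →
      k⁻¹ * y * k * d * (k⁻¹ * y * k)⁻¹ = d⁻¹ := by
    intro y y1 hy
    refine all _ (fun e => y1 (Subtype.ext ?_)) ?_ (by rw [mul_smul, mul_smul, hy, inv_smul_smul])
    · calc (y : G) = k * (k⁻¹ * y * k) * k⁻¹ := by group
        _ = 1 := by rw [e]; group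
    · calc k⁻¹ * y * k * (k⁻¹ * y * k) = k⁻¹ * (y * y) * k := by group
        _ = 1 := by rw [sq]; group
  have e1 := cj v v1 vx
  have e2 := cj w w1 wx
  have e3 := cj (v * w) (fun e => vw (by
    rw [← mul_inv_eq_one, IsKleinFour.inv_eq_self]; exact e)) (by rw [coe_mul, mul_smul, wx, vx])
  rw [coe_mul] at e3
  apply dd
  rw [← eq_inv_iff_mul_eq_one, ← e3]
  calc d = (k⁻¹ * v * k * d * (k⁻¹ * v * k)⁻¹)⁻¹ := by rw [e1, inv_inv]
    _ = k⁻¹ * v * k * d⁻¹ * (k⁻¹ * v * k)⁻¹ := by group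
    _ = _ := by rw [← e2]; group

theorem concl_one [Finite G] [Finite Ω] [FaithfulSMul G Ω] (hi : i = 1) : Concl G Ω := by
  by_cases hno : HasReg G Ω
  · exact Or.inr (Or.inr hno)
  haveI := h.nontrivial
  have hZ : Cfsg.IsZassenhausGroup G Ω := by
    refine isZassenhaus_of h.h2 hno fun d x y z hxy hyz hxz hx hy hz => ?_
    by_contra d1
    exact hno (hasReg_of_rank_one h.h2 h.even (h.no_klein hi d1 hxy hyz hxz hx hy hz))
  letI := Fintype.ofFinite Ω
  obtain ⟨t, t1, ht⟩ := h.ex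
  have hC := h.cardC t t1 ht
  have hCe : 2 ∣ Nat.card (centralizer ({t} : Set G)) := by
    rw [← orderOf_eq_prime (p := 2) (by rw [sq, ht]) t1]
    exact Subgroup.orderOf_dvd_natCard _ (mem_centralizer_singleton_iff.2 rfl)
  have hodd : Odd (Nat.card Ω) := by
    obtain ⟨k, hk⟩ := hCe
    exact ⟨k, by omega⟩
  haveI := Cfsg.Agent.S0338.result hZ (by rwa [← Nat.card_eq_fintype_card])
  obtain ⟨p, k, hp, hk, e⟩ := (isPrimePow_nat_iff _).1 (Cfsg.Agent.S0346.result hZ)
  rw [← Nat.card_eq_fintype_card] at e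
  have hp2 : p = 2 := by
    have : 2 ∣ p ^ k := by rw [e, ← hC, hi, Nat.add_sub_cancel]; exact hCe
    exact ((Nat.prime_dvd_prime_iff_eq Nat.prime_two hp).1 (Nat.prime_two.dvd_of_dvd_pow this)).symm
  subst hp2
  have hcit : H32.CIT G := fun u hu => IsPGroup.of_card (n := k) (by
    have := h.cardC u (by rintro rfl; simp at hu) (by rw [← sq, ← hu, pow_orderOf_eq_one])
    omega)
  rcases hcit.classify (H13.Zass.pre_of hZ).not_comm with
    ⟨F, _, _, -, e⟩ | ⟨F, _, _, -, -, e⟩ | ⟨F, _, _, hF, ⟨e'⟩⟩ | hs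
  · exact Or.inl ⟨F, inferInstance, inferInstance, e⟩
  · exact Or.inl ⟨F, inferInstance, inferInstance, e⟩
  · exfalso
    obtain ⟨a, b, hab⟩ := exists_pair_ne Ω
    have hc := card_eq_of_two_trans h.h2 hab
    rw [Nat.card_congr e'.toEquiv, H32.card_psl3_four hF, ← e] at hc
    have hD := h.odd_twoStab hi.le hab
    have h1 : 2 ^ k ∣ 2 ^ 6 := by
      refine (Nat.Coprime.pow_left k (by norm_num : Nat.Coprime 2 315)).dvd_of_dvd_mul_right ?_
      rw [show 2 ^ 6 * 315 = 20160 by norm_num, hc]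
      exact Dvd.dvd.mul_left (dvd_mul_right _ _) _
    have h2 : 2 ^ 6 ∣ 2 ^ k := by
      have h3 : 2 ^ 6 ∣ 2 ^ k * (Nat.card Ω * Nat.card ↥(stabilizer G a ⊓ stabilizer G b)) := by
        rw [mul_left_comm, ← hc]; norm_num
      exact (Nat.Coprime.pow_left 6 (Nat.coprime_two_left.2 (hodd.mul hD))).dvd_of_dvd_mul_right h3
    have h4 : Nat.card Ω = 65 := by
      have := Nat.dvd_antisymm h1 h2
      omega
    rw [h4] at hc
    omega
  · exact Or.inr (Or.inl hs)

theorem concl [Finite G] [Finite Ω] [FaithfulSMul G Ω] : Concl G Ω := by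
  rcases i with _ | _ | _ | i
  exacts [h.concl_zero rfl, h.concl_one rfl, h.concl_two rfl, h.concl_big (by omega)]

end CF

end H81
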