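import Mathlib
import Cfsg.Agent.Base
import Cfsg.Agent.Lib.H81.Reg2
import Cfsg.Agent.S0680

/-! Counting lemmas for a subgroup acting doubly transitively on an invariant set. -/

set_option autoImplicit false
set_option linter.style.haveILetI false
set_option linter.unusedSectionVars false

namespace H81.TP

open MulAction Subgroup

theorem ncard_bip {A B : Type*} {s : Set A} {t : Set B} (hs : s.Finite) (ht : t.Finite)
    (r : A → B → Prop) {m n : ℕ} (hm : ∀ a ∈ s, {b | b ∈ t ∧ r a b}.ncard = m)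
    (hn : ∀ b ∈ t, {a | a ∈ s ∧ r a b}.ncard = n) : s.ncard * m = t.ncard * n := by
  classical
  rw [Set.ncard_eq_toFinset_card s hs, Set.ncard_eq_toFinset_card t ht]
  refine Finset.card_mul_eq_card_mul r (fun a ha => ?_) (fun b hb => ?_)
  · rw [← hm a (hs.mem_toFinset.1 ha), ← Set.ncard_coe_finset]
    congr 1; ext b; simp [Finset.mem_bipartiteAbove]
  · rw [← hn b (ht.mem_toFinset.1 hb), ← Set.ncard_coe_finset]
    congr 1; ext a; simp [Finset.mem_bipartiteBelow]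

theorem ncard_offDiag {A : Type*} {s : Set A} (hs : s.Finite) :
    s.offDiag.ncard = s.ncard * s.ncard - s.ncard := by
  classical
  obtain ⟨s, rfl⟩ := hs.exists_finset_coe
  rw [← Finset.coe_offDiag, Set.ncard_coe_finset, Set.ncard_coe_finset, Finset.offDiag_card]

variable {G Ω : Type*} [Group G] [MulAction G Ω]

/-- The invariant set as a type with an action. -/
def sub (M : Subgroup G) (F : Set Ω) (h : ∀ g ∈ M, ∀ x ∈ F, g • x ∈ F) : SubMulAction M Ω :=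
  ⟨F, fun g x hx => h g g.2 x hx⟩

theorem card_sub (M : Subgroup G) (F : Set Ω) (h : ∀ g ∈ M, ∀ x ∈ F, g • x ∈ F) :
    Nat.card (sub M F h) = F.ncard := Nat.card_coe_set_eq F

theorem ncard_modEq {p : ℕ} [Fact p.Prime] {T : Subgroup G} (hT : IsPGroup p T) {F : Set Ω}
    (hF : F.Finite) (h : ∀ g ∈ T, ∀ x ∈ F, g • x ∈ F) :
    F.ncard ≡ {x | x ∈ F ∧ ∀ g ∈ T, g • x = x}.ncard [MOD p] := by
  haveI : Finite (sub T F h) := hF
  have h1 := hT.card_modEq_card_fixedPoints (sub T F h)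
  rw [card_sub] at h1
  have e : fixedPoints T (sub T F h) ≃ {x | x ∈ F ∧ ∀ g ∈ T, g • x = x} :=
    ⟨fun x => ⟨x.1.1, x.1.2, fun g hg => congrArg Subtype.val (x.2 ⟨g, hg⟩)⟩,
      fun x => ⟨⟨x.1, x.2.1⟩, fun g => Subtype.ext (x.2.2 g g.2)⟩, fun _ => rfl, fun _ => rfl⟩
  rwa [Nat.card_congr e, Nat.card_coe_set_eq] at h1

theorem exists_fix {p : ℕ} [Fact p.Prime] {T : Subgroup G} (hT : IsPGroup p T) {F : Set Ω}
    (hF : F.Finite) (h : ∀ g ∈ T, ∀ x ∈ F, g • x ∈ F) (hp : ¬ p ∣ F.ncard) :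
    ∃ x ∈ F, ∀ g ∈ T, g • x = x := by
  by_contra hc
  have h1 := ncard_modEq hT hF h
  have h2 : {x | x ∈ F ∧ ∀ g ∈ T, g • x = x} = ∅ :=
    Set.eq_empty_of_forall_notMem fun x hx => hc ⟨x, hx.1, hx.2⟩
  rw [h2, Set.ncard_empty] at h1
  exact hp ((Nat.modEq_zero_iff_dvd).1 h1)

theorem pow_maps {g : G} {F : Set Ω} (h : ∀ x ∈ F, g • x ∈ F) (n : ℕ) :
    ∀ x ∈ F, g ^ n • x ∈ F := by
  induction n with
  | zero => simp
  | succ n ih => intro x hx; rw [pow_succ', mul_smul]; exact h _ (ih x hx)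

theorem isPGroup_zpowers {p : ℕ} [hp : Fact p.Prime] {g : G} (hg : g ^ p = 1) :
    IsPGroup p (zpowers g) := fun x => by
  obtain ⟨x, k, rfl⟩ := x
  exact ⟨1, Subtype.ext (by
    simp only [pow_one, SubgroupClass.coe_pow, OneMemClass.coe_one]
    rw [← zpow_natCast, ← zpow_mul, mul_comm, zpow_mul, zpow_natCast, hg, one_zpow])⟩

theorem ncard_modEq_elt {p : ℕ} [hp : Fact p.Prime] {g : G} (hg : g ^ p = 1) {F : Set Ω}
    (hF : F.Finite) (h : ∀ x ∈ F, g • x ∈ F) :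
    F.ncard ≡ {x | x ∈ F ∧ g • x = x}.ncard [MOD p] := by
  have hfin : IsOfFinOrder g := isOfFinOrder_iff_pow_eq_one.2 ⟨p, hp.out.pos, hg⟩
  have h1 := ncard_modEq (isPGroup_zpowers hg) hF (fun u hu => by
    obtain ⟨n, rfl⟩ := hfin.mem_powers_iff_mem_zpowers.2 hu
    exact pow_maps h n)
  have h2 : {x | x ∈ F ∧ ∀ u ∈ zpowers g, u • x = x} = {x | x ∈ F ∧ g • x = x} := by
    ext x
    refine and_congr_right fun _ => ⟨fun h => h g (mem_zpowers g), fun h u hu => ?_⟩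
    exact (zpowers_le.2 (show g ∈ stabilizer G x from h)) hu
  rwa [h2] at h1

theorem exists_fix_elt {p : ℕ} [hp : Fact p.Prime] {g : G} (hg : g ^ p = 1) {F : Set Ω}
    (hF : F.Finite) (h : ∀ x ∈ F, g • x ∈ F) (hd : ¬ p ∣ F.ncard) : ∃ x ∈ F, g • x = x := by
  by_contra hc
  have h1 := ncard_modEq_elt hg hF h
  have h2 : {x | x ∈ F ∧ g • x = x} = ∅ :=
    Set.eq_empty_of_forall_notMem fun x hx => hc ⟨x, hx.1, hx.2⟩
  rw [h2, Set.ncard_empty] at h1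
  exact hd ((Nat.modEq_zero_iff_dvd).1 h1)

/-- `M` acts doubly transitively on the invariant set `F ∋ α, β`. -/
structure T2 (M : Subgroup G) (F : Set Ω) (α β : Ω) : Prop where
  ne : α ≠ β
  ma : α ∈ F
  mb : β ∈ F
  inv : ∀ g ∈ M, ∀ x ∈ F, g • x ∈ F
  tr : ∀ a ∈ F, ∀ b ∈ F, a ≠ b → ∃ g ∈ M, g • α = a ∧ g • β = b

theorem ncard_conj_eq {D : Set G} (g : G) (hD : ∀ u, u ∈ D ↔ g * u * g⁻¹ ∈ D)
    (P Q : G → Prop) (h : ∀ u, P u ↔ Q (g * u * g⁻¹)) :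
    {u | u ∈ D ∧ Q u}.ncard = {u | u ∈ D ∧ P u}.ncard := by
  symm
  refine Set.ncard_congr (fun u _ => g * u * g⁻¹) (fun u hu => ⟨(hD u).1 hu.1, (h u).1 hu.2⟩)
    (fun a b _ _ e => by simpa using e) (fun u hu => ⟨g⁻¹ * u * g, ?_, by group⟩)
  have e : g * (g⁻¹ * u * g) * g⁻¹ = u := by group
  exact ⟨(hD _).2 (e.symm ▸ hu.1), (h _).2 (e.symm ▸ hu.2)⟩

theorem conj_smul_iff (g u : G) (a b : Ω) : (g * u * g⁻¹) • g • a = g • b ↔ u • a = b := by
  rw [mul_smul, mul_smul, inv_smul_smul, smul_left_cancel_iff]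

namespace T2

variable {M : Subgroup G} {F : Set Ω} {α β : Ω} (h : T2 M F α β)
include h

theorem inv' {g : G} (hg : g ∈ M) {x : Ω} (hx : g • x ∈ F) : x ∈ F := by
  have := h.inv g⁻¹ (M.inv_mem hg) _ hx
  rwa [inv_smul_smul] at this

theorem two_le [Finite Ω] : 2 ≤ F.ncard := by
  have := Set.ncard_le_ncard (show ({α, β} : Set Ω) ⊆ F by
    rintro x (rfl | rfl); exacts [h.ma, h.mb])
  rwa [Set.ncard_pair h.ne] at this

theorem tr1 {a : Ω} (ha : a ∈ F) : ∃ g ∈ M, g • α = a := by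
  by_cases e : a = β
  · obtain ⟨g, hg, h1, -⟩ := h.tr β h.mb α h.ma h.ne.symm
    exact ⟨g, hg, e ▸ h1⟩
  · obtain ⟨g, hg, h1, -⟩ := h.tr a ha β h.mb e
    exact ⟨g, hg, h1⟩

theorem tr' {a b : Ω} (ha : a ∈ F) (hb : b ∈ F) : ∃ g ∈ M, g • a = b := by
  obtain ⟨g, hg, rfl⟩ := h.tr1 ha
  obtain ⟨k, hk, rfl⟩ := h.tr1 hb
  exact ⟨k * g⁻¹, M.mul_mem hk (M.inv_mem hg), by rw [mul_smul, inv_smul_smul]⟩

variable [Finite G] [Finite Ω]

theorem ncard_fiber {a b : Ω} (ha : a ∈ F) (hb : b ∈ F) (hab : a ≠ b) :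
    {g | g ∈ (M : Set G) ∧ (g • α = a ∧ g • β = b)}.ncard =
      Nat.card ↥(M ⊓ stabilizer G α ⊓ stabilizer G β) := by
  obtain ⟨k, hk, rfl, rfl⟩ := h.tr a ha b hb hab
  rw [← SetLike.coe_sort_coe, Nat.card_coe_set_eq]
  symm
  refine Set.ncard_congr (fun u _ => k * u) (fun u hu => ⟨M.mul_mem hk hu.1.1, ?_, ?_⟩)
    (fun a b _ _ e => by simpa using e) (fun u hu => ⟨k⁻¹ * u, ⟨⟨M.mul_mem (M.inv_mem hk) hu.1, ?_⟩,
      ?_⟩, by group⟩)
  · rw [mul_smul, show u • α = α from hu.1.2]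
  · rw [mul_smul, show u • β = β from hu.2]
  · show (k⁻¹ * u) • α = α
    rw [mul_smul, hu.2.1, inv_smul_smul]
  · show (k⁻¹ * u) • β = β
    rw [mul_smul, hu.2.2, inv_smul_smul]

theorem card_stab : Nat.card ↥(M ⊓ stabilizer G α) =
    (F.ncard - 1) * Nat.card ↥(M ⊓ stabilizer G α ⊓ stabilizer G β) := by
  have h1 := ncard_bip (s := ((M ⊓ stabilizer G α : Subgroup G) : Set G)) (t := F \ {α})
    (Set.toFinite _) (Set.toFinite _) (fun g b => g • β = b) (m := 1)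
    (n := Nat.card ↥(M ⊓ stabilizer G α ⊓ stabilizer G β)) (fun g hg => by
      rw [Set.ncard_eq_one]
      refine ⟨g • β, Set.eq_singleton_iff_unique_mem.2 ⟨⟨⟨h.inv g hg.1 β h.mb, fun e => ?_⟩, rfl⟩,
        fun x hx => hx.2.symm⟩⟩
      have e2 : g • α = α := hg.2
      exact h.ne (smul_left_cancel g (e2.trans (Set.mem_singleton_iff.1 e).symm)))
    (fun b hb => by
      rw [← h.ncard_fiber h.ma hb.1 (Ne.symm hb.2)]
      congr 1; ext g; simp [and_assoc])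
  rw [mul_one, Set.ncard_diff_singleton_of_mem h.ma] at h1
  rw [← h1, ← Nat.card_coe_set_eq]; rfl

theorem card_eq : Nat.card M =
    F.ncard * ((F.ncard - 1) * Nat.card ↥(M ⊓ stabilizer G α ⊓ stabilizer G β)) := by
  have h1 := ncard_bip (s := (M : Set G)) (t := F.offDiag)
    (Set.toFinite _) (Set.toFinite _) (fun g p => g • α = p.1 ∧ g • β = p.2) (m := 1)
    (n := Nat.card ↥(M ⊓ stabilizer G α ⊓ stabilizer G β)) (fun g hg => by
      rw [Set.ncard_eq_one]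
      refine ⟨(g • α, g • β), Set.eq_singleton_iff_unique_mem.2 ⟨⟨⟨h.inv g hg α h.ma,
        h.inv g hg β h.mb, fun e => h.ne (smul_left_cancel g e)⟩, rfl, rfl⟩,
        fun x hx => Prod.ext hx.2.1.symm hx.2.2.symm⟩⟩)
    (fun p hp => h.ncard_fiber hp.1 hp.2.1 hp.2.2)
  rw [mul_one, ncard_offDiag (Set.toFinite _)] at h1
  rw [← mul_assoc, Nat.mul_sub_one, ← h1, ← Nat.card_coe_set_eq]; rfl

theorem card_orbit {a : Ω} (ha : a ∈ F) :
    Nat.card M = F.ncard * Nat.card ↥(M ⊓ stabilizer G a) := by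
  have h1 := ncard_bip (s := (M : Set G)) (t := F) (Set.toFinite _) (Set.toFinite _)
    (fun g b => g • a = b) (m := 1) (n := Nat.card ↥(M ⊓ stabilizer G a)) (fun g hg => by
      rw [Set.ncard_eq_one]
      exact ⟨g • a, Set.eq_singleton_iff_unique_mem.2 ⟨⟨h.inv g hg a ha, rfl⟩,
        fun x hx => hx.2.symm⟩⟩)
    (fun b hb => by
      obtain ⟨k, hk, rfl⟩ := h.tr' ha hb
      rw [← SetLike.coe_sort_coe, Nat.card_coe_set_eq]
      symm
      refine Set.ncard_congr (fun u _ => k * u) (fun u hu => ⟨M.mul_mem hk hu.1, ?_⟩)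
        (fun a b _ _ e => by simpa using e)
        (fun u hu => ⟨k⁻¹ * u, ⟨M.mul_mem (M.inv_mem hk) hu.1, ?_⟩, by group⟩)
      · rw [mul_smul, show u • a = a from hu.2]
      · show (k⁻¹ * u) • a = a
        rw [mul_smul, hu.2, inv_smul_smul])
  rw [mul_one] at h1
  rw [← h1, ← Nat.card_coe_set_eq]; rfl

/-- The double count for a conjugation-closed set whose elements fix `f` points of `F`. -/
theorem dc {D : Set G} (hD : D ⊆ M) (hc : ∀ g ∈ M, ∀ u ∈ D, g * u * g⁻¹ ∈ D) {f : ℕ}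
    (hf : ∀ u ∈ D, {x | x ∈ F ∧ u • x = x}.ncard = f) :
    ({u | u ∈ D ∧ (u • α = α ∧ u • β = β)}.ncard : ℤ) * (F.ncard - f) =
      {u | u ∈ D ∧ u • α = β}.ncard * (f * (f - 1)) := by
  have hc' : ∀ g ∈ M, ∀ u, u ∈ D ↔ g * u * g⁻¹ ∈ D := fun g hg u => ⟨hc g hg u, fun hu => by
    have := hc g⁻¹ (M.inv_mem hg) _ hu
    rwa [show g⁻¹ * (g * u * g⁻¹) * g⁻¹⁻¹ = u by group] at this⟩
  have h1 := ncard_bip (s := D) (t := F.offDiag) (Set.toFinite _) (Set.toFinite _)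
    (fun u p => u • p.1 = p.1 ∧ u • p.2 = p.2) (m := f * f - f)
    (n := {u | u ∈ D ∧ (u • α = α ∧ u • β = β)}.ncard) (fun u hu => by
      rw [← hf u hu, ← ncard_offDiag (Set.toFinite _)]
      congr 1; ext p; simp only [Set.mem_setOf_eq, Set.mem_offDiag]; tauto)
    (fun p hp => by
      obtain ⟨g, hg, e1, e2⟩ := h.tr p.1 hp.1 p.2 hp.2.1 hp.2.2
      refine ncard_conj_eq g (hc' g hg) _ _ fun u => ?_
      rw [← e1, ← e2, conj_smul_iff, conj_smul_iff])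
  have h2 := ncard_bip (s := D) (t := F.offDiag) (Set.toFinite _) (Set.toFinite _)
    (fun u p => u • p.1 = p.2) (m := F.ncard - f)
    (n := {u | u ∈ D ∧ u • α = β}.ncard) (fun u hu => by
      rw [← hf u hu, ← Set.ncard_diff (fun x hx => hx.1)]
      refine Set.ncard_congr (fun p _ => p.1) (fun p hp => ⟨hp.1.1, fun e => hp.1.2.2 ?_⟩)
        (fun p q hp hq e => Prod.ext e (by rw [← hp.2, ← hq.2, e]))
        (fun x hx => ⟨(x, u • x), ⟨⟨hx.1, h.inv u (hD hu) x hx.1, fun e => hx.2 ⟨hx.1, e.symm⟩⟩,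
          rfl⟩, rfl⟩)
      rw [← hp.2, e.2])
    (fun p hp => by
      obtain ⟨g, hg, e1, e2⟩ := h.tr p.1 hp.1 p.2 hp.2.1 hp.2.2
      refine ncard_conj_eq g (hc' g hg) _ _ fun u => ?_
      rw [← e1, ← e2, conj_smul_iff])
  rw [ncard_offDiag (Set.toFinite _)] at h1 h2
  rcases D.eq_empty_or_nonempty with rfl | ⟨u, hu⟩
  · simp
  have h3 : f ≤ F.ncard := hf u hu ▸ Set.ncard_le_ncard (fun x hx => hx.1)
  have h4 := h.two_le
  have h5 : F.ncard ≤ F.ncard * F.ncard := Nat.le_mul_self _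
  have h6 : f ≤ f * f := Nat.le_mul_self _
  zify [h3, h5, h6] at h1 h2
  have h7 : (F.ncard : ℤ) * F.ncard - F.ncard ≠ 0 := by
    have : (2 : ℤ) ≤ F.ncard := by exact_mod_cast h4
    nlinarith
  apply mul_left_cancel₀ h7
  linear_combination (-(F.ncard - f : ℤ)) * h1 + (f * (f - 1) : ℤ) * h2

/-- Uniqueness of the action of the elements of `R` that fix a given point. -/
theorem uq {R : Set G} (hR : R ⊆ M) (hc : ∀ g ∈ M, ∀ u ∈ R, g * u * g⁻¹ ∈ R)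
    (h1 : ∀ r ∈ R, ∀ a ∈ F, ∀ b ∈ F, r • a = a → r • b = b → a = b)
    (hu : ∀ r ∈ R, ∀ r' ∈ R, r • α = r' • α → r • α ≠ α → ∀ x ∈ F, r • x = r' • x)
    {r r' : G} (hr : r ∈ R) (hr' : r' ∈ R) {γ : Ω} (hγ : γ ∈ F) (e : r • γ = γ)
    (e' : r' • γ = γ) : ∀ x ∈ F, r • x = r' • x := by
  have hg : ∀ δ : ↥(F \ {α}), ∃ g ∈ M, g • γ = δ := fun δ => h.tr' hγ δ.2.1
  choose g hg hgγ using hg
  have fx : ∀ u, u • γ = γ → ∀ δ, (g δ * u * (g δ)⁻¹) • (δ : Ω) = δ := fun u e δ => by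
    rw [← hgγ δ, conj_smul_iff, e]
  have mv : ∀ u ∈ R, u • γ = γ → ∀ δ, (g δ * u * (g δ)⁻¹) • α ≠ α := fun u hu e δ e2 =>
    δ.2.2 (h1 _ (hc _ (hg δ) u hu) _ δ.2.1 _ h.ma (fx u e δ) e2)
  have same : ∀ u ∈ R, ∀ u' ∈ R, u • γ = γ → u' • γ = γ → ∀ δ δ',
      (g δ * u * (g δ)⁻¹) • α = (g δ' * u' * (g δ')⁻¹) • α → δ = δ' := by
    intro u hu1 u' hu' e e' δ δ' e2
    have := hu _ (hc _ (hg δ) u hu1) _ (hc _ (hg δ') u' hu') e2 (mv u hu1 e δ) δ' δ'.2.1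
    rw [fx u' e' δ'] at this
    exact Subtype.ext (h1 _ (hc _ (hg δ) u hu1) _ δ.2.1 _ δ'.2.1 (fx u e δ) this)
  let φ : ↥(F \ {α}) → ↥(F \ {α}) := fun δ => ⟨(g δ * r * (g δ)⁻¹) • α,
    h.inv _ (hR (hc _ (hg δ) r hr)) α h.ma, mv r hr e δ⟩
  have hφ : Function.Surjective φ := Finite.injective_iff_surjective.1 fun δ δ' e2 =>
    same r hr r hr e e δ δ' (congrArg Subtype.val e2)
  let δ : ↥(F \ {α}) := ⟨β, h.mb, h.ne.symm⟩
  obtain ⟨δ', e2⟩ := hφ ⟨(g δ * r' * (g δ)⁻¹) • α,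
    h.inv _ (hR (hc _ (hg δ) r' hr')) α h.ma, mv r' hr' e' δ⟩
  have e3 : (g δ' * r * (g δ')⁻¹) • α = (g δ * r' * (g δ)⁻¹) • α := congrArg Subtype.val e2
  obtain rfl := same r hr r' hr' e e' δ' δ e3
  intro x hx
  have := hu _ (hc _ (hg δ) r hr) _ (hc _ (hg δ) r' hr') e3 (mv r hr e δ) _
    (h.inv _ (hg δ) x hx)
  rw [mul_smul, mul_smul, mul_smul, mul_smul, inv_smul_smul] at this
  exact smul_left_cancel _ this

/-- The permutation group induced on `F`. -/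
def bar : Subgroup (Equiv.Perm (sub M F h.inv)) := (MulAction.toPermHom M (sub M F h.inv)).range

/-- The image of an element of `M`. -/
def im (g : G) (hg : g ∈ M) : h.bar := ⟨MulAction.toPermHom M (sub M F h.inv) ⟨g, hg⟩, _, rfl⟩

theorem im_smul {g : G} (hg : g ∈ M) (x : sub M F h.inv) :
    ((h.im g hg • x : sub M F h.inv) : Ω) = g • (x : Ω) := rfl

theorem exists_im (u : h.bar) : ∃ g, ∃ hg : g ∈ M, u = h.im g hg := by
  obtain ⟨_, g, rfl⟩ := u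
  exact ⟨g, g.2, rfl⟩

theorem bar_tr (a b c d : sub M F h.inv) (hab : a ≠ b) (hcd : c ≠ d) :
    ∃ u : h.bar, u • a = c ∧ u • b = d := by
  obtain ⟨g, hg, e1, e2⟩ := h.tr a a.2 b b.2 fun e => hab (Subtype.ext e)
  obtain ⟨k, hk, e3, e4⟩ := h.tr c c.2 d d.2 fun e => hcd (Subtype.ext e)
  refine ⟨h.im (k * g⁻¹) (M.mul_mem hk (M.inv_mem hg)), Subtype.ext ?_, Subtype.ext ?_⟩
  · rw [im_smul, ← e1, mul_smul, inv_smul_smul, e3]
  · rw [im_smul, ← e2, mul_smul, inv_smul_smul, e4]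

theorem bar_two : IsMultiplyPretransitive h.bar (sub M F h.inv) 2 :=
  is_two_pretransitive_iff.2 fun {a b c d} hab hcd => h.bar_tr a b c d hab hcd

theorem im_eq_one {g : G} (hg : g ∈ M) (e : ∀ x ∈ F, g • x = x) : h.im g hg = 1 :=
  Subtype.ext (Equiv.ext fun x => Subtype.ext (e x x.2))

theorem sharp (hs : ∀ g ∈ M, g • α = α → g • β = β → ∀ x ∈ F, g • x = x) {g : G} (hg : g ∈ M)
    {a b : Ω} (ha : a ∈ F) (hb : b ∈ F) (hab : a ≠ b) (e1 : g • a = a) (e2 : g • b = b) :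
    ∀ x ∈ F, g • x = x := by
  obtain ⟨k, hk, rfl, rfl⟩ := h.tr a ha b hb hab
  intro x hx
  have := hs (k⁻¹ * g * k) (M.mul_mem (M.mul_mem (M.inv_mem hk) hg) hk)
    (by rw [mul_smul, mul_smul, e1, inv_smul_smul]) (by rw [mul_smul, mul_smul, e2, inv_smul_smul])
    _ (h.inv _ (M.inv_mem hk) x hx)
  rw [mul_smul, mul_smul, smul_inv_smul] at this
  exact smul_left_cancel _ this

/-- A sharply doubly transitive action of even degree has degree a power of two. -/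
theorem two_pow (hs : ∀ g ∈ M, g • α = α → g • β = β → ∀ x ∈ F, g • x = x)
    (he : Even F.ncard) : ∃ m, F.ncard = 2 ^ m := by
  classical
  haveI : Finite (sub M F h.inv) := Set.toFinite F
  letI := Fintype.ofFinite (sub M F h.inv)
  haveI := h.bar_two
  have hc : Fintype.card (sub M F h.inv) = F.ncard := by
    rw [← Nat.card_eq_fintype_card, card_sub]
  obtain ⟨p, j, hp, -, e, -⟩ := Cfsg.Agent.S0680.result h.bar (H26.sharp2_iff.2
    fun u a b hab e1 e2 => by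
      obtain ⟨g, hg, rfl⟩ := h.exists_im u
      exact h.im_eq_one hg (h.sharp hs hg a.2 b.2 (fun e => hab (Subtype.ext e))
        (congrArg Subtype.val e1) (congrArg Subtype.val e2))) (hc ▸ h.two_le)
  rw [hc] at e
  rw [e] at he
  obtain rfl := (Nat.prime_dvd_prime_iff_eq Nat.prime_two hp).1
    (Nat.prime_two.dvd_of_dvd_pow he.two_dvd)
  exact ⟨j, e⟩

end T2

/-- Products of two elements of a "regular" class of involutions are `2`-elements. -/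
theorem sr [Finite G] {M : Subgroup G} {F : Set Ω} (hF : ∀ g ∈ M, ∀ x ∈ F, g • x ∈ F) {k : ℕ}
    (hk : F.ncard = 2 ^ k) {R : Set G} (hR : R ⊆ M) (hc : ∀ g ∈ M, ∀ u ∈ R, g * u * g⁻¹ ∈ R)
    (h2 : ∀ r ∈ R, r * r = 1)
    (hu : ∀ r ∈ R, ∀ r' ∈ R, ∀ a ∈ F, r • a = r' • a → ∀ x ∈ F, r • x = r' • x)
    (hK : ∀ g ∈ M, (∀ x ∈ F, g • x = x) → g * g = 1) {r r' : G} (hr : r ∈ R) (hr' : r' ∈ R) :
    ∃ m, orderOf (r * r') = 2 ^ m := by
  have hfin : F.Finite := Set.finite_of_ncard_ne_zero (by rw [hk]; positivity)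
  refine ⟨_, Nat.eq_prime_pow_of_unique_prime_dvd (orderOf_pos _).ne' fun {p} hp hd => ?_⟩
  by_contra hp2
  haveI := Fact.mk hp
  obtain ⟨m, hm⟩ := hd
  set g := (r * r') ^ m with hg
  have hm0 : m ≠ 0 := fun e => (orderOf_pos (r * r')).ne' (by rw [hm, e, mul_zero])
  have og : orderOf g = p := by
    rw [hg, orderOf_pow' _ hm0, hm, Nat.gcd_mul_left_left, Nat.mul_div_cancel _ (by omega)]
  have gM : g ∈ M := M.pow_mem (M.mul_mem (hR hr) (hR hr')) m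
  obtain ⟨a, ha, e⟩ := exists_fix_elt (p := p) (og ▸ pow_orderOf_eq_one g) hfin (hF g gM)
    (by rw [hk]; exact fun hd => hp2 ((Nat.prime_dvd_prime_iff_eq hp Nat.prime_two).1
      (hp.dvd_of_dvd_pow hd)))
  have ri : r⁻¹ = r := inv_eq_of_mul_eq_one_right (h2 r hr)
  have ri' : r'⁻¹ = r' := inv_eq_of_mul_eq_one_right (h2 r' hr')
  have e1 : r * g * r⁻¹ = g⁻¹ := by
    rw [hg, ← conj_pow, ← inv_pow, mul_inv_rev, ri, ri', ← mul_assoc, h2 r hr, one_mul]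
  obtain ⟨j, hj⟩ := hp.odd_of_ne_two hp2
  have e2 : (g ^ (j + 1))⁻¹ * r * (g ^ (j + 1))⁻¹⁻¹ = r * g := by
    have e3 : (g ^ (j + 1))⁻¹ * r = r * g ^ (j + 1) := by
      rw [← inv_pow, ← e1, conj_pow, inv_mul_cancel_right]
    rw [e3, inv_inv, mul_assoc, ← pow_add, show j + 1 + (j + 1) = p + 1 by omega, pow_succ, ← og,
      pow_orderOf_eq_one, one_mul]
  have h3 : r * g ∈ R := e2 ▸ hc _ (M.inv_mem (M.pow_mem gM _)) r hr
  have h4 := hK g gM fun x hx => by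
    have := hu _ h3 r hr a ha (by rw [mul_smul, e]) x hx
    rw [mul_smul] at this
    exact smul_left_cancel _ this
  have h5 : p ∣ 2 := og ▸ orderOf_dvd_of_pow_eq_one (by rw [pow_two, h4])
  exact hp2 ((Nat.prime_dvd_prime_iff_eq hp Nat.prime_two).1 h5)

/-- A doubly transitive group with a regular normal subgroup has prime power degree. -/
theorem prime_pow_of_reg [Finite G] [Finite Ω] {α β : Ω} (hab : α ≠ β)
    (h2 : ∀ b, b ≠ α → ∃ g : G, g • α = α ∧ g • β = b) (hr : HasReg G Ω) :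
    ∃ p k : ℕ, p.Prime ∧ Nat.card Ω = p ^ k := by
  obtain ⟨N, hN, ht, hf⟩ := hr
  have hc : Nat.card N = Nat.card Ω := Nat.card_congr (Equiv.ofBijective (fun n : N => (n : G) • α)
    ⟨fun n m e => Subtype.ext (by
      have := hf α ((m : G)⁻¹ * n) (N.mul_mem (N.inv_mem m.2) n.2) (by
        rw [mul_smul, show (n : G) • α = (m : G) • α from e, inv_smul_smul])
      exact (inv_mul_eq_one.1 this).symm), fun x => by
      obtain ⟨r, hr, e⟩ := ht α x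
      exact ⟨⟨r, hr⟩, e⟩⟩)
  obtain ⟨n, hn, en⟩ := ht α β
  have key : ∀ m ∈ N, m ≠ 1 → orderOf m = orderOf n := by
    intro m hm m1
    obtain ⟨g, e1, e2⟩ := h2 (m • α) fun e => m1 (hf α m hm e)
    have := hf α (m⁻¹ * (g * n * g⁻¹)) (N.mul_mem (N.inv_mem hm) (hN.conj_mem n hn g)) (by
      conv_lhs => rw [← e1]
      rw [mul_smul, mul_smul, mul_smul, inv_smul_smul, en, e2, inv_smul_smul])
    rw [inv_mul_eq_one.1 this]
    exact (SemiconjBy.orderOf_eq g (by simp [SemiconjBy])).symm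
  have n1 : n ≠ 1 := fun e => hab (by rw [← en, e, one_smul])
  have h1 : Nat.card N ≠ 1 := fun e => n1 (by
    have := (card_eq_one.1 e) ▸ hn
    exact mem_bot.1 this)
  obtain ⟨p, hp, hd⟩ := Nat.exists_prime_and_dvd h1
  refine ⟨p, _, hp, hc ▸ Nat.eq_prime_pow_of_unique_prime_dvd Nat.card_pos.ne' fun {q} hq hd' => ?_⟩
  have k : ∀ q : ℕ, q.Prime → q ∣ Nat.card N → q = orderOf n := fun q hq hd => by
    haveI := Fact.mk hq
    obtain ⟨x, hx⟩ := exists_prime_orderOf_dvd_card' q hd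
    rw [← hx, ← key x x.2 fun e => hq.one_lt.ne' (by
      rw [← hx, orderOf_eq_one_iff]; exact Subtype.ext e), orderOf_coe]
  rw [k q hq hd', k p hp hd]

end H81.TP
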