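import Mathlib
import Cfsg.Agent.Base
import Cfsg.Agent.Lib.Block.Apps
import Cfsg.Agent.Lib.SL2.Klein
import Cfsg.Agent.S0948
import Cfsg.Agent.S4480

/-! The order relation for a group with a Klein four Sylow `2`-subgroup and fused involutions. -/

set_option autoImplicit false
set_option linter.style.haveILetI false
set_option linter.unusedSectionVars false

namespace H81.TP

open Subgroup Cfsg H29

theorem orderOf_two {G : Type*} [Group G] {u : G} (h : u * u = 1) (h1 : u ≠ 1) : orderOf u = 2 :=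
  orderOf_eq_prime (by rw [pow_two, h]) h1

theorem klein_arith {a k p q : ℤ} (hk : 0 < k) (hp : 0 ≤ p) (hq : 0 ≤ q)
    (h : a * ((6 + p + q) * (2 + p) * (2 + q)) = 8 * ((5 + p + q) * (3 + p) * (3 + q)) * k ^ 2) :
    8 * k ^ 2 < a ∧ a ≤ 15 * k ^ 2 := by
  have hD : 0 < (6 + p + q) * (2 + p) * (2 + q) := by positivity
  constructor
  · refine lt_of_mul_lt_mul_right ?_ hD.le
    rw [h, ← sub_pos]
    have : 8 * ((5 + p + q) * (3 + p) * (3 + q)) * k ^ 2 - 8 * k ^ 2 * ((6 + p + q) * (2 + p) * (2 + q))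
        = 8 * k ^ 2 * (21 + 8 * p + 8 * q + p ^ 2 + q ^ 2 + p * q) := by ring
    rw [this]; positivity
  · refine le_of_mul_le_mul_right ?_ hD
    rw [h, ← sub_nonneg]
    have : 15 * k ^ 2 * ((6 + p + q) * (2 + p) * (2 + q)) - 8 * ((5 + p + q) * (3 + p) * (3 + q)) * k ^ 2
        = k ^ 2 * (48 * p + 48 * q + 6 * p ^ 2 + 6 * q ^ 2 + 62 * p * q + 7 * p ^ 2 * q +
          7 * p * q ^ 2) := by ring
    rw [this]; positivity

theorem klein_aux {Y : Type*} [Group Y] [Finite Y] {t v y : Y} (hp : IsPair t v)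
    (yt : y * t * y⁻¹ = v) {g₀ : ℕ} (hg : Odd g₀) (hY : Nat.card Y = 4 * g₀)
    {a k : ℕ} (ha : Nat.card Y = a * Nat.card (centralizer ({t} : Set Y)))
    (hk : Nat.card (centralizer ({t} : Set Y)) =
      k * Nat.card ↥(centralizer ({t} : Set Y) ⊓ centralizer {v})) :
    (8 * k ^ 2 < a ∧ a ≤ 15 * k ^ 2) ∨ ∃ m, 0 < m ∧ m ∣ k ∧ a + 6 * k * m = 8 * k ^ 2 + m ^ 2 := by
  haveI : Fact (Nat.Prime 2) := ⟨Nat.prime_two⟩
  obtain ⟨M, hM⟩ := H33.exists_isPModular 2
  haveI := H33.isMaximal_of hM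
  have hnc : ¬ ∃ N : Subgroup Y, N.Normal ∧ Nat.card N = g₀ := by
    rintro ⟨N, hN, hc⟩
    have h1 : N.index = 4 := by
      have := N.card_mul_index
      rw [hc, hY, mul_comm 4] at this
      exact Nat.eq_of_mul_eq_mul_left hg.pos this
    have h3 : v * t ∈ N := by
      have h2 := (IsPGroup.isMulCommutative_of_card_eq_prime_sq (G := Y ⧸ N) (p := 2) h1).1.1
        (y : Y ⧸ N) (t : Y ⧸ N)
      rw [← QuotientGroup.eq_one_iff, ← yt, QuotientGroup.mk_mul, QuotientGroup.mk_mul,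
        QuotientGroup.mk_mul, h2, QuotientGroup.mk_inv, mul_inv_cancel_right,
        ← QuotientGroup.mk_mul, hp.sq₁, QuotientGroup.mk_one]
    have h4 := N.orderOf_dvd_natCard h3
    rw [orderOf_two hp.symm.rot.sq₂ hp.symm.rot.ne₂, hc] at h4
    exact (Nat.not_even_iff_odd.2 hg) (even_iff_two_dvd.2 h4)
  have hV := hp.isKleinFour
  obtain ⟨P, hP⟩ := (IsPGroup.of_card (p := 2) (n := 2) hV.card_four).exists_le_sylow
  have hP4 := H33.Klein.card_sylow hg hY P
  have hn := H33.Klein.not_hasNormal hg hY hnc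
  have e : (P : Subgroup Y) = closure {t, v} :=
    (eq_of_le_of_card_ge hP (by rw [hP4, hV.card_four])).symm
  have ec : centralizer ((P : Subgroup Y) : Set Y) = centralizer {t} ⊓ centralizer {v} := by
    rw [e, centralizer_closure]
    ext g; simp [mem_centralizer_iff]
  have ht : t ∈ (P : Subgroup Y) := e ▸ subset_closure (by simp)
  have ot := orderOf_two hp.sq₁ hp.ne₁
  obtain ⟨ζ₂, ζ₃, ζ₄, ε, hε, n2, n3, d1, d2, d3, hB, hval, c2, c3, c4, -⟩ :=
    Cfsg.Agent.S0948.result M hM P (e ▸ hV) fun s t hs ht => H33.Klein.isConj_invol P hP4 hn hs ht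
  have n4 : (ζ₄ : Y → ℂ) ≠ fun _ => 1 := fun e => by
    have := (hval t ot).2.2
    rw [e] at this
    norm_num at this
  set c := Nat.card ↥(centralizer ({t} : Set Y) ⊓ centralizer {v}) with hc
  have c0 : 0 < c := Nat.card_pos
  have k0 : 0 < k := Nat.pos_of_ne_zero fun e => by
    rw [e, zero_mul] at hk; exact Nat.card_pos.ne' hk
  rcases hε with rfl | rfl
  · obtain ⟨m, e1, e2⟩ := Cfsg.Agent.S4480.result M hM g₀ hg hY hnc P t ht ot ζ₂ ζ₃ ζ₄ 1 1 (-1) hB
      ⟨n2, n3, n4, d1, d2, d3⟩ ⟨Or.inl rfl, Or.inl rfl, Or.inr rfl⟩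
      (by simpa using hval t ot) (by norm_num) rfl
    rw [ec, ← hc] at e1 e2
    rw [ha, hk] at e2
    rw [hk] at e1
    generalize charDegree (ζ₄ : Y → ℂ) = x at e1 e2 c4
    obtain ⟨r, hr⟩ := c4
    have h1 : x ≤ x ^ 3 := Nat.le_self_pow (by norm_num) x
    zify [h1] at e1 e2
    have c0' : (c : ℤ) ≠ 0 := by exact_mod_cast c0.ne'
    have k0' : (k : ℤ) ≠ 0 := by exact_mod_cast k0.ne'
    have e3 : (k : ℤ) = m * r := by
      apply mul_left_cancel₀ (show (4 : ℤ) * c ≠ 0 by positivity)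
      linear_combination e1 + m * c * hr
    have e4 : (x : ℤ) = 4 * r - 1 := by linarith
    refine Or.inr ⟨m, Nat.pos_of_ne_zero fun e => k0' (by rw [e3, e]; simp),
      Int.natCast_dvd_natCast.1 ⟨r, e3⟩, ?_⟩
    zify
    apply mul_left_cancel₀ (show (8 : ℤ) * c * k ≠ 0 by positivity)
    rw [e4] at e2
    rw [e3] at e2 ⊢
    linear_combination e2
  · obtain ⟨E1, E2⟩ := H33.Klein.main hM P hP4 hn ht ot (ε₁ := 1) (ε₂ := -1) (ε₃ := -1) hB
      ⟨n2, n3, n4, d1, d2, d3⟩ ⟨Or.inl rfl, Or.inr rfl, Or.inr rfl⟩ (by simpa using hval t ot)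
    rw [ec, ← hc, ha, hk] at E2
    generalize charDegree (ζ₄ : Y → ℂ) = x4 at E1 E2 c4
    generalize charDegree (ζ₃ : Y → ℂ) = x3 at E1 E2 c3
    generalize charDegree (ζ₂ : Y → ℂ) = x2 at E1 E2
    have e2 : (x2 : ℤ) = 5 + (x3 - 3) + (x4 - 3) := by linarith
    have := klein_arith (a := a) (k := k) (p := x3 - 3) (q := x4 - 3) (by exact_mod_cast k0)
      (by omega) (by omega) (by
        apply mul_left_cancel₀ (show (k : ℤ) * c ^ 3 ≠ 0 by positivity)
        rw [e2] at E2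
        push_cast at E2
        linear_combination E2)
    exact Or.inl (by exact_mod_cast this)

/-- The order relation for a subgroup `Y` with Klein four Sylow `2`-subgroup `⟨t, v⟩`. -/
theorem klein {G : Type*} [Group G] [Finite G] {Y : Subgroup G} {t v y : G} (ht : t ∈ Y)
    (hv : v ∈ Y) (hy : y ∈ Y) (hp : IsPair t v)
    (yt : y * t * y⁻¹ = v) {g₀ : ℕ} (hg : Odd g₀) (hY : Nat.card Y = 4 * g₀)
    {a k : ℕ} (ha : Nat.card Y = a * Nat.card ↥(centralizer ({t} : Set G) ⊓ Y))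
    (hk : Nat.card ↥(centralizer ({t} : Set G) ⊓ Y) =
      k * Nat.card ↥(centralizer ({t} : Set G) ⊓ Y ⊓ centralizer {v})) :
    (8 * k ^ 2 < a ∧ a ≤ 15 * k ^ 2) ∨ ∃ m, 0 < m ∧ m ∣ k ∧ a + 6 * k * m = 8 * k ^ 2 + m ^ 2 := by
  have e1 : centralizer {(⟨t, ht⟩ : Y)} = (centralizer ({t} : Set G) ⊓ Y).subgroupOf Y := by
    ext g
    simp [mem_centralizer_singleton_iff, mem_subgroupOf, Subtype.ext_iff]
  have e2 : centralizer {(⟨t, ht⟩ : Y)} ⊓ centralizer {(⟨v, hv⟩ : Y)} =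
      (centralizer ({t} : Set G) ⊓ Y ⊓ centralizer {v}).subgroupOf Y := by
    ext g
    simp [mem_centralizer_singleton_iff, mem_subgroupOf, Subtype.ext_iff]
  refine klein_aux (t := ⟨t, ht⟩) (v := ⟨v, hv⟩) (y := ⟨y, hy⟩)
    ⟨Subtype.ext hp.sq₁, fun e => hp.ne₁ (congrArg Subtype.val e), Subtype.ext hp.sq₂,
      fun e => hp.ne₂ (congrArg Subtype.val e), fun e => hp.ne (congrArg Subtype.val e),
      Subtype.ext hp.comm⟩ (Subtype.ext yt) hg hY ?_ ?_
  · rw [e1, Nat.card_congr (subgroupOfEquivOfLe inf_le_right).toEquiv, ha]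
  · rw [e2, e1, Nat.card_congr (subgroupOfEquivOfLe inf_le_right).toEquiv,
      Nat.card_congr (subgroupOfEquivOfLe (inf_le_left.trans inf_le_right)).toEquiv, hk]

end H81.TP
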