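import Mathlib
import Cfsg.Agent.Base
import Cfsg.Agent.Lib.H81.TP1
import Cfsg.Agent.Lib.H81.TP2

/-! Doubly transitive groups whose two-point stabiliser is `A₄` or `A₅`: local counting. -/

set_option autoImplicit false
set_option linter.style.haveILetI false
set_option linter.unusedSectionVars false

namespace H81.TP

open MulAction Subgroup H29

variable {G Ω : Type*} [Group G] [MulAction G Ω]

/-- The fixed points of `t`. -/
def Fx (Ω : Type*) [MulAction G Ω] (t : G) : Set Ω := {x | t • x = x}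

/-- The common fixed points of `t` and `v`. -/
def Fv (Ω : Type*) [MulAction G Ω] (t v : G) : Set Ω := {x | t • x = x ∧ v • x = x}

/-- The normaliser of `⟨t, v⟩` in the centraliser of `t`. -/
def Nv {t v : G} (hp : IsPair t v) : Subgroup G where
  carrier := {g | g * t * g⁻¹ = t ∧ (g * v * g⁻¹ = v ∨ g * v * g⁻¹ = t * v)}
  one_mem' := by simp
  mul_mem' := by
    rintro a b ⟨h1, h2⟩ ⟨h3, h4⟩
    have e : ∀ x, a * b * x * (a * b)⁻¹ = a * (b * x * b⁻¹) * a⁻¹ := fun x => by group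
    refine ⟨by rw [e, h3, h1], ?_⟩
    rw [e]
    rcases h4 with h4 | h4 <;> rw [h4]
    · exact h2
    · rw [← conj_mul, h1]
      rcases h2 with h2 | h2 <;> rw [h2]
      exacts [Or.inr rfl, Or.inl (by rw [← mul_assoc, hp.sq₁, one_mul])]
  inv_mem' := by
    rintro a ⟨h1, h2⟩
    have e : ∀ x y, a * x * a⁻¹ = y → a⁻¹ * y * a⁻¹⁻¹ = x := fun x y h => by rw [← h]; group
    refine ⟨e _ _ h1, h2.imp (e _ _) fun h2 => e _ _ ?_⟩
    rw [← conj_mul, h1, h2, ← mul_assoc, hp.sq₁, one_mul]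

/-- The conjugates of `v` and `t v` in the centraliser of `t`. -/
def Dd (t v : G) : Set G :=
  {u | ∃ g, g * t * g⁻¹ = t ∧ (u = g * v * g⁻¹ ∨ u = g * (t * v) * g⁻¹)}

theorem mem_cent {t g : G} : g ∈ centralizer ({t} : Set G) ↔ g * t * g⁻¹ = t := by
  rw [mem_centralizer_singleton_iff, mul_inv_eq_iff_eq_mul]

theorem comm_of {t g : G} (h : g * t * g⁻¹ = t) : g * t = t * g := mul_inv_eq_iff_eq_mul.1 h

theorem of_comm {t g : G} (h : g * t = t * g) : g * t * g⁻¹ = t := mul_inv_eq_iff_eq_mul.2 h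

theorem inv_cj {t g u : G} (h : g * t * g⁻¹ = u) : g⁻¹ * u * g⁻¹⁻¹ = t := by rw [← h]; group

theorem smul_smul_of_sq {u : G} (h : u * u = 1) {a b : Ω} (e : u • a = b) : u • b = a := by
  rw [← e, ← mul_smul, h, one_smul]

theorem cj_smul {g u : G} {a b : Ω} (e : u • g • a = g • b) : (g⁻¹ * u * g⁻¹⁻¹) • a = b := by
  rw [inv_inv, mul_smul, mul_smul, e, inv_smul_smul]

theorem mem_Fx_smul {t g : G} (hg : g * t * g⁻¹ = t) {x : Ω} (hx : x ∈ Fx Ω t) :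
    g • x ∈ Fx Ω t := by
  show t • g • x = g • x
  rw [← mul_smul, ← comm_of hg, mul_smul, show t • x = x from hx]

theorem ncard_Fx_conj (g t : G) : (Fx Ω (g * t * g⁻¹)).ncard = (Fx Ω t).ncard := by
  symm
  refine Set.ncard_congr (fun x _ => g • x) (fun x hx => (conj_smul_iff g t x x).2 hx)
    (fun a b _ _ e => smul_left_cancel g e) (fun x hx => ⟨g⁻¹ • x, ?_, smul_inv_smul g x⟩)
  exact (conj_smul_iff g t _ _).1 (by rw [smul_inv_smul]; exact hx)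

/-- The setting: the stabiliser of `α, β` has order `4 c`, Sylow subgroup `⟨t, v⟩`. -/
structure TP (α β : Ω) (t v y : G) (c : ℕ) : Prop where
  faith : ∀ g : G, (∀ x : Ω, g • x = x) → g = 1
  ne : α ≠ β
  tr : ∀ a b : Ω, a ≠ b → ∃ g : G, g • α = a ∧ g • β = b
  pair : IsPair t v
  ta : t • α = α
  tb : t • β = β
  va : v • α = α
  vb : v • β = β
  ya : y • α = α
  yb : y • β = β
  yt : y * t * y⁻¹ = v
  yv : y * v * y⁻¹ = t * v
  y3 : y ^ 3 = 1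
  cent : ∀ g : G, g • α = α → g • β = β → g * t * g⁻¹ = t → g = 1 ∨ g = t ∨ g = v ∨ g = t * v
  conj : ∀ u : G, u • α = α → u • β = β → u * u = 1 → u ≠ 1 →
    ∃ k : G, k • α = α ∧ k • β = β ∧ k * t * k⁻¹ = u
  card : Nat.card ↥(stabilizer G α ⊓ stabilizer G β) = 4 * c
  c35 : c = 3 ∨ c = 15
  kc : ∀ s : G, s * s = 1 → s • α = β → s * t = t * s → s * v = v * s → s * y = y * s →
    ∀ k : G, k • α = α → k • β = β → s * k = k * s

namespace TP

variable {α β : Ω} {t v y : G} {c : ℕ} (h : TP α β t v y c)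
include h

theorem tt : t * t = 1 := h.pair.sq₁
theorem vv : v * v = 1 := h.pair.sq₂
theorem tvtv : t * v * (t * v) = 1 := h.pair.rot.sq₂
theorem tva : (t * v) • α = α := by rw [mul_smul, h.va, h.ta]
theorem tvb : (t * v) • β = β := by rw [mul_smul, h.vb, h.tb]
theorem vt : v * t * v⁻¹ = t := of_comm h.pair.comm.symm
theorem tvt : t * v * t * (t * v)⁻¹ = t := of_comm (by rw [mul_assoc, ← h.pair.comm])
theorem ytv : y * (t * v) * y⁻¹ = t := by
  rw [← conj_mul, h.yt, h.yv, ← mul_assoc, ← h.pair.comm, mul_assoc, h.vv, mul_one]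
theorem odd_c : Odd c := by rcases h.c35 with rfl | rfl <;> decide
theorem cv : IsConj t v := isConj_iff.2 ⟨y, h.yt⟩
theorem ctv : IsConj t (t * v) := h.cv.trans (isConj_iff.2 ⟨y, h.yv⟩)

theorem memV {g : G} : g ∈ closure ({t, v} : Set G) ↔ g • α = α ∧ g • β = β ∧ g * t * g⁻¹ = t := by
  rw [h.pair.mem_closure]
  refine ⟨?_, fun e => h.cent g e.1 e.2.1 e.2.2⟩
  rintro (rfl | rfl | rfl | rfl)
  exacts [by simp, ⟨h.ta, h.tb, by simp⟩, ⟨h.va, h.vb, h.vt⟩, ⟨h.tva, h.tvb, h.tvt⟩]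

theorem cardV : Nat.card ↥(closure ({t, v} : Set G)) = 4 := h.pair.isKleinFour.card_four

theorem ncardV : (closure ({t, v} : Set G) : Set G).ncard = 4 := by
  rw [← Nat.card_coe_set_eq]; exact h.cardV

theorem top : T2 (⊤ : Subgroup G) (Set.univ : Set Ω) α β :=
  ⟨h.ne, trivial, trivial, fun _ _ _ _ => trivial, fun a _ b _ hab =>
    (h.tr a b hab).imp fun _ e => ⟨trivial, e⟩⟩

theorem conj_of_fix {u : G} (hu : u * u = 1) (u1 : u ≠ 1) {a b : Ω} (hab : a ≠ b)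
    (ha : u • a = a) (hb : u • b = b) : IsConj t u := by
  obtain ⟨g, rfl, rfl⟩ := h.tr a b hab
  obtain ⟨k, -, -, e⟩ := h.conj (g⁻¹ * u * g⁻¹⁻¹) (cj_smul ha) (cj_smul hb)
    (by rw [conj_mul, hu]; simp) (mt conj_eq_one_iff.1 u1)
  exact (isConj_iff.2 ⟨k, e⟩).trans (isConj_iff.2 ⟨g⁻¹, rfl⟩).symm

theorem witt : T2 (centralizer ({t} : Set G)) (Fx Ω t) α β := by
  refine ⟨h.ne, h.ta, h.tb, fun g hg x hx => mem_Fx_smul (mem_cent.1 hg) hx,
    fun a ha b hb hab => ?_⟩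
  obtain ⟨g, rfl, rfl⟩ := h.tr a b hab
  obtain ⟨k, e1, e2, e⟩ := h.conj (g⁻¹ * t * g⁻¹⁻¹) (cj_smul ha) (cj_smul hb)
    (by rw [conj_mul, h.tt]; simp) (mt conj_eq_one_iff.1 h.pair.ne₁)
  refine ⟨g * k, mem_cent.2 ?_, by rw [mul_smul, e1], by rw [mul_smul, e2]⟩
  rw [show g * k * t * (g * k)⁻¹ = g * (k * t * k⁻¹) * g⁻¹ by group, e]; group

theorem trC {a b : Ω} (ha : a ∈ Fx Ω t) (hb : b ∈ Fx Ω t) (hab : a ≠ b) :
    ∃ g : G, g * t * g⁻¹ = t ∧ g • α = a ∧ g • β = b := by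
  obtain ⟨g, hg, e⟩ := h.witt.tr a ha b hb hab
  exact ⟨g, mem_cent.1 hg, e⟩

theorem cj_cent {g u : G} (hg : g * t * g⁻¹ = t) (hu : u * t * u⁻¹ = t) :
    g * u * g⁻¹ * t * (g * u * g⁻¹)⁻¹ = t :=
  mem_cent.1 (mul_mem (mul_mem (mem_cent.2 hg) (mem_cent.2 hu)) (inv_mem (mem_cent.2 hg)))

theorem stabC : centralizer ({t} : Set G) ⊓ stabilizer G α ⊓ stabilizer G β = closure {t, v} := by
  ext g; simp only [mem_inf, mem_cent, mem_stabilizer_iff, h.memV]; tauto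

theorem v_or {g u : G} (hg : g * t * g⁻¹ = t) (hu : u * t * u⁻¹ = t) (u1 : u ≠ 1) (ut : u ≠ t)
    (ha : u • g • α = g • α) (hb : u • g • β = g • β) :
    g⁻¹ * u * g⁻¹⁻¹ = v ∨ g⁻¹ * u * g⁻¹⁻¹ = t * v := by
  rcases h.cent _ (cj_smul ha) (cj_smul hb) (h.cj_cent (inv_cj hg) hu) with e | e | e
  · exact absurd (conj_eq_one_iff.1 e) u1
  · exact absurd (by rw [← hg, ← e]; group) ut
  · exact e

theorem wittN : T2 (Nv h.pair) (Fv Ω t v) α β := by
  refine ⟨h.ne, ⟨h.ta, h.va⟩, ⟨h.tb, h.vb⟩, fun g hg x hx => ⟨mem_Fx_smul hg.1 hx.1, ?_⟩,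
    fun a ha b hb hab => ?_⟩
  · rw [← smul_left_cancel_iff g⁻¹, inv_smul_smul, ← mul_smul, ← mul_smul, ← inv_inv g, inv_inv g⁻¹]
    rcases ((Nv h.pair).inv_mem hg).2 with e | e <;> rw [e]
    exacts [hx.2, by rw [mul_smul, hx.2, hx.1]]
  · obtain ⟨g, hg, rfl, rfl⟩ := h.trC ha.1 hb.1 hab
    refine ⟨g, ?_, rfl, rfl⟩
    have : g⁻¹ ∈ Nv h.pair := ⟨inv_cj hg, h.v_or hg h.vt h.pair.ne₂ h.pair.ne.symm ha.2 hb.2⟩
    exact inv_mem_iff.1 this

theorem V_le_N : closure ({t, v} : Set G) ≤ Nv h.pair := by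
  rw [closure_le]
  rintro x (rfl | rfl)
  exacts [⟨by simp, Or.inl (of_comm h.pair.comm)⟩, ⟨h.vt, Or.inl (by simp)⟩]

theorem stabN : Nv h.pair ⊓ stabilizer G α ⊓ stabilizer G β = closure {t, v} :=
  le_antisymm (fun g hg => h.memV.2 ⟨hg.1.2, hg.2, hg.1.1.1⟩) fun g hg =>
    ⟨⟨h.V_le_N hg, (h.memV.1 hg).1⟩, (h.memV.1 hg).2.1⟩

theorem fix_of_V {g : G} (hg : g ∈ closure ({t, v} : Set G)) {x : Ω} (hx : x ∈ Fv Ω t v) :
    g • x = x := by
  rcases h.pair.mem_closure.1 hg with rfl | rfl | rfl | rfl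
  exacts [one_smul _ _, hx.1, hx.2, by rw [mul_smul, hx.2, hx.1]]

theorem V_comm {g : G} (hg : g ∈ closure ({t, v} : Set G)) : g * v = v * g := by
  rcases h.pair.mem_closure.1 hg with rfl | rfl | rfl | rfl
  exacts [by simp, h.pair.comm, rfl, by rw [mul_assoc, ← mul_assoc v, ← h.pair.comm, mul_assoc]]

theorem V_sq {g : G} (hg : g ∈ closure ({t, v} : Set G)) : g * g = 1 := by
  rcases h.pair.mem_closure.1 hg with rfl | rfl | rfl | rfl
  exacts [by simp, h.tt, h.vv, h.tvtv]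

/-- Two elements of `C(t)` interchanging `α` and `β` differ by an element of `V`. -/
theorem coset {τ u : G} (hτ : τ * t * τ⁻¹ = t) (a1 : τ • α = β) (b1 : τ • β = α)
    (hu : u * t * u⁻¹ = t) (a2 : u • α = β) (b2 : u • β = α) :
    u = τ ∨ u = τ * t ∨ u = τ * v ∨ u = τ * (t * v) := by
  have := h.cent (τ⁻¹ * u) (by rw [mul_smul, a2, ← a1, inv_smul_smul])
    (by rw [mul_smul, b2, ← b1, inv_smul_smul])
    (mem_cent.1 (mul_mem (inv_mem (mem_cent.2 hτ)) (mem_cent.2 hu)))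
  simpa only [inv_mul_eq_iff_eq_mul, mul_one] using this

theorem Dd_cent {u : G} (hu : u ∈ Dd t v) : u * t * u⁻¹ = t := by
  obtain ⟨g, hg, rfl | rfl⟩ := hu
  exacts [h.cj_cent hg h.vt, h.cj_cent hg h.tvt]

theorem Dd_sq {u : G} (hu : u ∈ Dd t v) : u * u = 1 := by
  obtain ⟨g, hg, rfl | rfl⟩ := hu
  exacts [by rw [conj_mul, h.vv]; simp, by rw [conj_mul, h.tvtv]; simp]

theorem Dd_conj {u : G} (hu : u ∈ Dd t v) : IsConj t u := by
  obtain ⟨g, hg, rfl | rfl⟩ := hu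
  exacts [h.cv.trans (isConj_iff.2 ⟨g, rfl⟩), h.ctv.trans (isConj_iff.2 ⟨g, rfl⟩)]

theorem Dd_cj {u g : G} (hg : g * t * g⁻¹ = t) (hu : u ∈ Dd t v) : g * u * g⁻¹ ∈ Dd t v := by
  obtain ⟨k, hk, e⟩ := hu
  refine ⟨g * k, mem_cent.1 (mul_mem (mem_cent.2 hg) (mem_cent.2 hk)), ?_⟩
  rcases e with rfl | rfl
  exacts [Or.inl (by group), Or.inr (by group)]

theorem Dd_mul {u : G} (hu : u ∈ Dd t v) : u * t ∈ Dd t v := by
  obtain ⟨g, hg, e⟩ := hu
  refine ⟨g, hg, ?_⟩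
  rcases e with rfl | rfl
  · exact Or.inr (by rw [h.pair.comm, ← conj_mul, hg])
  · exact Or.inl (by
      conv_lhs => rw [← hg, hg]
      rw [show g * (t * v) * g⁻¹ * t = g * (t * v) * g⁻¹ * (g * t * g⁻¹) by rw [hg], conj_mul,
        h.pair.comm, mul_assoc v, h.tt, mul_one])

theorem Dd_mul_iff {u : G} : u * t ∈ Dd t v ↔ u ∈ Dd t v :=
  ⟨fun hu => by simpa only [mul_assoc, h.tt, mul_one] using h.Dd_mul hu, h.Dd_mul⟩

theorem Dd_two {u : G} (hu : u ∈ Dd t v) :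
    ∃ a ∈ Fx Ω t, ∃ b ∈ Fx Ω t, a ≠ b ∧ u • a = a ∧ u • b = b := by
  obtain ⟨g, hg, e⟩ := hu
  refine ⟨g • α, mem_Fx_smul hg h.ta, g • β, mem_Fx_smul hg h.tb,
    fun e => h.ne (smul_left_cancel g e), ?_⟩
  rcases e with rfl | rfl <;> rw [conj_smul_iff, conj_smul_iff]
  exacts [⟨h.va, h.vb⟩, ⟨h.tva, h.tvb⟩]

theorem mem_Dd {u : G} (hu : u * t * u⁻¹ = t) (u1 : u ≠ 1) (ut : u ≠ t) {a b : Ω}
    (ha : a ∈ Fx Ω t) (hb : b ∈ Fx Ω t) (hab : a ≠ b) (e1 : u • a = a) (e2 : u • b = b) :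
    u ∈ Dd t v := by
  obtain ⟨g, hg, rfl, rfl⟩ := h.trC ha hb hab
  refine ⟨g, hg, ?_⟩
  rcases h.v_or hg hu u1 ut e1 e2 with e | e <;> rw [← e]
  exacts [Or.inl (by group), Or.inr (by group)]

theorem Dd_fix {u : G} (hu : u ∈ Dd t v) :
    {x | x ∈ Fx Ω t ∧ u • x = x}.ncard = (Fv Ω t v).ncard := by
  obtain ⟨g, hg, e⟩ := hu
  have k : ∀ x ∈ Fx Ω t, u • g • x = g • x ↔ v • x = x := fun x hx => by
    rcases e with rfl | rfl <;> rw [conj_smul_iff]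
    rw [h.pair.comm, mul_smul, show t • x = x from hx]
  symm
  refine Set.ncard_congr (fun x _ => g • x) (fun x hx => ⟨mem_Fx_smul hg hx.1, (k x hx.1).2 hx.2⟩)
    (fun a b _ _ e => smul_left_cancel g e) (fun x hx => ⟨g⁻¹ • x, ?_, smul_inv_smul g x⟩)
  have := mem_Fx_smul (inv_cj hg) hx.1
  exact ⟨this, (k _ this).1 (by rw [smul_inv_smul]; exact hx.2)⟩

variable [Finite G] [Finite Ω]

theorem card_G : Nat.card G = Nat.card Ω * ((Nat.card Ω - 1) * (4 * c)) := by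
  have := h.top.card_eq
  rwa [top_inf_eq, h.card, Set.ncard_univ, card_top] at this

theorem card_Ga : Nat.card (stabilizer G α) = (Nat.card Ω - 1) * (4 * c) := by
  have := h.top.card_stab
  rwa [top_inf_eq, h.card, Set.ncard_univ] at this

theorem card_C : Nat.card (centralizer ({t} : Set G)) =
    (Fx Ω t).ncard * (((Fx Ω t).ncard - 1) * 4) := by
  have := h.witt.card_eq
  rwa [h.stabC, h.cardV] at this

theorem card_Ca : Nat.card ↥(centralizer ({t} : Set G) ⊓ stabilizer G α) =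
    ((Fx Ω t).ncard - 1) * 4 := by
  have := h.witt.card_stab
  rwa [h.stabC, h.cardV] at this

theorem card_N : Nat.card (Nv h.pair) = (Fv Ω t v).ncard * (((Fv Ω t v).ncard - 1) * 4) := by
  have := h.wittN.card_eq
  rwa [h.stabN, h.cardV] at this

theorem card_Na : Nat.card ↥(Nv h.pair ⊓ stabilizer G α) = ((Fv Ω t v).ncard - 1) * 4 := by
  have := h.wittN.card_stab
  rwa [h.stabN, h.cardV] at this

theorem f_pow (he : Even (Fv Ω t v).ncard) : ∃ m, (Fv Ω t v).ncard = 2 ^ m :=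
  h.wittN.two_pow (fun g hg a b _ hx => h.fix_of_V (h.memV.2 ⟨a, b, hg.1⟩) hx) he

theorem par_i : Nat.card Ω ≡ (Fx Ω t).ncard [MOD 2] := by
  have := ncard_modEq_elt (p := 2) (g := t) (by rw [pow_two, h.tt]) (F := (Set.univ : Set Ω))
    (Set.toFinite _) fun _ _ => trivial
  simp only [Set.ncard_univ, Set.mem_univ, true_and] at this
  exact this

theorem par_f : (Fx Ω t).ncard ≡ (Fv Ω t v).ncard [MOD 2] :=
  ncard_modEq_elt (p := 2) (g := v) (by rw [pow_two, h.vv]) (Set.toFinite _)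
    fun _ hx => mem_Fx_smul h.vt hx

theorem ncard_inv : {u : G | (u * u = 1 ∧ u ≠ 1) ∧ u • α = α ∧ u • β = β}.ncard = c := by
  have h1 := ncard_bip (s := ((stabilizer G α ⊓ stabilizer G β : Subgroup G) : Set G))
    (t := {u : G | (u * u = 1 ∧ u ≠ 1) ∧ u • α = α ∧ u • β = β}) (Set.toFinite _) (Set.toFinite _)
    (fun k u => k * t * k⁻¹ = u) (m := 1) (n := 4) (fun k hk => by
      rw [Set.ncard_eq_one]
      refine ⟨k * t * k⁻¹, Set.eq_singleton_iff_unique_mem.2 ⟨⟨⟨⟨by rw [conj_mul, h.tt]; simp,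
        by simpa using h.pair.ne₁⟩, ?_, ?_⟩, rfl⟩, fun x hx => hx.2.symm⟩⟩
      · conv_lhs => rw [← show k • α = α from hk.1]
        rw [conj_smul_iff' h.ta]; exact hk.1
      · conv_lhs => rw [← show k • β = β from hk.2]
        rw [conj_smul_iff' h.tb]; exact hk.2)
    (fun u hu => by
      obtain ⟨k, e1, e2, rfl⟩ := h.conj u hu.2.1 hu.2.2 hu.1.1 hu.1.2
      rw [← h.cardV, ← SetLike.coe_sort_coe, Nat.card_coe_set_eq]
      symm
      refine Set.ncard_congr (fun w _ => k * w) (fun w hw => ?_) (fun a b _ _ e => by simpa using e)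
        (fun g hg => ⟨k⁻¹ * g, h.memV.2 ⟨?_, ?_, ?_⟩, by group⟩)
      · obtain ⟨a, b, e⟩ := h.memV.1 hw
        refine ⟨⟨show (k * w) • α = α by rw [mul_smul, a, e1],
          show (k * w) • β = β by rw [mul_smul, b, e2]⟩, ?_⟩
        rw [show k * w * t * (k * w)⁻¹ = k * (w * t * w⁻¹) * k⁻¹ by group, e]
      · rw [mul_smul, show g • α = α from hg.1.1, inv_smul_eq_iff, e1]
      · rw [mul_smul, show g • β = β from hg.1.2, inv_smul_eq_iff, e2]
      · rw [show k⁻¹ * g * t * (k⁻¹ * g)⁻¹ = k⁻¹ * (g * t * g⁻¹) * k by group, hg.2]; group)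
  rw [← Nat.card_coe_set_eq, SetLike.coe_sort_coe, h.card] at h1
  omega
where conj_smul_iff' {k u : G} {a : Ω} (e : u • a = a) : (k * u * k⁻¹) • k • a = k • a :=
  (conj_smul_iff k u a a).2 e

/-- `c (n - i) = d i (i - 1)`. -/
theorem dcG : (c : ℤ) * (Nat.card Ω - (Fx Ω t).ncard) =
    {u | IsConj t u ∧ u • α = β}.ncard * ((Fx Ω t).ncard * ((Fx Ω t).ncard - 1)) := by
  have := h.top.dc (D := {u | IsConj t u}) (fun _ _ => trivial)
    (fun g _ u hu => hu.trans (isConj_iff.2 ⟨g, rfl⟩)) (f := (Fx Ω t).ncard) fun u hu => by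
      obtain ⟨g, rfl⟩ := isConj_iff.1 hu
      rw [← ncard_Fx_conj g t]
      simp only [Set.mem_univ, true_and]; rfl
  rw [Set.ncard_univ] at this
  rw [← h.ncard_inv]
  refine Eq.trans ?_ this
  congr 3
  ext u
  refine and_congr_left fun e => ⟨fun hu => h.conj_of_fix hu.1 hu.2 h.ne e.1 e.2, fun hu => ?_⟩
  obtain ⟨g, rfl⟩ := isConj_iff.1 hu
  exact ⟨by rw [conj_mul, h.tt]; simp, by simpa using h.pair.ne₁⟩

theorem dcC : 2 * (((Fx Ω t).ncard : ℤ) - (Fv Ω t v).ncard) =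
    {u | u ∈ Dd t v ∧ u • α = β}.ncard * ((Fv Ω t v).ncard * ((Fv Ω t v).ncard - 1)) := by
  have := h.witt.dc (D := Dd t v) (fun u hu => mem_cent.2 (h.Dd_cent hu))
    (fun g hg u hu => h.Dd_cj (mem_cent.1 hg) hu) fun u hu => h.Dd_fix hu
  have e : {u | u ∈ Dd t v ∧ u • α = α ∧ u • β = β} = {v, t * v} := by
    ext u
    refine ⟨fun hu => ?_, ?_⟩
    · obtain ⟨g, hg, e⟩ := hu.1
      rcases h.cent u hu.2.1 hu.2.2 (h.Dd_cent hu.1) with e1 | e1 | e1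
      · rcases e with e | e <;> rw [e, conj_eq_one_iff] at e1
        exacts [absurd e1 h.pair.ne₂, absurd e1 h.pair.rot.ne₂]
      · rw [← hg] at e1
        rcases e with e | e <;> rw [e, mul_left_inj, mul_right_inj] at e1
        exacts [absurd e1 h.pair.ne.symm, absurd (by simpa using e1) h.pair.ne₂]
      · exact e1
    · rintro (rfl | rfl)
      exacts [⟨⟨1, by simp, Or.inl (by simp)⟩, h.va, h.vb⟩,
        ⟨⟨1, by simp, Or.inr (by simp)⟩, h.tva, h.tvb⟩]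
  rw [e, Set.ncard_pair h.pair.rot.ne] at this
  exact_mod_cast this

variable {τ : G} (hτ : τ * t * τ⁻¹ = t) (a1 : τ • α = β) (b1 : τ • β = α)
include hτ a1 b1

theorem mem_swap {u : G} : u ∈ Dd t v ∧ u • α = β ↔
    (τ ∈ Dd t v ∧ (u = τ ∨ u = τ * t)) ∨ (τ * v ∈ Dd t v ∧ (u = τ * v ∨ u = τ * v * t)) := by
  have e : τ * (t * v) = τ * v * t := by rw [h.pair.comm, mul_assoc]
  constructor
  · rintro ⟨hu, ha⟩
    rcases h.coset hτ a1 b1 (h.Dd_cent hu) ha (smul_smul_of_sq (h.Dd_sq hu) ha) with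
      rfl | rfl | rfl | rfl
    exacts [Or.inl ⟨hu, Or.inl rfl⟩, Or.inl ⟨h.Dd_mul_iff.1 hu, Or.inr rfl⟩,
      Or.inr ⟨hu, Or.inl rfl⟩, Or.inr ⟨h.Dd_mul_iff.1 (e ▸ hu), Or.inr e⟩]
  · rintro (⟨hu, rfl | rfl⟩ | ⟨hu, rfl | rfl⟩)
    exacts [⟨hu, a1⟩, ⟨h.Dd_mul hu, by rw [mul_smul, h.ta, a1]⟩,
      ⟨hu, by rw [mul_smul, h.va, a1]⟩, ⟨h.Dd_mul hu, by rw [mul_smul, h.ta, mul_smul, h.va, a1]⟩]

theorem dd0 (h1 : τ ∉ Dd t v) (h2 : τ * v ∉ Dd t v) : (Fx Ω t).ncard = (Fv Ω t v).ncard := by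
  have := h.dcC
  rw [show {u | u ∈ Dd t v ∧ u • α = β} = ∅ from Set.eq_empty_of_forall_notMem fun u hu => by
    rcases (h.mem_swap hτ a1 b1).1 hu with e | e
    exacts [h1 e.1, h2 e.1], Set.ncard_empty] at this
  omega

theorem dd2 (h1 : τ ∈ Dd t v) (h2 : τ * v ∉ Dd t v) :
    (Fx Ω t).ncard = (Fv Ω t v).ncard * (Fv Ω t v).ncard := by
  have := h.dcC
  rw [show {u | u ∈ Dd t v ∧ u • α = β} = {τ, τ * t} from Set.ext fun u => by
    rw [Set.mem_setOf_eq, h.mem_swap hτ a1 b1]; simp [h1, h2],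
    Set.ncard_pair (by simpa using h.pair.ne₁)] at this
  zify; push_cast at this; linarith

theorem dd4 (h1 : τ ∈ Dd t v) (h2 : τ * v ∈ Dd t v) :
    (Fx Ω t).ncard + (Fv Ω t v).ncard = 2 * ((Fv Ω t v).ncard * (Fv Ω t v).ncard) := by
  have := h.dcC
  have e : {u | u ∈ Dd t v ∧ u • α = β} = (fun w => τ * w) '' (closure ({t, v} : Set G)) := by
    ext u
    rw [Set.mem_setOf_eq, h.mem_swap hτ a1 b1]
    simp only [h1, h2, true_and, Set.mem_image, SetLike.mem_coe, h.pair.mem_closure,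
      exists_eq_or_imp, exists_eq_left, mul_one, h.pair.comm, mul_assoc, or_assoc, @eq_comm _ u]
  rw [e, Set.ncard_image_of_injective _ (mul_right_injective τ), h.ncardV] at this
  zify; push_cast at this; linarith

end TP

end H81.TP
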