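import Mathlib
import Cfsg.Agent.Base
import Cfsg.Agent.Lib.H81.TP3

/-! Doubly transitive groups whose two-point stabiliser is `A₄` or `A₅`: swapping involutions. -/

set_option autoImplicit false
set_option linter.style.haveILetI false
set_option linter.unusedSectionVars false

namespace H81.TP

open MulAction Subgroup H29

variable {G Ω : Type*} [Group G] [MulAction G Ω]

/-- The elements of `C(t)` that act on the fixed points of `t` as involutions with at most one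
fixed point. -/
def Rt (Ω : Type*) [MulAction G Ω] (t : G) : Set G :=
  {r | r * t * r⁻¹ = t ∧ (∀ x ∈ Fx Ω t, r • r • x = x) ∧
    ∀ a ∈ Fx Ω t, ∀ b ∈ Fx Ω t, r • a = a → r • b = b → a = b}

theorem Rt_cj {t g r : G} (hg : g * t * g⁻¹ = t) (hr : r ∈ Rt Ω t) : g * r * g⁻¹ ∈ Rt Ω t := by
  have k : ∀ x ∈ Fx Ω t, ∃ x' ∈ Fx Ω t, g • x' = x := fun x hx =>
    ⟨g⁻¹ • x, mem_Fx_smul (inv_cj hg) hx, smul_inv_smul g x⟩
  refine ⟨mem_cent.1 (mul_mem (mul_mem (mem_cent.2 hg) (mem_cent.2 hr.1))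
    (inv_mem (mem_cent.2 hg))), fun x hx => ?_, fun a ha b hb e1 e2 => ?_⟩
  · obtain ⟨x, hx', rfl⟩ := k x hx
    rw [← mul_smul, conj_mul, conj_smul_iff, mul_smul, hr.2.1 x hx']
  · obtain ⟨a, ha', rfl⟩ := k a ha
    obtain ⟨b, hb', rfl⟩ := k b hb
    rw [conj_smul_iff] at e1 e2
    rw [hr.2.2 a ha' b hb' e1 e2]

theorem conj_fix_elt [Finite G] {p : ℕ} [Fact p.Prime] {g : G} (hg : g ^ p = 1) {S : Set G}
    (h : ∀ x ∈ S, g * x * g⁻¹ ∈ S) (hd : ¬ p ∣ S.ncard) : ∃ x ∈ S, g * x * g⁻¹ = x :=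
  exists_fix_elt (G := MulAut G) (g := MulAut.conj g) (by rw [← map_pow, hg, map_one])
    (Set.toFinite S) h hd

theorem card_mul_relIndex_of_le {A B : Subgroup G} (hAB : A ≤ B) :
    Nat.card A * A.relIndex B = Nat.card B := by
  rw [← Nat.card_congr (subgroupOfEquivOfLe hAB).toEquiv]
  exact (A.subgroupOf B).card_mul_index

namespace TP

variable {α β : Ω} {t v y : G} {c : ℕ} (h : TP α β t v y c) [Finite G] [Finite Ω]
include h

theorem cm {u : G} (hu : u * u = 1) (a : u • α = β) :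
    ∃ k : G, k • α = α ∧ k • β = β ∧ k * u * k⁻¹ * t * (k * u * k⁻¹)⁻¹ = t := by
  haveI : Fact (Nat.Prime 2) := ⟨Nat.prime_two⟩
  have b := smul_smul_of_sq hu a
  obtain ⟨x, hx, e⟩ := conj_fix_elt (p := 2) (g := u) (by rw [pow_two, hu])
    (S := {u : G | (u * u = 1 ∧ u ≠ 1) ∧ u • α = α ∧ u • β = β})
    (fun x hx => ⟨⟨by rw [conj_mul, hx.1.1]; simp, mt conj_eq_one_iff.1 hx.1.2⟩,
      by rw [← b, conj_smul_iff]; exact hx.2.2, by rw [← a, conj_smul_iff]; exact hx.2.1⟩)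
    (by rw [h.ncard_inv, ← even_iff_two_dvd]; exact Nat.not_even_iff_odd.2 h.odd_c)
  obtain ⟨k, e1, e2, rfl⟩ := h.conj x hx.2.1 hx.2.2 hx.1.1 hx.1.2
  refine ⟨k⁻¹, by rw [inv_smul_eq_iff, e1], by rw [inv_smul_eq_iff, e2], ?_⟩
  rw [show k⁻¹ * u * k⁻¹⁻¹ * t * (k⁻¹ * u * k⁻¹⁻¹)⁻¹ = k⁻¹ * (u * (k * t * k⁻¹) * u⁻¹) * k by group,
    e]; group

theorem swapG {u : G} {a : Ω} (ha : u • a ≠ a) :
    ∃ g : G, g • α = a ∧ (g⁻¹ * u * g⁻¹⁻¹) • α = β := by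
  obtain ⟨g, e1, e2⟩ := h.tr a (u • a) ha.symm
  exact ⟨g, e1, cj_smul (by rw [e1, e2])⟩

/-- Every involution is conjugate to `t` or to an involution of `C(t)` interchanging `α, β`. -/
theorem inv_cases {u : G} (hu : u * u = 1) (u1 : u ≠ 1) :
    ∃ w, IsConj u w ∧ w * w = 1 ∧ w * t * w⁻¹ = t ∧ w • α = β := by
  obtain ⟨a, ha⟩ : ∃ a : Ω, u • a ≠ a := by
    by_contra hc
    exact u1 (h.faith u fun x => not_not.1 fun e => hc ⟨x, e⟩)
  obtain ⟨g, -, e⟩ := h.swapG ha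
  have e2 : g⁻¹ * u * g⁻¹⁻¹ * (g⁻¹ * u * g⁻¹⁻¹) = 1 := by rw [conj_mul, hu]; simp
  obtain ⟨k, e3, e4, e5⟩ := h.cm e2 e
  refine ⟨_, (isConj_iff.2 ⟨g⁻¹, rfl⟩).trans (isConj_iff.2 ⟨k, rfl⟩),
    by rw [conj_mul, e2]; simp, e5, ?_⟩
  conv_lhs => rw [← e3]
  conv_rhs => rw [← e4]
  rwa [conj_smul_iff]

theorem swapC {r : G} {a : Ω} (hr : r * t * r⁻¹ = t) (ha : a ∈ Fx Ω t) (h1 : r • a ≠ a)
    (h2 : r • r • a = a) : ∃ g : G, g * t * g⁻¹ = t ∧ g • α = a ∧ g • β = r • a ∧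
      (g⁻¹ * r * g⁻¹⁻¹) • α = β ∧ (g⁻¹ * r * g⁻¹⁻¹) • β = α := by
  obtain ⟨g, hg, e1, e2⟩ := h.trC ha (mem_Fx_smul hr ha) h1.symm
  exact ⟨g, hg, e1, e2, cj_smul (by rw [e1, e2]), cj_smul (by rw [e1, e2, h2])⟩

theorem v_triv (e : (Fx Ω t).ncard = (Fv Ω t v).ncard) {x : Ω} (hx : x ∈ Fx Ω t) : v • x = x := by
  have := Set.eq_of_subset_of_ncard_le (show Fv Ω t v ⊆ Fx Ω t from fun x hx => hx.1) e.le
  exact (this.ge hx).2

theorem ker {g : G} (hg : g * t * g⁻¹ = t) (e : ∀ x ∈ Fx Ω t, g • x = x) :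
    g ∈ closure ({t, v} : Set G) := h.memV.2 ⟨e α h.ta, e β h.tb, hg⟩

theorem ker' (hi : (Fx Ω t).ncard ≠ (Fv Ω t v).ncard) {g : G} (hg : g * t * g⁻¹ = t)
    (e : ∀ x ∈ Fx Ω t, g • x = x) : g = 1 ∨ g = t := by
  have k : (∀ x ∈ Fx Ω t, v • x = x) → False := fun e => hi (by
    rw [show Fv Ω t v = Fx Ω t from Set.ext fun x => ⟨fun hx => hx.1, fun hx => ⟨hx, e x hx⟩⟩])
  rcases h.pair.mem_closure.1 (h.ker hg e) with e1 | e1 | rfl | rfl
  exacts [Or.inl e1, Or.inr e1, (k e).elim, (k fun x hx => by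
    have := e x hx
    rwa [h.pair.comm, mul_smul, show t • x = x from hx] at this).elim]

theorem Rt_not_Dd {r u : G} (hr : r ∈ Rt Ω t) (e : ∀ x ∈ Fx Ω t, r • x = u • x) : u ∉ Dd t v :=
  fun hu => by
    obtain ⟨a, ha, b, hb, hab, e1, e2⟩ := h.Dd_two hu
    exact hab (hr.2.2 a ha b hb ((e a ha).trans e1) ((e b hb).trans e2))

theorem ua0 {r r' : G} (hr : r ∈ Rt Ω t) (hr' : r' ∈ Rt Ω t) (e : r • α = β) (e' : r' • α = β) :
    ∀ x ∈ Fx Ω t, r • x = r' • x := by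
  have b : r • β = α := by rw [← e]; exact hr.2.1 α h.ta
  have b' : r' • β = α := by rw [← e']; exact hr'.2.1 α h.ta
  intro x hx
  have hx' : t • x = x := hx
  have k : (∀ x ∈ Fx Ω t, r' • x = (r * v) • x) → r • x = r' • x := fun k => by
    rw [k x hx, mul_smul, h.v_triv (h.dd0 hr.1 e b (h.Rt_not_Dd hr fun _ _ => rfl)
      (h.Rt_not_Dd hr' k)) hx]
  rcases h.coset hr.1 e b hr'.1 e' b' with e1 | e1 | e1 | e1
  · rw [e1]
  · rw [e1, mul_smul, hx']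
  · exact k fun x _ => by rw [e1]
  · exact k fun x hx => by
      rw [e1, h.pair.comm, ← mul_assoc, mul_smul, show t • x = x from hx]

theorem ua {r r' : G} (hr : r ∈ Rt Ω t) (hr' : r' ∈ Rt Ω t) {a : Ω} (ha : a ∈ Fx Ω t)
    (e : r • a = r' • a) (h1 : r • a ≠ a) : ∀ x ∈ Fx Ω t, r • x = r' • x := by
  obtain ⟨g, hg, e1, e2, e3, -⟩ := h.swapC hr.1 ha h1 (hr.2.1 a ha)
  intro x hx
  have := h.ua0 (Rt_cj (inv_cj hg) hr) (Rt_cj (inv_cj hg) hr') e3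
    (cj_smul (by rw [e1, e2, e])) _ (mem_Fx_smul (inv_cj hg) hx)
  rw [mul_smul, mul_smul, mul_smul, mul_smul] at this
  simpa using this

theorem uqt {r r' : G} (hr : r ∈ Rt Ω t) (hr' : r' ∈ Rt Ω t) {γ : Ω} (hγ : γ ∈ Fx Ω t)
    (e : r • γ = γ) (e' : r' • γ = γ) : ∀ x ∈ Fx Ω t, r • x = r' • x :=
  h.witt.uq (R := Rt Ω t) (fun r hr => mem_cent.2 hr.1)
    (fun g hg u hu => Rt_cj (mem_cent.1 hg) hu) (fun r hr => hr.2.2)
    (fun r hr r' hr' e h1 => h.ua hr hr' h.ta e h1) hr hr' hγ e e'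

theorem fpf_of_even (he : Even (Fx Ω t).ncard) {r : G} (hr : r ∈ Rt Ω t) (r2 : r * r = 1)
    {a : Ω} (ha : a ∈ Fx Ω t) : r • a ≠ a := fun e => by
  haveI : Fact (Nat.Prime 2) := ⟨Nat.prime_two⟩
  have h1 := ncard_modEq_elt (p := 2) (g := r) (by rw [pow_two, r2]) (Set.toFinite (Fx Ω t))
    fun _ hx => mem_Fx_smul hr.1 hx
  rw [show {x | x ∈ Fx Ω t ∧ r • x = x} = {a} from Set.eq_singleton_iff_unique_mem.2
    ⟨⟨ha, e⟩, fun x hx => hr.2.2 x hx.1 a ha hx.2 e⟩, Set.ncard_singleton] at h1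
  rw [Nat.even_iff] at he
  exact absurd (he ▸ h1 : 0 = 1 % 2) (by norm_num)

theorem card_half {B : Subgroup G} (hB : B ≤ Nv h.pair) {g : G} (hg : g ∈ B)
    (e : g * v * g⁻¹ = t * v) : Nat.card B = 2 * Nat.card ↥(B ⊓ centralizer {v}) := by
  have h1 : (centralizer {v}).relIndex B = 2 := by
    rw [relIndex, index_eq_two_iff']
    refine ⟨⟨g, hg⟩, fun b => ?_⟩
    simp only [mem_subgroupOf, mem_cent, coe_mul]
    have e1 : g * b * v * (g * b)⁻¹ = g * (b * v * (b : G)⁻¹) * g⁻¹ := by group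
    rw [e1]
    rcases (hB b.2).2 with e2 | e2 <;> rw [e2]
    · exact Or.inr ⟨rfl, e ▸ h.pair.rot.ne.symm⟩
    · exact Or.inl ⟨by rw [← conj_mul, (hB hg).1, e, ← mul_assoc, h.tt, one_mul],
        h.pair.rot.ne.symm⟩
  rw [← h1, inf_comm, ← inf_relIndex_right, mul_comm, ← (card_mul_relIndex_of_le inf_le_right)]

theorem even_i (he : Even (Nat.card Ω)) : Even (Fx Ω t).ncard := by
  have := h.par_i
  rw [Nat.even_iff] at he ⊢
  exact Eq.trans this.symm he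

theorem even_f (he : Even (Fx Ω t).ncard) : Even (Fv Ω t v).ncard := by
  have := h.par_f
  rw [Nat.even_iff] at he ⊢
  exact Eq.trans this.symm he

theorem odd_i (he : Odd (Nat.card Ω)) : Odd (Fx Ω t).ncard := by
  have := h.par_i
  rw [Nat.odd_iff] at he ⊢
  exact Eq.trans this.symm he

theorem odd_f (he : Odd (Fx Ω t).ncard) : Odd (Fv Ω t v).ncard := by
  have := h.par_f
  rw [Nat.odd_iff] at he ⊢
  exact Eq.trans this.symm he

theorem centV (he : Even (Fv Ω t v).ncard) :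
    centralizer ({t} : Set G) ⊓ stabilizer G α ⊓ centralizer {v} = Nv h.pair ⊓ stabilizer G α := by
  refine le_antisymm (fun g hg => ⟨⟨mem_cent.1 hg.1.1, Or.inl (mem_cent.1 hg.2)⟩, hg.1.2⟩)
    fun g hg => ⟨⟨mem_cent.2 hg.1.1, hg.2⟩, mem_cent.2 (hg.1.2.resolve_right fun e => ?_)⟩
  have h1 := h.card_half inf_le_left hg e
  have h2 : 4 ∣ Nat.card ↥(Nv h.pair ⊓ stabilizer G α ⊓ centralizer {v}) := by
    rw [← h.cardV]
    exact card_dvd_of_le fun w hw => ⟨⟨h.V_le_N hw, (h.memV.1 hw).1⟩,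
      mem_cent.2 (of_comm (h.V_comm hw))⟩
  rw [h.card_Na] at h1
  have := h.wittN.two_le
  obtain ⟨m, hm⟩ := he
  omega

/-- The order relation in the point stabiliser, for even degree. -/
theorem nk (he : Even (Nat.card Ω)) {k : ℕ}
    (hk : (Fx Ω t).ncard + k = k * (Fv Ω t v).ncard + 1) {a : ℕ}
    (ha : a = c + {u | IsConj t u ∧ u • α = β}.ncard * (Fx Ω t).ncard) :
    (8 * k ^ 2 < a ∧ a ≤ 15 * k ^ 2) ∨ ∃ m, 0 < m ∧ m ∣ k ∧ a + 6 * k * m = 8 * k ^ 2 + m ^ 2 := by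
  have h1 := h.top.two_le
  have h2 := h.witt.two_le
  have h3 := h.wittN.two_le
  rw [Set.ncard_univ] at h1
  refine klein (Y := stabilizer G α) h.ta h.va h.ya h.pair h.yt (g₀ := (Nat.card Ω - 1) * c)
    ((Nat.Even.sub_odd (by omega) he odd_one).mul h.odd_c) (by rw [h.card_Ga]; ring) ?_ ?_
  · rw [h.card_Ga, h.card_Ca, ha]
    have := h.dcG
    zify [show 1 ≤ Nat.card Ω by omega, show 1 ≤ (Fx Ω t).ncard by omega]
    linear_combination 4 * this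
  · rw [h.centV (h.even_f (h.even_i he)), h.card_Ca, h.card_Na]
    zify [show 1 ≤ (Fv Ω t v).ncard by omega, show 1 ≤ (Fx Ω t).ncard by omega] at hk ⊢
    linear_combination 4 * hk

theorem tau_cases {τ : G} (hτ : τ * t * τ⁻¹ = t) (a1 : τ • α = β) (b1 : τ • β = α) :
    τ * v * τ⁻¹ = v ∨ τ * v * τ⁻¹ = t * v := by
  simpa only [inv_inv] using h.v_or (g := τ⁻¹) (inv_cj hτ) h.vt h.pair.ne₂ h.pair.ne.symm
    (by rw [← b1, inv_smul_smul, h.vb]) (by rw [← a1, inv_smul_smul, h.va])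

/-- In the elementary abelian case there is an involution `s` centralising `K`. -/
theorem exists_s {τ : G} (τ2 : τ * τ = 1) (hτ : τ * t * τ⁻¹ = t) (a1 : τ • α = β)
    (hv : τ * v * τ⁻¹ = v) :
    ∃ s : G, s * s = 1 ∧ s • α = β ∧ ∀ k : G, k • α = α → k • β = β → s * k = k * s := by
  have b1 := smul_smul_of_sq τ2 a1
  have ct := comm_of hτ
  have cv := comm_of hv
  have k : ∀ w ∈ closure ({t, v} : Set G), y * τ * y⁻¹ * (y * w * y⁻¹) = τ * w →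
      ∃ s : G, s * s = 1 ∧ s • α = β ∧ ∀ k : G, k • α = α → k • β = β → s * k = k * s := by
    intro w hw e
    have cw : τ * w = w * τ := by
      rcases h.pair.mem_closure.1 hw with rfl | rfl | rfl | rfl
      exacts [by simp, ct, cv, by rw [← mul_assoc, ct, mul_assoc, cv, mul_assoc]]
    have s2 : τ * w * (τ * w) = 1 := by
      rw [mul_assoc, ← mul_assoc w, ← cw, mul_assoc, h.V_sq hw, mul_one, τ2]
    have sa : (τ * w) • α = β := by rw [mul_smul, (h.memV.1 hw).1, a1]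
    refine ⟨τ * w, s2, sa, h.kc _ s2 sa ?_ ?_ ?_⟩
    · rw [mul_assoc, comm_of (h.memV.1 hw).2.2, ← mul_assoc, ct, mul_assoc]
    · rw [mul_assoc, h.V_comm hw, ← mul_assoc, cv, mul_assoc]
    · rw [conj_mul] at e; exact (comm_of e).symm
  have e1 : y * τ * y⁻¹ * t * (y * τ * y⁻¹)⁻¹ = t := by
    conv_lhs => rw [← h.ytv, h.ytv]
    rw [show y * τ * y⁻¹ * t * (y * τ * y⁻¹)⁻¹ =
      y * τ * y⁻¹ * (y * (t * v) * y⁻¹) * (y * τ * y⁻¹)⁻¹ by rw [h.ytv],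
      show y * τ * y⁻¹ * (y * (t * v) * y⁻¹) * (y * τ * y⁻¹)⁻¹ =
        y * ((τ * t * τ⁻¹) * (τ * v * τ⁻¹)) * y⁻¹ by group, hτ, hv, h.ytv]
  have e2 : (y * τ * y⁻¹) • α = β := by
    conv_lhs => rw [← h.ya]
    conv_rhs => rw [← h.yb]
    rwa [conj_smul_iff]
  rcases h.coset hτ a1 b1 e1 e2 (smul_smul_of_sq (by rw [conj_mul, τ2]; simp) e2) with
    e | e | e | e
  · exact k 1 (one_mem _) (by rw [e]; simp)
  · exact k v (h.pair.mem_closure.2 (by simp))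
      (by rw [e, h.yv, mul_assoc, ← mul_assoc t, h.tt, one_mul])
  · exact k (t * v) (h.pair.mem_closure.2 (by simp)) (by rw [e, h.ytv, mul_assoc, h.pair.comm])
  · exact k t (h.pair.mem_closure.2 (by simp))
      (by rw [e, h.yt, mul_assoc, mul_assoc, h.vv, mul_one])

section s

variable {s : G} (s2 : s * s = 1) (sa : s • α = β)
  (sk : ∀ k : G, k • α = α → k • β = β → s * k = k * s)
include s2 sa sk

theorem s_cent : s * t * s⁻¹ = t := of_comm (sk t h.ta h.tb)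

theorem s_conj {u : G} (u2 : u * u = 1) (u1 : u ≠ 1) (ua : u • α = α) (ub : u • β = β) :
    IsConj (s * t) (s * u) := by
  obtain ⟨k, e1, e2, rfl⟩ := h.conj u ua ub u2 u1
  refine isConj_iff.2 ⟨k, ?_⟩
  rw [← conj_mul, ← sk k e1 e2, mul_inv_cancel_right]

theorem s_swap {u : G} : u * u = 1 ∧ u • α = β ↔
    u = s ∨ ∃ k, ((k * k = 1 ∧ k ≠ 1) ∧ k • α = α ∧ k • β = β) ∧ s * k = u := by
  constructor
  · rintro ⟨u2, ua⟩
    have e1 : (s * u) • α = α := by rw [mul_smul, ua, smul_smul_of_sq s2 sa]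
    have e2 : (s * u) • β = β := by rw [mul_smul, smul_smul_of_sq u2 ua, sa]
    have e3 : s * (s * u) = u := by rw [← mul_assoc, s2, one_mul]
    by_cases e : s * u = 1
    · exact Or.inl (by rw [← e3, e, mul_one])
    · refine Or.inr ⟨s * u, ⟨⟨?_, e⟩, e1, e2⟩, e3⟩
      rw [← mul_assoc, ← sk _ e1 e2, e3, u2]
  · rintro (rfl | ⟨k, ⟨⟨k2, -⟩, ka, kb⟩, rfl⟩)
    · exact ⟨s2, sa⟩
    · exact ⟨by rw [mul_assoc, ← mul_assoc k, ← sk k ka kb, mul_assoc, k2, mul_one, s2],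
        by rw [mul_smul, ka, sa]⟩

theorem s_set {u : G} : IsConj t u ∧ u • α = β ↔ (IsConj t s ∧ u = s) ∨ (IsConj t (s * t) ∧
    u ∈ (fun k => s * k) '' {u : G | (u * u = 1 ∧ u ≠ 1) ∧ u • α = α ∧ u • β = β}) := by
  constructor
  · rintro ⟨hu, ua⟩
    obtain ⟨g, rfl⟩ := isConj_iff.1 hu
    rcases (h.s_swap s2 sa sk).1 ⟨by rw [conj_mul, h.tt]; simp, ua⟩ with e | ⟨k, hk, e⟩
    · exact Or.inl ⟨e ▸ hu, e⟩
    · exact Or.inr ⟨hu.trans (e ▸ (h.s_conj s2 sa sk hk.1.1 hk.1.2 hk.2.1 hk.2.2).symm), k, hk, e⟩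
  · rintro (⟨e, rfl⟩ | ⟨e, k, hk, rfl⟩)
    · exact ⟨e, sa⟩
    · exact ⟨e.trans (h.s_conj s2 sa sk hk.1.1 hk.1.2 hk.2.1 hk.2.2),
        by rw [mul_smul, hk.2.1, sa]⟩

theorem d_c (h1 : ¬ IsConj t s) (h2 : IsConj t (s * t)) :
    {u | IsConj t u ∧ u • α = β}.ncard = c := by
  rw [← h.ncard_inv]
  refine Eq.trans ?_ (Set.ncard_image_of_injective _ (mul_right_injective s))
  congr 1; ext u
  rw [Set.mem_setOf_eq, h.s_set s2 sa sk]; simp only [h1, h2, false_and, false_or, true_and]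

theorem d_one (h1 : IsConj t s) (h2 : ¬ IsConj t (s * t)) :
    {u | IsConj t u ∧ u • α = β}.ncard = 1 := by
  rw [← Set.ncard_singleton s]
  congr 1; ext u
  rw [Set.mem_setOf_eq, h.s_set s2 sa sk]
  simp only [h1, h2, false_and, or_false, true_and, Set.mem_singleton_iff]

theorem d_succ (h1 : IsConj t s) (h2 : IsConj t (s * t)) :
    {u | IsConj t u ∧ u • α = β}.ncard = c + 1 := by
  rw [← h.ncard_inv, ← Set.ncard_image_of_injective
    {u : G | (u * u = 1 ∧ u ≠ 1) ∧ u • α = α ∧ u • β = β} (mul_right_injective s),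
    ← Set.ncard_insert_of_notMem (a := s) (by
      rintro ⟨k, hk, e⟩
      exact hk.1.2 (by simpa using e))]
  congr 1; ext u
  rw [Set.mem_setOf_eq, h.s_set s2 sa sk]; simp only [h1, h2, true_and, Set.mem_insert_iff]

theorem s_conj_or : IsConj t s ∨ IsConj t (s * t) := by
  obtain ⟨w, e, -, -, a⟩ := h.inv_cases h.tt h.pair.ne₁
  rcases (h.s_set s2 sa sk).1 ⟨e, a⟩ with e | e
  exacts [Or.inl e.1, Or.inr e.1]

/-- `t` is not a square. -/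
theorem not_sq {x : G} (e : x * x = t) : False := by
  have hx : x * t * x⁻¹ = t := by rw [← e]; group
  by_cases h1 : ∀ a ∈ Fx Ω t, x • a = a
  · exact h.pair.ne₁ (e ▸ h.V_sq (h.ker hx h1))
  push Not at h1
  obtain ⟨a, ha, h1⟩ := h1
  obtain ⟨g, hg, -, -, e3, e4⟩ := h.swapC hx ha h1 (by rw [← mul_smul, e]; exact ha)
  have h2 : g⁻¹ * x * g⁻¹⁻¹ * (g⁻¹ * x * g⁻¹⁻¹) = 1 := by
    rcases h.coset (h.s_cent s2 sa sk) sa (smul_smul_of_sq s2 sa) (h.cj_cent (inv_cj hg) hx) e3 e4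
      with e | e | e | e <;> rw [e]
    exacts [s2, ((h.s_swap s2 sa sk).2 (Or.inr ⟨t, ⟨⟨h.tt, h.pair.ne₁⟩, h.ta, h.tb⟩, rfl⟩)).1,
      ((h.s_swap s2 sa sk).2 (Or.inr ⟨v, ⟨⟨h.vv, h.pair.ne₂⟩, h.va, h.vb⟩, rfl⟩)).1,
      ((h.s_swap s2 sa sk).2 (Or.inr ⟨_, ⟨⟨h.tvtv, h.pair.rot.ne₂⟩, h.tva, h.tvb⟩, rfl⟩)).1]
  rw [conj_mul, e, conj_eq_one_iff] at h2
  exact h.pair.ne₁ h2

end s

end TP

end H81.TP
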