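import Mathlib
import Cfsg.Agent.Base
import Cfsg.Agent.Lib.H81.TP4

/-! Two-point stabiliser `A₄` or `A₅`: the case of a central swapping involution fused to `t`. -/

set_option autoImplicit false
set_option linter.style.haveILetI false
set_option linter.unusedSectionVars false

namespace H81.TP

open MulAction Subgroup H29

theorem not_pp {f i p k : ℕ} (hp : p.Prime) (hf : 2 ≤ f) (h : i + f = 2 * (f * f))
    (e : i = p ^ k) : False := by
  obtain ⟨g, rfl⟩ : ∃ g, f = g + 1 := ⟨f - 1, by omega⟩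
  have h1 : p ^ k = (g + 1) * (2 * g + 1) := by nlinarith
  obtain ⟨a, -, ha⟩ := (Nat.dvd_prime_pow hp).1 (Dvd.intro _ h1.symm)
  obtain ⟨b, -, hb⟩ := (Nat.dvd_prime_pow hp).1 (Dvd.intro_left _ h1.symm)
  have h2 : p ∣ g + 1 := ha ▸ dvd_pow_self p (by rintro rfl; rw [pow_zero] at *; omega)
  have h3 : p ∣ 2 * g + 1 := hb ▸ dvd_pow_self p (by rintro rfl; rw [pow_zero] at *; omega)
  have h4 : p ∣ 1 := (Nat.dvd_add_right h3).1 (by
    rw [show 2 * g + 1 + 1 = 2 * (g + 1) by ring]; exact h2.mul_left 2)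
  exact hp.one_lt.ne' (Nat.dvd_one.1 h4)

theorem card_comap_two {A B : Type*} [Group A] [Group B] [Finite A] (π : A →* B)
    (hπ : Function.Surjective π) (h : Nat.card A = Nat.card B * 2) (X : Subgroup B) :
    Nat.card (X.comap π) = 2 * Nat.card X := by
  have h1 := (X.comap π).card_mul_index
  have h2 : (X.comap π).index ≠ 0 := index_ne_zero_of_finite
  rw [index_comap_of_surjective _ hπ] at h1 h2
  rw [h, ← X.card_mul_index] at h1
  exact Nat.eq_of_mul_eq_mul_right (Nat.pos_of_ne_zero h2) (by rw [h1]; ring)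

theorem mem_zpowers_two {A : Type*} [Group A] {a x : A} (h : orderOf a = 2) :
    x ∈ zpowers a ↔ x = 1 ∨ x = a := by
  classical
  have hf := isOfFinOrder_iff_pow_eq_one.2 ⟨2, two_pos, h ▸ pow_orderOf_eq_one a⟩
  rw [hf.mem_zpowers_iff_mem_range_orderOf, h]
  simp [Finset.range_add_one, or_comm, eq_comm]

theorem arith_odd {m j l : ℕ} (hm : 1 ≤ m) (hl : 2 * m + 1 = j * l)
    (e : (4 * m + 1) * (4 * m + 3) + 6 * (2 * m + 1) * j = 8 * (2 * m + 1) ^ 2 + j ^ 2) : False := by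
  have h1 : 6 * (2 * m + 1) * j = 4 * (2 * m + 1) ^ 2 + j ^ 2 + 1 := by nlinarith
  rw [hl] at h1
  have h2 : j ∣ 1 := (Nat.dvd_add_right (⟨4 * j * l ^ 2 + j, by ring⟩ :
    j ∣ 4 * (j * l) ^ 2 + j ^ 2)).1 (h1 ▸ Dvd.intro_left _ rfl)
  obtain rfl := Nat.dvd_one.1 h2
  rw [one_mul] at hl h1
  clear e
  have : 3 ≤ l := by omega
  nlinarith

theorem sq_of_two_pow {G : Type*} [Group G] (h4 : ∀ x : G, x * x * (x * x) = 1 → x * x = 1)
    (j : ℕ) : ∀ g : G, g ^ 2 ^ j = 1 → g * g = 1 := by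
  induction j with
  | zero => intro g hg; simp only [pow_zero, pow_one] at hg; simp [hg]
  | succ j ih => intro g hg; exact h4 g (ih _ (by rwa [← pow_two, ← pow_mul, ← pow_succ']))

theorem arith_four {c f i k a : ℕ} (hc : c = 3 ∨ c = 15) (hf : 2 ≤ f) (h : i + f = 2 * (f * f))
    (hk : k = 2 * f + 1) (ha : a = c + (c + 1) * i)
    (H : (8 * k ^ 2 < a ∧ a ≤ 15 * k ^ 2) ∨
      ∃ m, 0 < m ∧ m ∣ k ∧ a + 6 * k * m = 8 * k ^ 2 + m ^ 2) : False := by
  rcases H with ⟨H, -⟩ | ⟨m, m0, hm, H⟩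
  · rcases hc with rfl | rfl <;> subst hk ha <;> nlinarith
  · have hle : m ≤ k := Nat.le_of_dvd (by omega) hm
    rcases hc with rfl | rfl
    · subst hk ha; nlinarith
    · have h1 : 6 * k * m + 31 = 24 * k + m ^ 2 := by subst hk ha; nlinarith
      obtain ⟨j, rfl⟩ := hm
      have h2 : m ∣ 31 := (Nat.dvd_add_right (Dvd.intro_left (6 * (m * j)) rfl)).1
        (h1 ▸ ⟨24 * j + m, by ring⟩)
      generalize m * j = k at h1
      clear H hle hk ha h
      rcases (Nat.dvd_prime (by norm_num)).1 h2 with rfl | rfl <;> norm_num at h1 <;> omega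

variable {G Ω : Type*} [Group G] [MulAction G Ω]

namespace TP

variable {α β : Ω} {t v y : G} {c : ℕ} (h : TP α β t v y c) [Finite G] [Finite Ω]
include h

theorem one_not_Dd : (1 : G) ∉ Dd t v := fun e => h.pair.ne₁ (isConj_one_left.1 (h.Dd_conj e))

theorem t_not_Dd : t ∉ Dd t v := fun e => h.one_not_Dd (h.tt ▸ h.Dd_mul e)

theorem four_of {q : G} (hq : q ∈ Dd t v) (hqv : q * v ∈ Dd t v) :
    (Fx Ω t).ncard + (Fv Ω t v).ncard = 2 * ((Fv Ω t v).ncard * (Fv Ω t v).ncard) := by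
  have q2 := h.Dd_sq hq
  have qN : q ∈ Nv h.pair := ⟨h.Dd_cent hq, Or.inl (of_comm (by
    have := h.Dd_sq hqv
    rw [mul_eq_one_iff_eq_inv, mul_inv_rev, inv_eq_of_mul_eq_one_right h.vv,
      inv_eq_of_mul_eq_one_right q2] at this
    exact this))⟩
  obtain ⟨a, ha, h1⟩ : ∃ a ∈ Fv Ω t v, q • a ≠ a := by
    by_contra hc
    push Not at hc
    rcases h.cent q (hc α ⟨h.ta, h.va⟩) (hc β ⟨h.tb, h.vb⟩) qN.1 with rfl | rfl | rfl | rfl
    exacts [h.one_not_Dd hq, h.t_not_Dd hq, h.one_not_Dd (h.vv ▸ hqv),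
      h.t_not_Dd (by rwa [mul_assoc, h.vv, mul_one] at hqv)]
  obtain ⟨g, hg, e1, e2⟩ := h.wittN.tr a ha _ (h.wittN.inv q qN a ha) h1.symm
  have hg' := (Nv h.pair).inv_mem hg
  refine h.dd4 (τ := g⁻¹ * q * g⁻¹⁻¹) (h.cj_cent hg'.1 qN.1) (cj_smul (by rw [e1, e2]))
    (cj_smul (by rw [e1, e2, ← mul_smul, q2, one_smul])) (h.Dd_cj hg'.1 hq) ?_
  have := h.Dd_cj hg'.1 hqv
  rw [← conj_mul] at this
  rcases hg'.2 with e | e <;> rw [e] at this
  exacts [this, h.Dd_mul_iff.1 (by rwa [h.pair.comm, ← mul_assoc] at this)]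

theorem four_of' {p q : G} (hp : p ∈ Dd t v) (hq : q ∈ Dd t v) (hpq : q * p ∈ Dd t v) :
    (Fx Ω t).ncard + (Fv Ω t v).ncard = 2 * ((Fv Ω t v).ncard * (Fv Ω t v).ncard) := by
  obtain ⟨g, hg, e⟩ := hp
  have h1 := h.Dd_cj (inv_cj hg) hpq
  refine h.four_of (h.Dd_cj (inv_cj hg) hq) ?_
  rw [← conj_mul] at h1
  rcases e with rfl | rfl <;> rw [inv_cj rfl] at h1
  exacts [h1, h.Dd_mul_iff.1 (by rwa [h.pair.comm, ← mul_assoc] at h1)]

theorem even_n (he : Even (Fx Ω t).ncard) : Even (Nat.card Ω) := by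
  have := h.par_i
  rw [Nat.even_iff] at he ⊢
  exact Eq.trans this he

variable {s : G} (s2 : s * s = 1) (sa : s • α = β)
  (sk : ∀ k : G, k • α = α → k • β = β → s * k = k * s)
include s2 sa sk

theorem rot {u : G} {a b : Ω} (hab : a ≠ b) (h1 : s • a = a) (h2 : s • b = b) (h3 : u • a = a)
    (h4 : u • b = b) : ∃ a b : Ω, a ≠ b ∧ s • a = a ∧ s • b = b ∧ (y * u * y⁻¹) • a = a ∧
      (y * u * y⁻¹) • b = b := by
  have e := sk y h.ya h.yb
  exact ⟨y • a, y • b, fun e => hab (smul_left_cancel y e), by rw [← mul_smul, e, mul_smul, h1],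
    by rw [← mul_smul, e, mul_smul, h2], (conj_smul_iff y u a a).2 h3, (conj_smul_iff y u b b).2 h4⟩

theorem all_conj (h1 : IsConj t s) (h2 : IsConj t (s * t)) {u : G} (u2 : u * u = 1) (u1 : u ≠ 1) :
    IsConj t u := by
  obtain ⟨w, e, w2, -, wa⟩ := h.inv_cases u2 u1
  rcases (h.s_swap s2 sa sk).1 ⟨w2, wa⟩ with rfl | ⟨k, hk, rfl⟩
  exacts [h1.trans e.symm,
    (h2.trans (h.s_conj s2 sa sk hk.1.1 hk.1.2 hk.2.1 hk.2.2)).trans e.symm]

theorem no_four (h1 : IsConj t s) (h2 : IsConj t (s * t)) (x : G) (hx : x * x * (x * x) = 1) :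
    x * x = 1 := by
  by_contra x1
  obtain ⟨k, e⟩ := isConj_iff.1 (h.all_conj s2 sa sk h1 h2 hx x1).symm
  exact h.not_sq s2 sa sk (x := k * x * k⁻¹) (by rw [conj_mul, e])

theorem s_le {a b : Ω} (ha : a ∈ Fv Ω t v) (hb : b ∈ Fv Ω t v) (e1 : s • a = a) (e2 : s • b = b) :
    a = b := by
  by_contra hab
  exact h.ne ((h.wittN.sharp (fun g hg a b _ hx => h.fix_of_V (h.memV.2 ⟨a, b, hg.1⟩) hx)
    ⟨h.s_cent s2 sa sk, Or.inl (of_comm (sk v h.va h.vb))⟩ ha hb hab e1 e2 α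
    ⟨h.ta, h.va⟩).symm.trans sa)

theorem inv_fix {γ : Ω} (hγ : γ ∈ Fv Ω t v) (e : s • γ = γ) {r : G} (hr : r ∈ Nv h.pair)
    (r2 : r * r = 1) (er : r • γ = γ) :
    r ∈ closure ({t, v} : Set G) ∨ s * r ∈ closure ({t, v} : Set G) := by
  have w := h.wittN
  have sN : s ∈ Nv h.pair := ⟨h.s_cent s2 sa sk, Or.inl (of_comm (sk v h.va h.vb))⟩
  have sh : ∀ g ∈ Nv h.pair, ∀ a ∈ Fv Ω t v, ∀ b ∈ Fv Ω t v, a ≠ b → g • a = a → g • b = b →
      g ∈ closure ({t, v} : Set G) := fun g hg a ha b hb hab e1 e2 =>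
    have := w.sharp (fun g hg a b _ hx => h.fix_of_V (h.memV.2 ⟨a, b, hg.1⟩) hx) hg ha hb hab e1 e2
    h.memV.2 ⟨this α w.ma, this β w.mb, hg.1⟩
  refine or_iff_not_imp_left.2 fun hn => ?_
  have k := w.uq (R := {r | r ∈ Nv h.pair ∧ r * r = 1 ∧
      ∀ a ∈ Fv Ω t v, ∀ b ∈ Fv Ω t v, r • a = a → r • b = b → a = b}) (fun r hr => hr.1)
    (fun g hg u hu => ⟨mul_mem (mul_mem hg hu.1) (inv_mem hg), by rw [conj_mul, hu.2.1]; simp,
      fun a ha b hb e1 e2 => by
        rw [← smul_inv_smul g a, conj_smul_iff] at e1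
        rw [← smul_inv_smul g b, conj_smul_iff] at e2
        exact smul_left_cancel _ (hu.2.2 _ (w.inv _ (inv_mem hg) a ha) _
          (w.inv _ (inv_mem hg) b hb) e1 e2)⟩) (fun r hr => hr.2.2)
    (fun r hr r' hr' e h1 x hx => by
      have := h.fix_of_V (sh (r * r') (mul_mem hr.1 hr'.1) α w.ma _ (w.inv r hr.1 α w.ma) h1.symm
        (by rw [mul_smul, ← e, ← mul_smul, hr.2.1, one_smul])
        (by rw [mul_smul, e, ← mul_smul r', hr'.2.1, one_smul, e])) hx
      rw [mul_smul] at this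
      exact smul_smul_of_sq hr.2.1 this)
    ⟨sN, s2, fun a ha b hb => h.s_le s2 sa sk ha hb⟩
    ⟨hr, r2, fun a ha b hb e1 e2 => by_contra fun hab => hn (sh r hr a ha b hb hab e1 e2)⟩ hγ e er
  exact h.memV.2 ⟨by rw [mul_smul, ← k α w.ma, ← mul_smul, s2, one_smul],
    by rw [mul_smul, ← k β w.mb, ← mul_smul, s2, one_smul], (mul_mem sN hr).1⟩

theorem not_four_odd (sD : s ∈ Dd t v) (ho : Odd (Fx Ω t).ncard)
    (h4 : (Fx Ω t).ncard + (Fv Ω t v).ncard = 2 * ((Fv Ω t v).ncard * (Fv Ω t v).ncard)) :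
    False := by
  haveI : Fact (Nat.Prime 2) := ⟨Nat.prime_two⟩
  have n4 := h.no_four s2 sa sk (h.Dd_conj sD) (h.Dd_conj (h.Dd_mul sD))
  have w := h.wittN
  have f2 := w.two_le
  have sC := h.s_cent s2 sa sk
  have sN : s ∈ Nv h.pair := ⟨sC, Or.inl (of_comm (sk v h.va h.vb))⟩
  have sV : ∀ u ∈ closure ({t, v} : Set G), s * u = u * s := fun u hu =>
    sk u (h.memV.1 hu).1 (h.memV.1 hu).2.1
  have sn : ∀ k : G, k • α = α → s ≠ k := fun k e e' => h.ne (by rw [← sa, e', e])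
  obtain ⟨γ, hγ, eγ⟩ := exists_fix_elt (p := 2) (g := s) (by rw [pow_two, s2])
    (Set.toFinite (Fv Ω t v)) (w.inv s sN)
    (by rw [← even_iff_two_dvd, Nat.not_even_iff_odd]; exact h.odd_f ho)
  have cN := h.card_N
  have cB : Nat.card ↥(Nv h.pair ⊓ stabilizer G γ) = ((Fv Ω t v).ncard - 1) * 4 :=
    Nat.eq_of_mul_eq_mul_left (show 0 < (Fv Ω t v).ncard by omega) ((w.card_orbit hγ).symm.trans cN)
  obtain ⟨m, hm⟩ := h.odd_f ho
  have om : Odd m := Nat.not_even_iff_odd.1 fun ⟨j, hj⟩ => by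
    obtain ⟨P, hP⟩ := Sylow.exists_subgroup_card_pow_prime
      (G := ↥(Nv h.pair ⊓ stabilizer G γ)) 2 (n := 4) ⟨j, by omega⟩
    have h2 : (P.map (Subgroup.subtype _) : Set G) ⊆
        closure ({t, v} : Set G) ∪ (fun u => s * u) '' closure ({t, v} : Set G) := by
      rintro _ ⟨u, hu, rfl⟩
      have : (⟨u, hu⟩ : P) ^ 2 ^ 4 = 1 := hP ▸ pow_card_eq_one'
      refine (h.inv_fix s2 sa sk hγ eγ u.2.1 (sq_of_two_pow n4 4 _
        (congrArg (fun x : P => ((x : ↥(Nv h.pair ⊓ stabilizer G γ)) : G)) this)) u.2.2).imp id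
        fun e => ⟨_, e, ?_⟩
      simp only [← mul_assoc, s2, one_mul, coe_subtype]
    have h3 := (Set.ncard_le_ncard h2).trans (Set.ncard_union_le _ _)
    rw [Set.ncard_image_of_injective _ (mul_right_injective s), h.ncardV, ← Nat.card_coe_set_eq,
      SetLike.coe_sort_coe, card_map_of_injective (subtype_injective _), hP] at h3
    omega
  have tC : t ∈ centralizer ({t} : Set G) := mem_cent.2 (by simp)
  let Z : Subgroup (centralizer ({t} : Set G)) := zpowers ⟨t, tC⟩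
  have ot : orderOf (⟨t, tC⟩ : centralizer ({t} : Set G)) = 2 := by
    rw [orderOf_mk]; exact orderOf_two h.tt h.pair.ne₁
  have mZ : ∀ a, a ∈ Z ↔ (a : G) = 1 ∨ (a : G) = t := fun a =>
    (mem_zpowers_two ot).trans (or_congr Subtype.ext_iff Subtype.ext_iff)
  haveI : Z.Normal := ⟨fun a ha g => (mZ _).2 (((mZ a).1 ha).imp (fun e => by simp [e]) fun e => by
    rw [coe_mul, coe_mul, e]; exact mem_cent.1 g.2)⟩
  let π := QuotientGroup.mk' Z
  have hπ : ∀ a b, π a = π b ↔ (a : G) = b ∨ (a : G) = b * t := fun a b => by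
    rw [eq_comm, QuotientGroup.mk'_apply, QuotientGroup.mk'_apply, QuotientGroup.eq, mZ, coe_mul,
      coe_inv, inv_mul_eq_iff_eq_mul, inv_mul_eq_iff_eq_mul, mul_one]
  have hc : ∀ a b, π b ∈ centralizer {π a} ↔ (b : G) * a * (b : G)⁻¹ = a ∨
      (b : G) * a * (b : G)⁻¹ = a * t := fun a b => by
    rw [mem_cent, ← map_inv, ← map_mul, ← map_mul, hπ]; rfl
  have cq := card_comap_two π (QuotientGroup.mk'_surjective Z) (by
    rw [card_eq_card_quotient_mul_card_subgroup Z, Nat.card_zpowers, ot])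
  let v' : centralizer ({t} : Set G) := ⟨v, mem_cent.2 h.vt⟩
  let s' : centralizer ({t} : Set G) := ⟨s, mem_cent.2 sC⟩
  have NC : Nv h.pair ≤ centralizer {t} := fun g hg => mem_cent.2 hg.1
  have e1 : ∀ g, g ∈ (centralizer {π v'}).comap π ↔ (g : G) ∈ Nv h.pair := fun g => by
    rw [mem_comap, hc, ← h.pair.comm]
    exact ⟨fun e => ⟨mem_cent.1 g.2, e⟩, fun e => e.2⟩
  have e2 : ∀ g, g ∈ (centralizer {π v'} ⊓ centralizer {π s'}).comap π ↔
      (g : G) ∈ Nv h.pair ⊓ stabilizer G γ := fun g => by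
    rw [comap_inf, mem_inf, e1, mem_inf]
    refine and_congr_right fun hg => ⟨fun e => h.s_le s2 sa sk (w.inv _ hg γ hγ) hγ ?_ eγ,
      fun e => ?_⟩
    · rcases (hc s' g).1 e with e | e
      · rw [← show (g : G) * s * (g : G)⁻¹ = s from e, conj_smul_iff, eγ]
      · rw [← (w.inv _ hg γ hγ).1, ← mul_smul, ← show (g : G) * s * (g : G)⁻¹ = s * t from e,
          (w.inv _ hg γ hγ).1, conj_smul_iff, eγ]
    have key : ∀ g : centralizer ({t} : Set G), (g : G) ∈ Nv h.pair → (g : G) • γ = γ →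
        ∃ u ∈ closure ({t, v} : Set G), (g : G) * s * (g : G)⁻¹ = s * u := fun g hg e => by
      have h1 : ((g : G) * s * (g : G)⁻¹) • γ = γ := by
        conv_lhs => rw [← e]
        rw [(conj_smul_iff _ s γ γ).2 eγ, e]
      refine ⟨_, (h.inv_fix s2 sa sk hγ eγ (mul_mem (mul_mem hg sN) (inv_mem hg))
        (by rw [conj_mul, s2]; simp) h1).resolve_left fun e3 => ?_,
        by rw [← mul_assoc, s2, one_mul]⟩
      have := h.fix_of_V e3 (w.inv _ hg α w.ma)
      rw [conj_smul_iff] at this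
      exact h.ne (this.symm.trans sa)
    have h1 : g * g ∈ (centralizer {π s'}).comap π := (hc s' _).2 (by
      obtain ⟨u, hu, e3⟩ := key g hg e
      have e4 : ((g * g : centralizer ({t} : Set G)) : G) * s * ((g * g : centralizer {t}) : G)⁻¹ =
          s * (u * (g * u * (g : G)⁻¹)) := by
        rw [coe_mul, show (g : G) * g * s * ((g : G) * g)⁻¹ = g * (g * s * (g : G)⁻¹) * (g : G)⁻¹ by
          group, e3, ← conj_mul, e3, mul_assoc]
      change _ * s * _ = s ∨ _ * s * _ = s * t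
      rw [e4, mul_eq_left, mul_right_inj]
      rcases h.pair.mem_closure.1 hu with rfl | rfl | rfl | rfl
      · simp
      · rw [hg.1]; exact Or.inl h.tt
      · rcases hg.2 with e | e <;> rw [e]
        exacts [Or.inl h.vv, Or.inr (by rw [h.pair.comm, ← mul_assoc, h.vv, one_mul])]
      · rw [← conj_mul, hg.1]
        rcases hg.2 with e | e <;> rw [e]
        exacts [Or.inl h.tvtv, Or.inr (by
          rw [← mul_assoc t t, h.tt, one_mul, mul_assoc, h.vv, mul_one])])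
    obtain ⟨k, j, ⟨j, rfl⟩, hj⟩ := Nat.exists_eq_two_pow_mul_odd (orderOf_pos g).ne'
    have h2 : g ^ (2 * j + 1) ∈ (centralizer {π s'}).comap π := (hc s' _).2 (Or.inl (by
      have g2 := sq_of_two_pow n4 k ((g ^ (2 * j + 1) : centralizer ({t} : Set G)) : G) (by
        rw [← coe_pow, ← pow_mul, mul_comm, ← hj, pow_orderOf_eq_one, coe_one])
      obtain ⟨u, hu, e3⟩ := key (g ^ (2 * j + 1)) (pow_mem hg _) (pow_mem e _)
      generalize ((g ^ (2 * j + 1) : centralizer ({t} : Set G)) : G) = r at g2 e3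
      have e4 : r * s * (r * s) = u := by
        rw [inv_eq_of_mul_eq_one_right g2] at e3
        rw [← mul_assoc, e3, sV u hu, mul_assoc, s2, mul_one]
      have e5 := n4 (r * s) (by rw [e4, h.V_sq hu])
      rw [e4] at e5
      rw [e5, mul_one] at e3
      exact e3))
    rw [pow_succ, pow_mul, pow_two] at h2
    exact (mul_mem_cancel_left (pow_mem h1 j)).1 h2
  have c1 := cq (centralizer {π v'})
  have c2 := cq (centralizer {π v'} ⊓ centralizer {π s'})
  have c3 := cq ⊤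
  rw [show (centralizer {π v'}).comap π = (Nv h.pair).subgroupOf _ from Subgroup.ext e1,
    Nat.card_congr (subgroupOfEquivOfLe NC).toEquiv, cN] at c1
  rw [show (centralizer {π v'} ⊓ centralizer {π s'}).comap π =
    (Nv h.pair ⊓ stabilizer G γ).subgroupOf _ from Subgroup.ext e2,
    Nat.card_congr (subgroupOfEquivOfLe (inf_le_left.trans NC)).toEquiv, cB] at c2
  rw [comap_top, card_top, card_top, h.card_C] at c3
  have hi : (Fx Ω t).ncard = (2 * m + 1) * (4 * m + 1) := by rw [hm] at h4; nlinarith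
  rw [hm] at c1 c2
  rw [hi, show (2 * m + 1) * (4 * m + 1) - 1 = 2 * m * (4 * m + 3) by
    rw [show (2 * m + 1) * (4 * m + 1) = 2 * m * (4 * m + 3) + 1 by ring, Nat.add_sub_cancel]] at c3
  rw [Nat.add_sub_cancel] at c1 c2
  obtain ⟨g, hg, eg⟩ := sD
  have one : ∀ a, π a = 1 ↔ (a : G) = 1 ∨ (a : G) = t := fun a => by
    rw [← map_one π, hπ, coe_one, one_mul]
  rcases klein_aux (t := π v') (v := π s') (y := π ⟨g, mem_cent.2 hg⟩)
    ⟨by rw [← map_mul, one]; exact Or.inl h.vv,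
      fun e => ((one _).1 e).elim h.pair.ne₂ h.pair.ne.symm,
      by rw [← map_mul, one]; exact Or.inl s2,
      fun e => ((one _).1 e).elim (sn 1 (one_smul _ _)) (sn t h.ta),
      fun e => ((hπ _ _).1 e.symm).elim (sn v h.va) (sn _ (by rw [mul_smul, h.ta, h.va])),
      by rw [← map_mul, ← map_mul]; exact congrArg π (Subtype.ext (sk v h.va h.vb).symm)⟩
    (by
      rw [← map_inv, ← map_mul, ← map_mul, eq_comm, hπ]
      exact eg.imp id fun e => e.trans (show _ = g * v * g⁻¹ * t by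
        rw [h.pair.comm, ← conj_mul, hg]))
    (g₀ := (2 * m + 1) * (4 * m + 1) * (m * (4 * m + 3)))
    (((odd_two_mul_add_one m).mul ⟨2 * m, by ring⟩).mul (om.mul ⟨2 * m + 1, by ring⟩))
    (by linarith) (a := (4 * m + 1) * (4 * m + 3)) (k := 2 * m + 1) (by nlinarith)
    (by nlinarith) with e | ⟨j, j0, ⟨l, hl⟩, e⟩
  · nlinarith [e.1]
  · exact arith_odd (by omega) hl e

theorem caseII (hs : IsConj t s) : False := by
  haveI : Fact (Nat.Prime 2) := ⟨Nat.prime_two⟩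
  obtain ⟨g, hg⟩ := isConj_iff.1 hs.symm
  have sb := smul_smul_of_sq s2 sa
  have sC := h.s_cent s2 sa sk
  have f2 := h.wittN.two_le
  have cC : ∀ k : G, k • α = α → k • β = β → g * k * g⁻¹ * t * (g * k * g⁻¹)⁻¹ = t :=
    fun k a b => of_comm (by rw [← hg, conj_mul, conj_mul, sk k a b])
  by_cases hR : s ∈ Rt Ω t
  · have key : ∀ k : G, k * k = 1 → k • α = α → k • β = β →
        (∀ a b : Ω, a ≠ b → s • a = a → s • b = b → k • a = a → k • b = b → False) →
        g * k * g⁻¹ ∈ Rt Ω t := fun k k2 ka kb hk =>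
      ⟨cC k ka kb, fun x _ => by rw [← mul_smul, conj_mul, k2]; simp, fun a ha b hb e1 e2 => by
        by_contra hab
        have e3 : (g * s * g⁻¹) • a = a := hg ▸ ha
        have e4 : (g * s * g⁻¹) • b = b := hg ▸ hb
        rw [← smul_inv_smul g a] at e1 e3
        rw [← smul_inv_smul g b] at e2 e4
        rw [conj_smul_iff] at e1 e2 e3 e4
        exact hk _ _ (fun e => hab (smul_left_cancel _ e)) e3 e4 e1 e2⟩
    have k1 : ∀ a b : Ω, a ≠ b → s • a = a → s • b = b → t • a = a → t • b = b → False :=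
      fun a b hab h1 h2 h3 h4 => hab (hR.2.2 a h3 b h4 h1 h2)
    have k3 : ∀ a b : Ω, a ≠ b → s • a = a → s • b = b → (t * v) • a = a → (t * v) • b = b →
        False := fun a b hab h1 h2 h3 h4 => by
      obtain ⟨a, b, e⟩ := h.rot s2 sa sk hab h1 h2 h3 h4
      rw [h.ytv] at e
      exact k1 a b e.1 e.2.1 e.2.2.1 e.2.2.2.1 e.2.2.2.2
    have k2 : ∀ a b : Ω, a ≠ b → s • a = a → s • b = b → v • a = a → v • b = b →
        False := fun a b hab h1 h2 h3 h4 => by
      obtain ⟨a, b, e⟩ := h.rot s2 sa sk hab h1 h2 h3 h4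
      rw [h.yv] at e
      exact k3 a b e.1 e.2.1 e.2.2.1 e.2.2.2.1 e.2.2.2.2
    have r1 := key t h.tt h.ta h.tb k1
    have r2 := key v h.vv h.va h.vb k2
    have r3 := key _ h.tvtv h.tva h.tvb k3
    have sD : s ∉ Dd t v := h.Rt_not_Dd hR fun _ _ => rfl
    rcases Nat.even_or_odd (Fx Ω t).ncard with he | ho
    · obtain ⟨m, hm⟩ := h.f_pow (h.even_f he)
      by_cases hsv : s * v ∈ Dd t v
      · have e := h.dd2 (τ := s * v) (mem_cent.1 (mul_mem (mem_cent.2 sC) (mem_cent.2 h.vt)))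
          (by rw [mul_smul, h.va, sa]) (by rw [mul_smul, h.vb, sb]) hsv
          (by rwa [mul_assoc, h.vv, mul_one])
        have hst := (h.Dd_conj hsv).trans (h.s_conj s2 sa sk h.vv h.pair.ne₂ h.va h.vb).symm
        have h4 := h.no_four s2 sa sk hs hst
        obtain ⟨γ, hγ, hγ'⟩ : ∃ γ ∈ Fx Ω t, v • γ ≠ γ := by
          by_contra hc
          push Not at hc
          have := Set.ncard_le_ncard (show Fx Ω t ⊆ Fv Ω t v from fun x hx => ⟨hx, hc x hx⟩)
          nlinarith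
        obtain ⟨k, hk, e1, e2⟩ := h.trC h.ta hγ fun e => hγ' (e ▸ h.va)
        have hr : k * s * k⁻¹ ∈ {r | r ∈ Rt Ω t ∧ r * r = 1} :=
          ⟨Rt_cj hk hR, by rw [conj_mul, s2]; simp⟩
        have hc : ∀ g ∈ centralizer ({t} : Set G), ∀ u ∈ {r | r ∈ Rt Ω t ∧ r * r = 1},
            g * u * g⁻¹ ∈ {r | r ∈ Rt Ω t ∧ r * r = 1} := fun g hg u hu =>
          ⟨Rt_cj (mem_cent.1 hg) hu.1, by rw [conj_mul, hu.2]; simp⟩
        obtain ⟨j, hj⟩ := sr h.witt.inv (k := m + m) (by rw [e, hm, pow_add])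
          (R := {r | r ∈ Rt Ω t ∧ r * r = 1}) (fun r hr => mem_cent.2 hr.1.1) hc (fun r hr => hr.2)
          (fun r hr r' hr' a ha e => h.ua hr.1 hr'.1 ha e (h.fpf_of_even he hr.1 hr.2 ha))
          (fun g hg e => h.V_sq (h.ker (mem_cent.1 hg) e)) hr (hc v (mem_cent.2 h.vt) _ hr)
        have e3 : (k * s * k⁻¹) • α = γ := by
          conv_lhs => rw [← e1]
          rw [← e2, conj_smul_iff, sa]
        generalize k * s * k⁻¹ = r at hr hj e3
        have vi := inv_eq_of_mul_eq_one_right h.vv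
        have e4 := sq_of_two_pow h4 (j + 1) (r * v) (by
          rw [pow_succ', pow_mul, pow_two, show r * v * (r * v) = r * (v * r * v⁻¹) by
            rw [vi]; group, ← hj, pow_orderOf_eq_one])
        rw [mul_eq_one_iff_eq_inv, mul_inv_rev, vi, inv_eq_of_mul_eq_one_right hr.2] at e4
        exact hγ' (by rw [← e3, ← mul_smul, ← e4, mul_smul, h.va])
      · have e := h.dd0 sC sa sb sD hsv
        have h1 := h.nk (h.even_n he) (k := 1) (by omega) rfl
        have h2 := h.dcG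
        have h3 : {u | IsConj t u ∧ u • α = β}.ncard = 1 ∨
            {u | IsConj t u ∧ u • α = β}.ncard = c + 1 := by
          by_cases hst : IsConj t (s * t)
          exacts [Or.inr (h.d_succ s2 sa sk hs hst), Or.inl (h.d_one s2 sa sk hs hst)]
        rw [← e] at hm f2
        generalize {u | IsConj t u ∧ u • α = β}.ncard = d at h1 h2 h3
        generalize (Fx Ω t).ncard = i at h1 h2 hm f2
        have h4 : c + d * i ≤ 15 := by
          rcases h1 with h1 | ⟨m, -, hm, h1⟩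
          exacts [by simpa using h1.2, by rw [Nat.dvd_one.1 hm] at h1; omega]
        have h5 : 8 < c + d * i := by
          rcases h1 with h1 | ⟨m, -, hm, h1⟩
          · simpa using h1.1
          · rw [Nat.dvd_one.1 hm] at h1
            rcases h3 with rfl | rfl <;> rcases h.c35 with rfl | rfl <;> omega
        have h6 : m ≤ 3 := by
          by_contra h6
          have := Nat.pow_le_pow_right (show 0 < 2 by norm_num) (show 4 ≤ m by omega)
          rcases h3 with rfl | rfl <;> rcases h.c35 with rfl | rfl <;> omega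
        rcases h3 with rfl | rfl <;> rcases h.c35 with rfl | rfl <;> interval_cases m <;>
          subst hm <;> omega
    · obtain ⟨γ, hγ, e⟩ := exists_fix_elt (p := 2) (g := g * t * g⁻¹)
        (by rw [pow_two, conj_mul, h.tt]; simp) (Set.toFinite (Fx Ω t))
        (fun x hx => mem_Fx_smul r1.1 hx) (by rwa [← even_iff_two_dvd, Nat.not_even_iff_odd])
      have e' : (g * v * g⁻¹) • γ = γ := r1.2.2 _ (mem_Fx_smul r2.1 hγ) _ hγ
        (by rw [← mul_smul, conj_mul, h.pair.comm, ← conj_mul, mul_smul, e]) e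
      have k : ∀ x ∈ Fx Ω t, (g * (t * v) * g⁻¹) • x = x := fun x hx => by
        rw [← conj_mul, mul_smul, ← h.uqt r1 r2 hγ e e' x hx, r1.2.1 x hx]
      exact h.ne (r3.2.2 α h.ta β h.tb (k α h.ta) (k β h.tb))
  · obtain ⟨a, ha, b, hb, e1, e2, hab⟩ : ∃ a ∈ Fx Ω t, ∃ b ∈ Fx Ω t, s • a = a ∧ s • b = b ∧ a ≠ b := by
      by_contra hc
      push Not at hc
      exact hR ⟨sC, fun x _ => by rw [← mul_smul, s2, one_smul], hc⟩
    have sn : ∀ k : G, k • α = α → s ≠ k := fun k e e' => h.ne (by rw [← sa, e', e])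
    have sD := h.mem_Dd sC (sn 1 (one_smul _ _)) (sn t h.ta) ha hb hab e1 e2
    have key : ∀ k : G, k ≠ 1 → k • α = α → k • β = β →
        (∃ a b : Ω, a ≠ b ∧ s • a = a ∧ s • b = b ∧ k • a = a ∧ k • b = b) →
        g * k * g⁻¹ ∈ Dd t v := by
      rintro k k1 ka kb ⟨a, b, hab, e1, e2, e3, e4⟩
      refine h.mem_Dd (cC k ka kb) (mt conj_eq_one_iff.1 k1) (fun e => sn k ka ?_)
        (a := g • a) (b := g • b) ?_ ?_ (fun e => hab (smul_left_cancel g e))
        ((conj_smul_iff g k a a).2 e3) ((conj_smul_iff g k b b).2 e4)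
      · rw [← hg] at e; simpa using e.symm
      · rw [← hg]; exact (conj_smul_iff g s a a).2 e1
      · rw [← hg]; exact (conj_smul_iff g s b b).2 e2
    obtain ⟨a', b', p2⟩ := h.rot s2 sa sk hab e1 e2 ha hb
    rw [h.yt] at p2
    have p3 := h.rot s2 sa sk p2.1 p2.2.1 p2.2.2.1 p2.2.2.2.1 p2.2.2.2.2
    rw [h.yv] at p3
    have h4 := h.four_of' (key v h.pair.ne₂ h.va h.vb ⟨a', b', p2⟩)
      (key t h.pair.ne₁ h.ta h.tb ⟨a, b, hab, e1, e2, ha, hb⟩)
      (by rw [conj_mul]; exact key _ h.pair.rot.ne₂ h.tva h.tvb p3)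
    rcases Nat.even_or_odd (Fx Ω t).ncard with he | ho
    · exact arith_four h.c35 f2 h4 rfl rfl (h.nk (h.even_n he) (by nlinarith)
        (by rw [h.d_succ s2 sa sk hs (h.Dd_conj (h.Dd_mul sD))]))
    · exact h.not_four_odd s2 sa sk sD ho h4

end TP

end H81.TP
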