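import Mathlib
import Cfsg.Agent.Base
import Cfsg.Agent.Lib.H81.TP4
import Cfsg.Agent.Lib.Inv73.ZStar
import Cfsg.Agent.Lib.Invol.BaerSuzuki

/-! Two-point stabiliser `A₄` or `A₅`: the case of a central swapping involution not fused to
`t`. -/

set_option autoImplicit false
set_option linter.style.haveILetI false
set_option linter.unusedSectionVars false

namespace H81.TP

open MulAction Subgroup H29 Cfsg

variable {G Ω : Type*} [Group G] [MulAction G Ω]

namespace TP

variable {α β : Ω} {t v y : G} {c : ℕ} (h : TP α β t v y c) [Finite G] [Finite Ω]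
include h

theorem faithful : FaithfulSMul G Ω :=
  ⟨fun {a b} e => inv_mul_eq_one.1 (h.faith _ fun x => by rw [mul_smul, ← e, inv_smul_smul])⟩

theorem two : IsMultiplyPretransitive G Ω 2 :=
  is_two_pretransitive_iff.2 fun {a b c d} hab hcd => by
    obtain ⟨g, rfl, rfl⟩ := h.tr a b hab
    obtain ⟨k, rfl, rfl⟩ := h.tr c d hcd
    exact ⟨k * g⁻¹, by rw [mul_smul, inv_smul_smul], by rw [mul_smul, inv_smul_smul]⟩

theorem reg_of_core (hO : oddCore G ≠ ⊥) : HasReg G Ω :=
  haveI := h.faithful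
  hasReg_of_odd h.two _ hO H1.odd_card_oddCore

theorem reg_of_sup {s : G} (s1 : s ≠ 1) (e : centralizer ({s} : Set G) ⊔ oddCore G = ⊤) :
    HasReg G Ω := by
  haveI := h.faithful
  by_cases hO : oddCore G = ⊥
  · rw [hO, sup_bot_eq] at e
    exact hasReg_of_central h.two s1 fun g => mem_centralizer_singleton_iff.1 (e ▸ mem_top g)
  · exact h.reg_of_core hO

variable {s : G} (s2 : s * s = 1) (sa : s • α = β)
  (sk : ∀ k : G, k • α = α → k • β = β → s * k = k * s) (hs : ¬ IsConj t s)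
include s2 sa sk hs

theorem s_ne : s ≠ 1 := fun e => h.ne (by rw [← sa, e, one_smul])

theorem n_sq : Nat.card Ω = (Fx Ω t).ncard * (Fx Ω t).ncard := by
  have := h.dcG
  rw [h.d_c s2 sa sk hs ((h.s_conj_or s2 sa sk).resolve_left hs)] at this
  have c0 : (c : ℤ) ≠ 0 := by rcases h.c35 with rfl | rfl <;> norm_num
  have := mul_left_cancel₀ c0 this
  zify; linarith

theorem R_sq {r : G} (hr : IsConj s r) : r * r = 1 := by
  obtain ⟨g, rfl⟩ := isConj_iff.1 hr
  rw [conj_mul, s2]; simp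

theorem R_le {r : G} (hr : IsConj s r) {a b : Ω} (e1 : r • a = a) (e2 : r • b = b) : a = b := by
  by_contra hab
  exact hs ((h.conj_of_fix (h.R_sq s2 sa sk hs hr) (fun e => h.s_ne s2 sa sk hs
    (isConj_one_left.1 (e ▸ hr))) hab e1 e2).trans hr.symm)

theorem R_eq {r : G} (hr : IsConj s r) (e : r • α = β) : r = s := by
  rcases (h.s_swap s2 sa sk).1 ⟨h.R_sq s2 sa sk hs hr, e⟩ with e | ⟨k, hk, rfl⟩
  · exact e
  · exact absurd ((((h.s_conj_or s2 sa sk).resolve_left hs).trans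
      (h.s_conj s2 sa sk hk.1.1 hk.1.2 hk.2.1 hk.2.2)).trans hr.symm) hs

theorem R_uniq {r r' : G} (hr : IsConj s r) (hr' : IsConj s r') {a : Ω} (e : r • a = r' • a)
    (h1 : r • a ≠ a) : r = r' := by
  obtain ⟨g, e1, e2⟩ := h.tr a (r • a) h1.symm
  have k1 := h.R_eq s2 sa sk hs (hr.trans (isConj_iff.2 ⟨g⁻¹, rfl⟩)) (cj_smul (by rw [e1, e2]))
  have k2 := h.R_eq s2 sa sk hs (hr'.trans (isConj_iff.2 ⟨g⁻¹, rfl⟩))
    (cj_smul (by rw [e1, e2, e]))
  simpa using k1.trans k2.symm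

theorem caseI_odd (ho : Odd (Nat.card Ω)) : centralizer ({s} : Set G) ⊔ oddCore G = ⊤ := by
  haveI : Fact (Nat.Prime 2) := ⟨Nat.prime_two⟩
  refine H73.centralizer_sup_oddCore_eq_top' (orderOf_two s2 (h.s_ne s2 sa sk hs)) fun g hg => ?_
  obtain ⟨γ, -, e⟩ := exists_fix_elt (p := 2) (g := s) (by rw [pow_two, s2])
    (Set.toFinite (Set.univ : Set Ω)) (fun _ _ => trivial)
    (by rwa [Set.ncard_univ, ← even_iff_two_dvd, Nat.not_even_iff_odd])
  have e' : (g * s * g⁻¹) • γ = γ := h.R_le s2 sa sk hs (IsConj.refl s)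
    (by rw [← mul_smul, ← hg.eq, mul_smul, e]) e
  haveI := h.faithful
  exact eq_of_smul_eq_smul fun x => h.top.uq (R := {r | IsConj s r}) (fun _ _ => trivial)
    (fun g _ u hu => hu.trans (isConj_iff.2 ⟨g, rfl⟩))
    (fun r hr a _ b _ => h.R_le s2 sa sk hs hr)
    (fun r hr r' hr' e h1 x _ => by rw [h.R_uniq s2 sa sk hs hr hr' e h1])
    (isConj_iff.2 ⟨g, rfl⟩) (IsConj.refl s) (Set.mem_univ γ) e' e x trivial

theorem caseI_i : (Fx Ω t).ncard = (Fv Ω t v).ncard ∨
    (Fx Ω t).ncard = (Fv Ω t v).ncard * (Fv Ω t v).ncard := by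
  have sb := smul_smul_of_sq s2 sa
  have sC := h.s_cent s2 sa sk
  have sD : s ∉ Dd t v := fun e => hs (h.Dd_conj e)
  by_cases hsv : s * v ∈ Dd t v
  · exact Or.inr (h.dd2 (τ := s * v) (mem_cent.1 (mul_mem (mem_cent.2 sC) (mem_cent.2 h.vt)))
      (by rw [mul_smul, h.va, sa]) (by rw [mul_smul, h.vb, sb]) hsv
      (by rwa [mul_assoc, h.vv, mul_one]))
  · exact Or.inl (h.dd0 sC sa sb sD hsv)

theorem caseI_even (he : Even (Nat.card Ω)) : HasReg G Ω := by
  haveI : Fact (Nat.Prime 2) := ⟨Nat.prime_two⟩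
  haveI := h.faithful
  obtain ⟨m, hm⟩ := h.f_pow (h.even_f (h.even_i he))
  obtain ⟨k, hk⟩ : ∃ k, (Set.univ : Set Ω).ncard = 2 ^ k := by
    rw [Set.ncard_univ, h.n_sq s2 sa sk hs]
    rcases h.caseI_i s2 sa sk hs with e | e <;> rw [e, hm]
    exacts [⟨m + m, by ring⟩, ⟨m + m + (m + m), by ring⟩]
  have fpf : ∀ r, IsConj s r → ∀ a : Ω, r • a ≠ a := fun r hr a e => by
    have h1 := ncard_modEq_elt (p := 2) (g := r) (by rw [pow_two, h.R_sq s2 sa sk hs hr])
      (Set.toFinite (Set.univ : Set Ω)) fun _ _ => trivial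
    rw [show {x | x ∈ (Set.univ : Set Ω) ∧ r • x = x} = {a} from Set.eq_singleton_iff_unique_mem.2
      ⟨⟨trivial, e⟩, fun x hx => h.R_le s2 sa sk hs hr hx.2 e⟩, Set.ncard_singleton,
      Set.ncard_univ] at h1
    rw [Nat.even_iff] at he
    exact absurd (he ▸ h1 : 0 = 1 % 2) (by norm_num)
  have hp := H9.isPGroup_normalClosure_of_forall_conj (p := 2) (x := s) fun g => by
    obtain ⟨j, hj⟩ := sr h.top.inv hk (R := {r | IsConj s r})
      (fun _ _ => trivial) (fun g _ u hu => hu.trans (isConj_iff.2 ⟨g, rfl⟩))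
      (fun r hr => h.R_sq s2 sa sk hs hr)
      (fun r hr r' hr' a _ e x _ => by rw [h.R_uniq s2 sa sk hs hr hr' e (fpf r hr a)])
      (fun g _ e => by rw [h.faith g fun x => e x trivial, one_mul]) (IsConj.refl s)
      (isConj_iff.2 ⟨g, rfl⟩)
    exact H9.isPGroup_closure_pair s2 (by rw [conj_mul, s2]; simp) (hj ▸ pow_orderOf_eq_one _)
  haveI := hp.isNilpotent
  exact hasReg_of_solvable h.two (normalClosure {s}) (fun e => h.s_ne s2 sa sk hs
    (mem_bot.1 (e ▸ subset_normalClosure (Set.mem_singleton s)))) inferInstance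

theorem caseI_16 (he : Even (Nat.card Ω)) (hc : c = 3) :
    Nat.card Ω = 16 ∧ (Fv Ω t v).ncard = 4 := by
  subst hc
  obtain ⟨m, hm⟩ := h.f_pow (h.even_f (h.even_i he))
  have hd := h.d_c s2 sa sk hs ((h.s_conj_or s2 sa sk).resolve_left hs)
  have f2 := h.wittN.two_le
  have hn := h.n_sq s2 sa sk hs
  rcases h.caseI_i s2 sa sk hs with e | e
  · have h1 := h.nk he (k := 1) (by omega) rfl
    rw [hd, e] at h1
    rw [e] at hn
    have h2 : (Fv Ω t v).ncard ≤ 4 := by
      rcases h1 with h1 | ⟨m, -, hm, h1⟩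
      exacts [by omega, by rw [Nat.dvd_one.1 hm] at h1; omega]
    have h3 : (Fv Ω t v).ncard ≠ 2 := fun e2 => by
      haveI := h.faithful
      classical
      letI := Fintype.ofFinite Ω
      have h4 := Nat.card_le_card_of_injective _ (toPerm_injective (α := G) (β := Ω))
      rw [h.card_G, Nat.card_perm, hn, e2] at h4
      revert h4; decide
    have h4 : (Fv Ω t v).ncard ≠ 3 := fun e2 => by
      have := h.even_f (h.even_i he)
      rw [e2] at this; revert this; decide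
    have h5 : (Fv Ω t v).ncard = 4 := by omega
    exact ⟨by rw [hn, h5], h5⟩
  · have h1 := h.nk he (k := (Fv Ω t v).ncard + 1) (by rw [e]; ring) rfl
    rw [hd, e] at h1
    generalize (Fv Ω t v).ncard = f at h1 f2
    exfalso
    rcases h1 with h1 | ⟨m, m0, ⟨j, hj⟩, h1⟩
    · nlinarith [h1.1]
    · rcases Nat.lt_or_ge j 2 with h2 | h2
      · interval_cases j
        · omega
        · rw [mul_one] at hj; subst hj; nlinarith
      · have : 2 * m ≤ f + 1 := by nlinarith
        nlinarith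

end TP

end H81.TP
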