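import Mathlib
import Cfsg.Agent.Base
import Cfsg.Agent.Lib.H81.TP6
import Cfsg.Agent.Lib.GWCor.Quat
import Cfsg.Agent.Lib.TwoGrp.RankOne
import Cfsg.Agent.Lib.TwoFusion.QD
import Cfsg.Agent.S3224

/-! Two-point stabiliser `A₄` or `A₅`: the dihedral case, odd degree. -/

set_option autoImplicit false
set_option linter.style.haveILetI false
set_option linter.unusedSectionVars false

namespace H81.TP

open MulAction Subgroup H29 Cfsg

variable {G Ω : Type*} [Group G] [MulAction G Ω]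

namespace TP

variable {α β : Ω} {t v y : G} {c : ℕ} (h : TP α β t v y c) [Finite G] [Finite Ω]
include h

theorem mem_Rt_of_sq {r : G} (e : r * r = t) : r ∈ Rt Ω t := by
  have hr : r * t * r⁻¹ = t := by rw [← e]; group
  refine ⟨hr, fun x hx => by rw [← mul_smul, e]; exact hx, fun a ha b hb e1 e2 => ?_⟩
  by_contra hab
  refine h.pair.ne₁ (e.symm.trans (h.Dd_sq (h.mem_Dd hr ?_ ?_ ha hb hab e1 e2)))
  · rintro rfl; exact h.pair.ne₁ (by simpa using e.symm)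
  · rintro rfl; exact h.pair.ne₁ (e.symm.trans h.tt)

theorem inv_three (hc : c = 3) {u : G} (u2 : u * u = 1) (u1 : u ≠ 1) (ua : u • α = α)
    (ub : u • β = β) : u = t ∨ u = v ∨ u = t * v := by
  have e : ({t, v, t * v} : Set G) = {u : G | (u * u = 1 ∧ u ≠ 1) ∧ u • α = α ∧ u • β = β} :=
    Set.eq_of_subset_of_ncard_le (by
      rintro x (rfl | rfl | rfl)
      exacts [⟨⟨h.tt, h.pair.ne₁⟩, h.ta, h.tb⟩, ⟨⟨h.vv, h.pair.ne₂⟩, h.va, h.vb⟩,
        ⟨⟨h.tvtv, h.pair.rot.ne₂⟩, h.tva, h.tvb⟩]) (by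
      rw [h.ncard_inv, hc, Set.ncard_eq_three.2 ⟨_, _, _, h.pair.ne, by simpa using h.pair.ne₂,
        h.pair.rot.ne, rfl⟩])
  exact e.ge ⟨⟨u2, u1⟩, ua, ub⟩

variable {τ : G} (τ2 : τ * τ = 1) (hτ : τ * t * τ⁻¹ = t) (a1 : τ • α = β)
  (hv : τ * v * τ⁻¹ = t * v)
include τ2 hτ a1 hv

theorem x_sq : τ * v * (τ * v) = t := by
  have e := hv
  rw [inv_eq_of_mul_eq_one_right τ2] at e
  rw [← mul_assoc, e, mul_assoc, h.vv, mul_one]

theorem x_sq' : τ * (t * v) * (τ * (t * v)) = t := by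
  have e := comm_of (h.mem_Rt_of_sq (h.x_sq τ2 hτ a1 hv)).1
  rw [h.pair.comm, ← mul_assoc τ, mul_assoc, ← mul_assoc t, ← e, mul_assoc _ t t, h.tt, mul_one,
    h.x_sq τ2 hτ a1 hv]

theorem v_tau : v * τ * v⁻¹ = τ * t := by
  have e : τ * v = t * v * τ := mul_inv_eq_iff_eq_mul.1 hv
  rw [inv_eq_of_mul_eq_one_right h.vv, mul_assoc, e, h.pair.comm, ← mul_assoc, ← mul_assoc, h.vv,
    one_mul, comm_of hτ]

theorem inv_swap {u : G} (u2 : u * u = 1) (hu : u * t * u⁻¹ = t) (ua : u • α = β) :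
    u = τ ∨ u = τ * t := by
  rcases h.coset hτ a1 (smul_smul_of_sq τ2 a1) hu ua (smul_smul_of_sq u2 ua) with e | e | e | e
  exacts [Or.inl e, Or.inr e, absurd (by rw [← h.x_sq τ2 hτ a1 hv, ← e, u2]) h.pair.ne₁,
    absurd (by rw [← h.x_sq' τ2 hτ a1 hv, ← e, u2]) h.pair.ne₁]

theorem conj_tau {u : G} (u2 : u * u = 1) (ua : u • α = β) :
    ∃ k : G, k • α = α ∧ k • β = β ∧ k * τ * k⁻¹ = u := by
  obtain ⟨k, e1, e2, e⟩ := h.cm u2 ua
  have e3 : (k * u * k⁻¹) • α = β := by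
    conv_lhs => rw [← e1]
    conv_rhs => rw [← e2]
    rwa [conj_smul_iff]
  have e4 : k⁻¹ • α = α := by rw [inv_smul_eq_iff, e1]
  have e5 : k⁻¹ • β = β := by rw [inv_smul_eq_iff, e2]
  rcases h.inv_swap τ2 hτ a1 hv (by rw [conj_mul, u2]; simp) e e3 with e | e
  · exact ⟨k⁻¹, e4, e5, by rw [← e]; group⟩
  · refine ⟨k⁻¹ * v, by rw [mul_smul, h.va, e4], by rw [mul_smul, h.vb, e5], ?_⟩
    rw [show k⁻¹ * v * τ * (k⁻¹ * v)⁻¹ = k⁻¹ * (v * τ * v⁻¹) * k by group, h.v_tau τ2 hτ a1 hv, ← e]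
    group

theorem one_class {u : G} (u2 : u * u = 1) (u1 : u ≠ 1) : IsConj t u := by
  have k : ∀ u : G, u * u = 1 → u ≠ 1 → IsConj τ u := fun u u2 u1 => by
    obtain ⟨w, e, w2, -, wa⟩ := h.inv_cases u2 u1
    obtain ⟨k, -, -, e'⟩ := h.conj_tau τ2 hτ a1 hv w2 wa
    exact (isConj_iff.2 ⟨k, e'⟩).trans e.symm
  exact (k t h.tt h.pair.ne₁).symm.trans (k u u2 u1)

theorem tau_ne : τ ≠ 1 := fun e => h.ne (by rw [← a1, e, one_smul])

theorem d_six (hc : c = 3) : {u | IsConj t u ∧ u • α = β}.ncard = 6 := by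
  have h1 := ncard_bip (s := ((stabilizer G α ⊓ stabilizer G β : Subgroup G) : Set G))
    (t := {u | IsConj t u ∧ u • α = β}) (Set.toFinite _) (Set.toFinite _)
    (fun k u => k * τ * k⁻¹ = u) (m := 1) (n := 2) (fun k hk => by
      rw [Set.ncard_eq_one]
      refine ⟨k * τ * k⁻¹, Set.eq_singleton_iff_unique_mem.2 ⟨⟨⟨(h.one_class τ2 hτ a1 hv τ2
        (h.tau_ne τ2 hτ a1 hv)).trans (isConj_iff.2 ⟨k, rfl⟩), ?_⟩, rfl⟩, fun x hx => hx.2.symm⟩⟩
      conv_lhs => rw [← show k • α = α from hk.1]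
      conv_rhs => rw [← show k • β = β from hk.2]
      rwa [conj_smul_iff])
    (fun u hu => by
      obtain ⟨g, hg⟩ := isConj_iff.1 hu.1
      obtain ⟨k, e1, e2, rfl⟩ := h.conj_tau τ2 hτ a1 hv (u := u)
        (by rw [← hg, conj_mul, h.tt]; simp) hu.2
      rw [← Set.ncard_pair (a := k) (b := k * t) (by simpa using h.pair.ne₁)]
      congr 1
      ext g
      refine ⟨fun hg => ?_, ?_⟩
      · have e3 : (k⁻¹ * g) • α = α := by
          rw [mul_smul, show g • α = α from hg.1.1, inv_smul_eq_iff, e1]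
        have e4 : (k⁻¹ * g) • β = β := by
          rw [mul_smul, show g • β = β from hg.1.2, inv_smul_eq_iff, e2]
        have e5 : k⁻¹ * g * τ * (k⁻¹ * g)⁻¹ = τ := by
          rw [show k⁻¹ * g * τ * (k⁻¹ * g)⁻¹ = k⁻¹ * (g * τ * g⁻¹) * k by group, hg.2]; group
        rw [Set.mem_insert_iff, Set.mem_singleton_iff, ← inv_mul_eq_iff_eq_mul, eq_comm,
          ← inv_mul_eq_one, eq_comm]
        generalize k⁻¹ * g = w at e3 e4 e5
        have n1 : τ * v * τ⁻¹ ≠ v := hv ▸ h.pair.rot.ne.symm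
        have n2 : τ * (t * v) * τ⁻¹ ≠ t * v := fun e => n1 (by
          rwa [← conj_mul, hτ, mul_right_inj] at e)
        have e6 : τ * (w * t * w⁻¹) * τ⁻¹ = w * t * w⁻¹ := by
          conv_lhs => rw [← e5]
          rw [show w * τ * w⁻¹ * (w * t * w⁻¹) * (w * τ * w⁻¹)⁻¹ = w * (τ * t * τ⁻¹) * w⁻¹ by group,
            hτ]
        have e7 : τ * w * τ⁻¹ = w := of_comm (comm_of e5).symm
        rcases h.inv_three hc (u := w * t * w⁻¹) (by rw [conj_mul, h.tt]; simp)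
          (mt conj_eq_one_iff.1 h.pair.ne₁)
          (by conv_lhs => rw [← e3]
              rw [(conj_smul_iff w t α α).2 h.ta, e3])
          (by conv_lhs => rw [← e4]
              rw [(conj_smul_iff w t β β).2 h.tb, e4]) with e | e | e
        · rcases h.cent w e3 e4 e with e | e | rfl | rfl
          exacts [Or.inl e.symm, Or.inr e, absurd e7 n1, absurd e7 n2]
        · exact absurd (e ▸ e6) n1
        · exact absurd (e ▸ e6) n2
      · rintro (rfl | rfl)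
        · exact ⟨⟨e1, e2⟩, rfl⟩
        · refine ⟨⟨show (k * t) • α = α by rw [mul_smul, h.ta, e1],
            show (k * t) • β = β by rw [mul_smul, h.tb, e2]⟩, ?_⟩
          rw [show k * t * τ * (k * t)⁻¹ = k * (t * τ * t⁻¹) * k⁻¹ by group,
            of_comm (comm_of hτ).symm])
  rw [← Nat.card_coe_set_eq, SetLike.coe_sort_coe, h.card] at h1
  omega

theorem iii_i : (Fx Ω t).ncard = (Fv Ω t v).ncard ∨
    (τ ∈ Dd t v ∧ (Fx Ω t).ncard = (Fv Ω t v).ncard * (Fv Ω t v).ncard) := by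
  have b1 := smul_smul_of_sq τ2 a1
  have e : τ * v ∉ Dd t v := fun e => h.pair.ne₁ ((h.x_sq τ2 hτ a1 hv).symm.trans (h.Dd_sq e))
  by_cases hD : τ ∈ Dd t v
  exacts [Or.inr ⟨hD, h.dd2 hτ a1 b1 hD e⟩, Or.inl (h.dd0 hτ a1 b1 hD e)]

theorem mem_V_of_sq {u : G} (hu : u * t * u⁻¹ = t) (hu' : u * v * u⁻¹ = v)
    (e : u * u ∈ closure ({t, v} : Set G)) : u ∈ closure ({t, v} : Set G) := by
  by_contra hn
  obtain ⟨a, ha, h1⟩ : ∃ a ∈ Fv Ω t v, u • a ≠ a := by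
    by_contra hc
    push Not at hc
    exact hn (h.memV.2 ⟨hc α ⟨h.ta, h.va⟩, hc β ⟨h.tb, h.vb⟩, hu⟩)
  obtain ⟨g, hg, e1, e2⟩ := h.wittN.tr a ha _ (h.wittN.inv u ⟨hu, Or.inl hu'⟩ a ha) h1.symm
  have hg' := (Nv h.pair).inv_mem hg
  have k1 := h.cj_cent hg'.1 hu
  have k2 : g⁻¹ * u * g⁻¹⁻¹ * v * (g⁻¹ * u * g⁻¹⁻¹)⁻¹ = v := by
    have := congrArg (fun x => g⁻¹ * x * g⁻¹⁻¹) (comm_of hu')
    simp only [← conj_mul] at this
    rcases hg'.2 with e | e <;> rw [e] at this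
    · exact of_comm this
    · rw [← mul_assoc, comm_of k1, mul_assoc, mul_assoc t, mul_right_inj] at this
      exact of_comm this
  have k3 := h.coset hτ a1 (smul_smul_of_sq τ2 a1) k1 (cj_smul (by rw [e1, e2]))
    (cj_smul (by rw [e1, e2, ← mul_smul, h.fix_of_V e ha]))
  generalize g⁻¹ * u * g⁻¹⁻¹ = w at k2 k3
  have k4 : ∀ z ∈ closure ({t, v} : Set G), w ≠ τ * z := fun z hz e => h.pair.rot.ne (by
    rw [← hv, ← k2, e, show τ * z * v * (τ * z)⁻¹ = τ * (z * v * z⁻¹) * τ⁻¹ by group,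
      of_comm (h.V_comm hz)]
    rw [e, show τ * z * v * (τ * z)⁻¹ = τ * (z * v * z⁻¹) * τ⁻¹ by group,
      of_comm (h.V_comm hz)] at k2
    rw [k2, k2])
  rcases k3 with e | e | e | e
  exacts [k4 1 (one_mem _) (by rw [e, mul_one]), k4 _ (h.pair.mem_closure.2 (by simp)) e,
    k4 _ (h.pair.mem_closure.2 (by simp)) e, k4 _ (h.pair.mem_closure.2 (by simp)) e]

theorem mem_V_of_pow (k : ℕ) : ∀ {u : G}, u * t * u⁻¹ = t → u * v * u⁻¹ = v → u ^ 2 ^ k = 1 →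
    u ∈ closure ({t, v} : Set G) := by
  induction k with
  | zero => intro u _ _ e; rw [pow_zero, pow_one] at e; exact e ▸ one_mem _
  | succ k ih =>
    intro u h1 h2 e
    exact h.mem_V_of_sq τ2 hτ a1 hv h1 h2 (ih
      (mem_cent.1 (mul_mem (mem_cent.2 h1) (mem_cent.2 h1)))
      (mem_cent.1 (mul_mem (mem_cent.2 h2) (mem_cent.2 h2)))
      (by rwa [← pow_two, ← pow_mul, ← pow_succ']))

theorem not_four_dvd : ¬ 4 ∣ (Fv Ω t v).ncard * ((Fv Ω t v).ncard - 1) := by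
  haveI : Fact (Nat.Prime 2) := ⟨Nat.prime_two⟩
  rintro ⟨m, hm⟩
  have h1 := h.card_half le_rfl (g := τ) ⟨hτ, Or.inr hv⟩ hv
  rw [h.card_N, ← mul_assoc, hm] at h1
  obtain ⟨P, hP⟩ := Sylow.exists_subgroup_card_pow_prime (G := ↥(Nv h.pair ⊓ centralizer {v})) 2
    (n := 3) ⟨m, by omega⟩
  have h2 : P.map (Subgroup.subtype _) ≤ closure {t, v} := by
    rintro _ ⟨u, hu, rfl⟩
    refine h.mem_V_of_pow τ2 hτ a1 hv 3 u.2.1.1 (mem_cent.1 u.2.2) ?_
    have : (⟨u, hu⟩ : P) ^ 2 ^ 3 = 1 := hP ▸ pow_card_eq_one'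
    exact congrArg (fun x : P => ((x : ↥(Nv h.pair ⊓ centralizer {v})) : G)) this
  have h3 := card_le_of_le h2
  rw [card_map_of_injective (subtype_injective _), hP, h.cardV] at h3
  omega

theorem exists_syl : ∃ S : Sylow 2 G, (S : Subgroup G) ≤ centralizer {t} ∧ t ∈ S ∧ v ∈ S := by
  haveI : Fact (Nat.Prime 2) := ⟨Nat.prime_two⟩
  obtain ⟨S, hS⟩ := (H9.isPGroup_zpowers_of_mul_self h.tt).exists_le_sylow
  obtain ⟨z, -, hz, oz⟩ := H5.exists_mem_center_orderOf_eq S.isPGroup' ⊤ (fun e => h.pair.ne₁ (by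
    have := e ▸ mem_top (⟨t, hS (mem_zpowers t)⟩ : (S : Subgroup G))
    exact congrArg Subtype.val (mem_bot.1 this)))
  rw [← orderOf_coe] at oz
  obtain ⟨g, hg⟩ := isConj_iff.1 (h.one_class τ2 hτ a1 hv (H9.mul_self_of_orderOf_two oz)
    (H9.ne_one_of_orderOf_two oz)).symm
  have mem : ∀ (g : G) (S : Sylow 2 G) (x : G), x ∈ g • S ↔ g⁻¹ * x * g ∈ S := fun g S x => by
    change x ∈ ((g • S : Sylow 2 G) : Subgroup G) ↔ _
    rw [Sylow.coe_subgroup_smul, mem_pointwise_smul_iff_inv_smul_mem]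
    simp only [MulAut.smul_def, MulAut.conj_inv_apply]
    rfl
  have h1 : ((g • S : Sylow 2 G) : Subgroup G) ≤ centralizer {t} := fun x hx => by
    have := congrArg Subtype.val (mem_center_iff.1 hz ⟨_, (mem g S x).1 hx⟩)
    simp only [coe_mul] at this
    rw [mem_cent, ← hg, show x * (g * z * g⁻¹) * x⁻¹ = g * (g⁻¹ * x * g * z) * g⁻¹ * x⁻¹ by group,
      this]
    group
  have h2 : t ∈ g • S := (mem g S t).2 (by
    rw [← hg, show g⁻¹ * (g * z * g⁻¹) * g = z by group]; exact z.2)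
  generalize g • S = T at h1 h2
  obtain ⟨k, hk⟩ := H9.exists_conj_mem_sylow (T.subtype h1)
    (H9.isPGroup_zpowers_of_mul_self (x := ⟨v, mem_cent.2 h.vt⟩) (Subtype.ext h.vv))
  have h3 : (k : G) * v * (k : G)⁻¹ ∈ T := hk _ (mem_zpowers _)
  refine ⟨(k : G)⁻¹ • T, fun x hx => ?_, (mem _ _ _).2 ?_, (mem _ _ _).2 (by rwa [inv_inv])⟩
  · have := mul_mem (mul_mem (inv_mem k.2) (h1 ((mem _ _ _).1 hx))) k.2
    simpa [mul_assoc] using this
  · rwa [inv_inv, mem_cent.1 k.2]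

theorem d2 (ho : Odd (Nat.card Ω)) : D2 G := by
  haveI : Fact (Nat.Prime 2) := ⟨Nat.prime_two⟩
  obtain ⟨S, hS, ht, hv'⟩ := h.exists_syl τ2 hτ a1 hv
  have hV : closure ({t, v} : Set G) ≤ S := (closure_le _).2 (by rintro x (rfl | rfl); exacts [ht, hv'])
  have e : centralizer {(⟨v, hv'⟩ : (S : Subgroup G))} = (closure {t, v}).subgroupOf S := by
    ext g
    rw [mem_subgroupOf, mem_cent, Subtype.ext_iff]
    refine ⟨fun e => ?_, fun e => of_comm (h.V_comm e)⟩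
    obtain ⟨k, hk⟩ := S.isPGroup' g
    exact h.mem_V_of_pow τ2 hτ a1 hv k (mem_cent.1 (hS g.2)) e (congrArg Subtype.val hk)
  rcases Cfsg.Agent.S3224.result S.isPGroup' ⟨v, hv'⟩
    (by rw [orderOf_mk]; exact orderOf_two h.vv h.pair.ne₂)
    (by rw [e, Nat.card_congr (subgroupOfEquivOfLe hV).toEquiv, h.cardV]) with ⟨n, ⟨k⟩⟩ | k | k
  · exact D2.of_sylow_equiv S k
  · exfalso
    obtain ⟨k, a, b, q⟩ := H41.exists_qd k
    have ez : t = q.z := (q.center_iff ht fun g hg => comm_of (mem_cent.1 (hS hg))).resolve_left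
      h.pair.ne₁
    by_cases hi : (Fx Ω t).ncard = (Fv Ω t v).ncard
    · have h1 := card_dvd_of_le hS
      rw [q.card, h.card_C, hi, ← mul_assoc] at h1
      exact h.not_four_dvd τ2 hτ a1 hv (Nat.dvd_of_mul_dvd_mul_right (k := 4) (by norm_num)
        ((Dvd.intro _ rfl).trans h1))
    · have r1 := h.mem_Rt_of_sq (q.ww.trans ez.symm)
      have r2 := h.mem_Rt_of_sq ((q.sq_odd 0).trans ez.symm)
      obtain ⟨γ, hγ, e⟩ := exists_fix S.isPGroup' (Set.toFinite (Fx Ω t))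
        (fun g hg x hx => mem_Fx_smul (mem_cent.1 (hS hg)) hx)
        (by rw [← even_iff_two_dvd, Nat.not_even_iff_odd]; exact h.odd_i ho)
      have h1 := h.uqt r1 r2 hγ (e _ q.w_mem) (e _ (q.zpow_y_mem _))
      refine q.notMem_zpowers_w (2 * 0 + 1) ?_
      rcases h.ker' hi (g := q.w⁻¹ * (a ^ (2 * 0 + 1 : ℤ) * b))
        (mem_cent.1 (mul_mem (inv_mem (mem_cent.2 r1.1)) (mem_cent.2 r2.1)))
        (fun x hx => by rw [mul_smul, ← h1 x hx, inv_smul_smul]) with e | e <;>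
        rw [inv_mul_eq_iff_eq_mul] at e <;> rw [e]
      · exact mul_mem (mem_zpowers _) (one_mem _)
      · rw [ez, ← q.ww]
        exact mul_mem (mem_zpowers _) (mul_mem (mem_zpowers _) (mem_zpowers _))
  · haveI : IsKleinFour (S : Subgroup G) :=
      (eq_of_le_of_card_ge hV (by rw [k, h.cardV])) ▸ h.pair.isKleinFour
    exact D2.of_sylow_equiv S (n := 2) IsKleinFour.nonempty_mulEquiv.some

theorem caseIII_odd (ho : Odd (Nat.card Ω)) (hO : oddCore G = ⊥) :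
    Nonempty (G ≃* alternatingGroup (Fin 7)) := by
  have hD := h.d2 τ2 hτ a1 hv ho
  have n3 : 3 ≤ Nat.card Ω := by
    have := h.top.two_le
    rw [Set.ncard_univ] at this
    obtain ⟨m, hm⟩ := ho
    omega
  have big : 72 ≤ Nat.card G := by
    rw [h.card_G]
    have : 12 ≤ 4 * c := by rcases h.c35 with rfl | rfl <;> norm_num
    exact le_trans (by norm_num) (Nat.mul_le_mul n3 (Nat.mul_le_mul
      (show 2 ≤ Nat.card Ω - 1 by omega) this))
  by_cases hs : Group.IsSolvable G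
  · exfalso
    rcases hD.solvable hO with k | ⟨⟨k⟩⟩ | ⟨⟨k⟩⟩
    · obtain ⟨m, hm⟩ := k y
      have h1 : y = 1 := orderOf_eq_one_iff.1 (Nat.eq_one_of_dvd_coprimes
        (Nat.Coprime.pow_right m (show Nat.Coprime 3 2 by norm_num))
        (orderOf_dvd_of_pow_eq_one h.y3) (orderOf_dvd_of_pow_eq_one hm))
      exact h.pair.ne (by rw [← h.yt, h1]; simp)
    · rw [Nat.card_congr k.toEquiv, nat_card_alternatingGroup] at big
      simp [Nat.factorial] at big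
    · rw [Nat.card_congr k.toEquiv, Nat.card_perm] at big
      simp [Nat.factorial] at big
  obtain ⟨L, hL⟩ := hD.md hO hs
  rcases hL.typ with k | ⟨⟨k⟩, rfl⟩
  swap
  · exact ⟨topEquiv.symm.trans k⟩
  exfalso
  obtain ⟨q, hq⟩ := hL.l2d k
  obtain ⟨T, hT⟩ := hq.tor t (orderOf_two h.tt h.pair.ne₁)
  obtain ⟨W, a, b, hW, hWL⟩ := hL.exists_four_le
  have aL : a ∈ L := hWL (hW.eq ▸ mem_sup_left (mem_zpowers a))
  have iL : ∀ u : G, u * u = 1 → u ≠ 1 → u ∈ L := fun u u2 u1 => by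
    obtain ⟨g, rfl⟩ := isConj_iff.1 ((h.one_class τ2 hτ a1 hv (H9.mul_self_of_orderOf_two hW.ha)
      (H9.ne_one_of_orderOf_two hW.ha)).symm.trans (h.one_class τ2 hτ a1 hv u2 u1))
    exact hL.normal.conj_mem a aL g
  have xL : τ * v ∈ L := mul_mem (iL τ τ2 (h.tau_ne τ2 hτ a1 hv)) (iL v h.vv h.pair.ne₂)
  have mT : ∀ r ∈ L, r * r = t → r ∈ T := fun r hr e => by
    by_contra hn
    exact h.pair.ne₁ (e.symm.trans (hT.sq r ⟨hr, mem_cent.2 (h.mem_Rt_of_sq e).1⟩ hn))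
  have x2 := h.x_sq τ2 hτ a1 hv
  have xa : (τ * v) • α = β := by rw [mul_smul, h.va, a1]
  generalize τ * v = x at xL x2 xa
  obtain ⟨γ, hγ, h1, h2⟩ : ∃ γ ∈ Fx Ω t, γ ≠ α ∧ γ ≠ β := by
    by_contra hc
    push Not at hc
    have h1 := Set.ncard_le_ncard (show Fx Ω t ⊆ {α, β} from fun z hz => by
      by_cases e : z = α
      exacts [Or.inl e, Or.inr (hc z hz e)])
    rw [Set.ncard_pair h.ne] at h1
    have h2 := h.witt.two_le
    obtain ⟨m, hm⟩ := h.odd_i ho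
    omega
  obtain ⟨g, hg, e1, e2⟩ := h.trC h.ta hγ h1.symm
  have x2' : g * x * g⁻¹ * (g * x * g⁻¹) = t := by rw [conj_mul, x2, hg]
  have e3 : (g * x * g⁻¹) • α = γ := by
    conv_lhs => rw [← e1]
    rw [← e2, conj_smul_iff, xa]
  have m1 := mT x xL x2
  have m2 := mT _ (hL.normal.conj_mem x xL g) x2'
  generalize g * x * g⁻¹ = x' at x2' e3 m2
  haveI := hT.cyc
  have cm : x * x' = x' * x := congrArg Subtype.val (mul_comm' (⟨x, m1⟩ : T) ⟨x', m2⟩)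
  have e4 : x⁻¹ * x' * (x⁻¹ * x') = 1 := by
    rw [show x⁻¹ * x' * (x⁻¹ * x') = x⁻¹ * x⁻¹ * (x * x' * x⁻¹ * x') by group, cm,
      mul_inv_cancel_right, x2', ← mul_inv_rev, x2, inv_mul_cancel]
  have e5 : x⁻¹ * x' = 1 ∨ x⁻¹ * x' = t := or_iff_not_imp_left.2 fun e =>
    congrArg Subtype.val (H13.TG.ui_of_isCyclic (G := T) ⟨_, mul_mem (inv_mem m1) m2⟩
      ⟨t, x2 ▸ mul_mem m1 m1⟩ (Subtype.ext e4) (Subtype.ext h.tt)
      (fun e' => e (congrArg Subtype.val e')) (fun e' => h.pair.ne₁ (congrArg Subtype.val e')))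
  refine h2 ?_
  rcases e5 with e | e <;> rw [inv_mul_eq_iff_eq_mul] at e <;> rw [← e3, e, mul_smul]
  exacts [by rw [one_smul, xa], by rw [h.ta, xa]]

end TP

end H81.TP
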