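import Mathlib
import Cfsg.Agent.Base
import Cfsg.Agent.Lib.H81.TP7
import Cfsg.Agent.Lib.ABG.H52_M11

/-! Two-point stabiliser `A₄` or `A₅`: the dihedral case, even degree. -/

set_option autoImplicit false
set_option linter.style.haveILetI false
set_option linter.unusedSectionVars false

namespace H81.TP

open MulAction Subgroup H29 Cfsg

/-- The normal four-group of `S₄`. -/
def K4 : Subgroup (Equiv.Perm (Fin 4)) where
  carrier := {σ | σ = 1 ∨ (σ * σ = 1 ∧ ∀ i, σ i ≠ i)}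
  one_mem' := Or.inl rfl
  mul_mem' := by
    intro a b
    simp only [Set.mem_setOf_eq]
    revert a b; decide +kernel
  inv_mem' := by
    intro a
    simp only [Set.mem_setOf_eq]
    revert a; decide +kernel

theorem mem_K4 {σ : Equiv.Perm (Fin 4)} : σ ∈ K4 ↔ σ = 1 ∨ (σ * σ = 1 ∧ ∀ i, σ i ≠ i) := Iff.rfl

instance : K4.Normal := ⟨by simp only [mem_K4]; decide +kernel⟩

theorem card_K4 : Nat.card K4 = 4 := by
  rw [← SetLike.coe_sort_coe, Nat.card_coe_set_eq, show (K4 : Set (Equiv.Perm (Fin 4))) =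
    ↑(Finset.univ.filter fun σ : Equiv.Perm (Fin 4) => σ = 1 ∨ (σ * σ = 1 ∧ ∀ i, σ i ≠ i)) by
      ext; simp [mem_K4], Set.ncard_coe_finset]
  decide +kernel

theorem K4_cent : ∀ σ : Equiv.Perm (Fin 4), (∀ ρ ∈ K4, ρ * σ = σ * ρ) → σ ∈ K4 := by
  simp only [mem_K4]; decide +kernel

theorem K4_three : ∀ σ : Equiv.Perm (Fin 4), σ ≠ 1 → (∃ a b, a ≠ b ∧ σ a = a ∧ σ b = b) →
    ∃ g, (σ * (g * σ * g⁻¹)) ^ 3 = 1 ∧ σ * (g * σ * g⁻¹) ≠ 1 := by
  decide +kernel

theorem K4_dbl : ∀ σ : Equiv.Perm (Fin 4), σ ∈ K4 → σ * σ = 1 := by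
  simp only [mem_K4]; decide +kernel

theorem eq_one_of_pow {G : Type*} [Group G] {y : G} {m : ℕ} (h3 : y ^ 3 = 1) (h : y ^ 2 ^ m = 1) :
    y = 1 := orderOf_eq_one_iff.1 (Nat.eq_one_of_dvd_coprimes
  (Nat.Coprime.pow_right m (show Nat.Coprime 3 2 by norm_num))
  (orderOf_dvd_of_pow_eq_one h3) (orderOf_dvd_of_pow_eq_one h))

variable {G Ω : Type*} [Group G] [MulAction G Ω]

theorem alt_of_card [Finite G] [Finite Ω] [FaithfulSMul G Ω] {n : ℕ} (hn : Nat.card Ω = n)
    (hG : 2 * Nat.card G = n.factorial) : Nonempty (G ≃* alternatingGroup (Fin n)) := by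
  let e := Finite.equivFinOfCardEq hn
  let ψ : G →* Equiv.Perm (Fin n) := e.permCongrHom.toMonoidHom.comp (MulAction.toPermHom G Ω)
  have hψ : Function.Injective ψ := e.permCongrHom.injective.comp toPerm_injective
  have h1 := ψ.range.card_mul_index
  rw [← Nat.card_congr (MonoidHom.ofInjective hψ).toEquiv, Nat.card_perm, Nat.card_fin, ← hG,
    mul_comm 2] at h1
  exact ⟨(MonoidHom.ofInjective hψ).trans (MulEquiv.subgroupCongr
    (Equiv.Perm.eq_alternatingGroup_of_index_eq_two (Nat.eq_of_mul_eq_mul_left Nat.card_pos h1)))⟩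

namespace TP

variable {α β : Ω} {t v y : G} {c : ℕ} (h : TP α β t v y c) [Finite G] [Finite Ω]
  {τ : G} (τ2 : τ * τ = 1) (hτ : τ * t * τ⁻¹ = t) (a1 : τ • α = β) (hv : τ * v * τ⁻¹ = t * v)
include h τ2 hτ a1 hv

theorem no_two (he : Even (Nat.card Ω)) (N : Subgroup G) (hN : N.Normal) : N.index ≠ 2 := by
  intro h2
  have tN : t ∈ N := h.x_sq τ2 hτ a1 hv ▸ mul_self_mem_of_index_two h2 _
  have iN : ∀ u : G, u * u = 1 → u ≠ 1 → u ∈ N := fun u u2 u1 => by
    obtain ⟨g, rfl⟩ := isConj_iff.1 (h.one_class τ2 hτ a1 hv u2 u1)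
    exact hN.conj_mem t tN g
  have h1 : stabilizer G α ≤ N := by
    rw [← relIndex_eq_one]
    have h3 : N.relIndex (stabilizer G α) ∣ 2 := h2 ▸ relIndex_dvd_index_of_normal N _
    refine ((Nat.dvd_prime Nat.prime_two).1 h3).resolve_right fun e => ?_
    have h4 := card_mul_relIndex_of_le (inf_le_right : N ⊓ stabilizer G α ≤ _)
    have h5 : 4 ∣ Nat.card ↥(N ⊓ stabilizer G α) := by
      rw [← h.cardV]
      refine card_dvd_of_le ((closure_le _).2 ?_)
      rintro x (rfl | rfl)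
      exacts [⟨tN, h.ta⟩, ⟨iN _ h.vv h.pair.ne₂, h.va⟩]
    rw [inf_relIndex_right, e, h.card_Ga] at h4
    obtain ⟨m, hm⟩ := h5
    have h6 := h.top.two_le
    rw [Set.ncard_univ] at h6
    obtain ⟨k, hk⟩ := (Nat.Even.sub_odd (by omega) he odd_one).mul h.odd_c
    rw [hm, mul_left_comm, hk] at h4
    omega
  have h3 : N = ⊤ := eq_top_iff.2 fun g _ => by
    by_cases e : g • α = α
    · exact h1 e
    obtain ⟨k, e1, e2⟩ := h.tr α (g • α) (Ne.symm e)
    have := mul_mem (mul_mem (h1 e1) (iN τ τ2 (h.tau_ne τ2 hτ a1 hv)))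
      (h1 (show ((k * τ)⁻¹ * g) • α = α by rw [mul_smul, inv_smul_eq_iff, mul_smul, a1, e2]))
    rwa [mul_inv_cancel_left] at this
  rw [h3, index_top] at h2
  omega

theorem gl23 (hi : (Fx Ω t).ncard = 4) (hf : (Fv Ω t v).ncard = 2) (hD : τ ∈ Dd t v) :
    Nonempty (centralizer ({t} : Set G) ≃* GL (Fin 2) (ZMod 3)) := by
  haveI : Fact (Nat.Prime 2) := ⟨Nat.prime_two⟩
  have w := h.witt
  haveI : Finite (sub _ _ w.inv) := Set.toFinite (Fx Ω t)
  let e := Finite.equivFinOfCardEq ((card_sub _ _ w.inv).trans hi)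
  let ψ : centralizer ({t} : Set G) →* Equiv.Perm (Fin 4) :=
    e.permCongrHom.toMonoidHom.comp (MulAction.toPermHom _ (sub _ _ w.inv))
  have hψ : ∀ (g : centralizer ({t} : Set G)) (x : sub _ _ w.inv),
      ψ g (e x) = e x ↔ (g : G) • (x : Ω) = x := fun g x => by
    have : ψ g (e x) = e (g • x) := by simp [ψ]
    rw [this, e.apply_eq_iff_eq, Subtype.ext_iff]; rfl
  have tC : t ∈ centralizer ({t} : Set G) := mem_cent.2 (by simp)
  have hk : ∀ g, ψ g = 1 ↔ (g : G) = 1 ∨ (g : G) = t := fun g => by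
    refine ⟨fun e1 => h.ker' (by omega) (mem_cent.1 g.2) fun x hx => (hψ g ⟨x, hx⟩).1 (by
      rw [e1]; rfl), fun e1 => Equiv.ext fun i => ?_⟩
    obtain ⟨x, rfl⟩ := e.surjective i
    refine (hψ g x).2 ?_
    rcases e1 with e1 | e1 <;> rw [e1]
    exacts [one_smul _ _, x.2]
  have hC : Nat.card (centralizer ({t} : Set G)) = 48 := by rw [h.card_C, hi]
  have hs : Function.Surjective ψ := by
    have h1 : Nat.card ψ.ker = 2 := by
      rw [← SetLike.coe_sort_coe, Nat.card_coe_set_eq, Set.ncard_eq_two]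
      exact ⟨1, ⟨t, tC⟩, fun e => h.pair.ne₁ (congrArg Subtype.val e).symm,
        Set.ext fun g => (hk g).trans (or_congr (Subtype.ext_iff (a1 := g) (a2 := 1)).symm
          (Subtype.ext_iff (a1 := g) (a2 := ⟨t, tC⟩)).symm)⟩
    have h2 := ψ.ker.card_mul_index
    rw [h1, hC, index_ker] at h2
    rw [← MonoidHom.range_eq_top]
    exact eq_top_of_card_eq _ (by rw [Nat.card_perm, Nat.card_fin]; change _ = 24; omega)
  have hR : Nat.card (K4.comap ψ) = 8 := by
    have h1 := (K4.comap ψ).card_mul_index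
    have h2 := K4.card_mul_index
    rw [card_K4, Nat.card_perm, Nat.card_fin] at h2
    rw [index_comap_of_surjective _ hs, hC, show K4.index = 6 by
      norm_num [Nat.factorial] at h2; omega] at h1
    omega
  have hU : H13.TG.UI (K4.comap ψ) := by
    have k : ∀ g : K4.comap ψ, g * g = 1 → g ≠ 1 → ((g : centralizer ({t} : Set G)) : G) = t := by
      rintro ⟨g, hg⟩ g2 g1
      have g2' : (g : G) * g = 1 := congrArg (fun x : K4.comap ψ => ((x : centralizer {t}) : G)) g2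
      rcases hg with hg | hg
      · exact ((hk g).1 hg).resolve_left fun e => g1 (Subtype.ext (Subtype.ext e))
      exfalso
      have fp : ∀ x ∈ Fx Ω t, (g : G) • x ≠ x := fun x hx e1 => hg.2 _ ((hψ g ⟨x, hx⟩).2 e1)
      obtain ⟨k, hk, -, -, e3, -⟩ := h.swapC (mem_cent.1 g.2) h.ta (fp α h.ta)
        (by rw [← mul_smul, g2', one_smul])
      have h1 : k⁻¹ * g * k⁻¹⁻¹ ∈ Dd t v := by
        rcases h.inv_swap τ2 hτ a1 hv (by rw [conj_mul, g2']; simp)
          (h.cj_cent (inv_cj hk) (mem_cent.1 g.2)) e3 with e | e <;> rw [e]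
        exacts [hD, h.Dd_mul hD]
      obtain ⟨a, ha, -, -, -, e1, -⟩ := h.Dd_two (h.Dd_cj hk h1)
      rw [show k * (k⁻¹ * g * k⁻¹⁻¹) * k⁻¹ = g by group] at e1
      exact fp a ha e1
    exact fun a b a2 b2 a1 b1 => Subtype.ext (Subtype.ext ((k a a2 a1).trans (k b b2 b1).symm))
  obtain ⟨q⟩ : Nonempty (K4.comap ψ ≃* QuaternionGroup 2) := by
    rcases hU.cases (IsPGroup.of_card (n := 3) hR) with k | ⟨n, ⟨k⟩⟩
    · exfalso
      obtain ⟨g, hg⟩ := IsCyclic.exists_ofOrder_eq_natCard (α := K4.comap ψ)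
      have h1 : ((g : centralizer ({t} : Set G)) : G) ^ 4 = 1 := by
        have := (hk (g * g)).1 (by rw [map_mul]; exact K4_dbl _ g.2)
        refine (pow_mul _ 2 2).trans ?_
        rw [pow_two, pow_two]
        rcases this with e | e <;> rw [coe_mul] at e <;> rw [e]
        exacts [one_mul _, h.tt]
      have h2 : orderOf g ∣ 4 := orderOf_dvd_of_pow_eq_one (Subtype.ext (Subtype.ext h1))
      rw [hg, hR] at h2
      omega
    · have h1 := Nat.card_congr k.toEquiv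
      rw [hR, H13.TG.card_quat] at h1
      obtain rfl : n = 0 := by
        by_contra hn
        have := Nat.pow_le_pow_right (show 0 < 2 by norm_num) (show 2 ≤ n + 1 by omega)
        omega
      exact ⟨k⟩
  have vC : v ∈ centralizer ({t} : Set G) := mem_cent.2 h.vt
  rcases H13.TG.q8_cases q (fun g hg => K4_cent _ fun ρ hρ => by
    obtain ⟨r, rfl⟩ := hs ρ
    rw [← map_mul, ← map_mul, mem_centralizer_iff.1 hg r hρ]) with ⟨P, hP⟩ | k | ⟨-, -, -, k⟩
  · exfalso
    obtain ⟨Q, hQ⟩ := (H9.isPGroup_zpowers_of_mul_self (x := (⟨v, vC⟩ : centralizer ({t} : Set G)))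
      (Subtype.ext h.vv)).exists_le_sylow
    haveI := Sylow.unique_of_normal P hP
    obtain rfl : Q = P := Subsingleton.elim _ _
    obtain ⟨g, h1, h2⟩ := K4_three (ψ ⟨v, vC⟩) (fun e => ((hk _).1 e).elim h.pair.ne₂ h.pair.ne.symm)
      ⟨e ⟨α, h.ta⟩, e ⟨β, h.tb⟩, fun e1 => h.ne (congrArg Subtype.val (e.injective e1)),
        (hψ _ _).2 h.va, (hψ _ _).2 h.vb⟩
    obtain ⟨g, rfl⟩ := hs g
    obtain ⟨m, hm⟩ := Q.isPGroup' ⟨_, mul_mem (hQ (mem_zpowers _))
      (hP.conj_mem _ (hQ (mem_zpowers _)) g)⟩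
    refine h2 (eq_one_of_pow h1 (m := m) ?_)
    rw [← map_inv, ← map_mul, ← map_mul, ← map_mul, ← map_pow, ← map_one ψ]
    exact congrArg ψ (congrArg Subtype.val hm)
  · exact k
  · exfalso
    have hp : IsPair (⟨t, tC⟩ : centralizer ({t} : Set G)) ⟨v, vC⟩ :=
      ⟨Subtype.ext h.tt, fun e => h.pair.ne₁ (congrArg Subtype.val e), Subtype.ext h.vv,
        fun e => h.pair.ne₂ (congrArg Subtype.val e), fun e => h.pair.ne (congrArg Subtype.val e),
        Subtype.ext h.pair.comm⟩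
    obtain ⟨Q, hQ⟩ := (IsPGroup.of_card (p := 2) (n := 2) hp.isKleinFour.card_four).exists_le_sylow
    obtain ⟨k⟩ := k Q
    exact hp.ne (congrArg Subtype.val ((H13.TG.ui_quat 4).of_injective k.toMonoidHom k.injective
      ⟨_, hQ (subset_closure (by simp))⟩ ⟨_, hQ (subset_closure (by simp))⟩ (Subtype.ext hp.sq₁)
      (Subtype.ext hp.sq₂) (fun e => hp.ne₁ (congrArg Subtype.val e))
      (fun e => hp.ne₂ (congrArg Subtype.val e))))

theorem caseIII_even (he : Even (Nat.card Ω)) :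
    (c = 3 ∧ Nat.card Ω = 6 ∧ Nonempty (G ≃* alternatingGroup (Fin 6))) ∨
      (c = 15 ∧ Nat.card Ω = 12 ∧ Spor.IsoM11 G) := by
  classical
  haveI := h.faithful
  have hf : (Fv Ω t v).ncard = 2 := by
    obtain ⟨m, hm⟩ := h.f_pow (h.even_f (h.even_i he))
    have h1 := h.not_four_dvd τ2 hτ a1 hv
    have h2 := h.wittN.two_le
    rw [hm] at h1 h2 ⊢
    obtain rfl : m = 1 := by
      by_contra hn
      rcases Nat.lt_or_ge m 2 with h3 | h3
      · interval_cases m <;> simp_all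
      · exact h1 ((pow_dvd_pow 2 h3).mul_right _)
    rfl
  have hd := h.dcG
  have hG := h.card_G
  rcases h.iii_i τ2 hτ a1 hv with e | ⟨hD, e⟩ <;> rw [hf] at e
  · rcases h.c35 with hc | hc
    · rw [h.d_six τ2 hτ a1 hv hc, e, hc] at hd
      have hn : Nat.card Ω = 6 := by omega
      exact Or.inl ⟨hc, hn, alt_of_card hn (by rw [hG, hn, hc]; rfl)⟩
    · exfalso
      have h1 := h.nk he (k := 1) (by omega) rfl
      have h2 : 0 < {u | IsConj t u ∧ u • α = β}.ncard := (Set.ncard_pos (Set.toFinite _)).2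
        ⟨τ, h.one_class τ2 hτ a1 hv τ2 (h.tau_ne τ2 hτ a1 hv), a1⟩
      rw [e, hc] at h1
      rcases h1 with h1 | ⟨m, -, hm, h1⟩
      exacts [by omega, by rw [Nat.dvd_one.1 hm] at h1; omega]
  · obtain ⟨k⟩ := h.gl23 τ2 hτ a1 hv e hf hD
    obtain ⟨ι, q, -⟩ := H52.exists_qd3 (orderOf_two h.tt h.pair.ne₁) k
    have h2 := h.no_two τ2 hτ a1 hv he
    letI := Fintype.ofFinite G
    have h1 := q.card_cases h2
    rcases h.c35 with hc | hc
    · rw [h.d_six τ2 hτ a1 hv hc, e, hc] at hd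
      rw [hG, show Nat.card Ω = 28 by omega, hc] at h1
      omega
    · rw [hc] at hG
      have h3 : Nat.card G = 7920 := h1.resolve_left fun e => by
        rw [e, ← mul_assoc] at hG; omega
      refine Or.inr ⟨hc, ?_, q.iso_M11 h2 h3⟩
      rw [h3] at hG
      generalize Nat.card Ω = n at hG
      obtain ⟨m, rfl⟩ : ∃ m, n = m + 1 := ⟨n - 1, by rcases n with _ | n <;> simp_all⟩
      rw [Nat.add_sub_cancel] at hG
      have : m ≤ 11 := by nlinarith
      interval_cases m <;> omega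

end TP

end H81.TP
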