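import Mathlib
import Cfsg.Agent.Base
import Cfsg.Agent.Lib.H81.TP5
import Cfsg.Agent.Lib.H81.TP8

/-! Two-point stabiliser `A₄` or `A₅`: the setting holds, and the main case distinction. -/

set_option autoImplicit false
set_option linter.style.haveILetI false
set_option linter.unusedSectionVars false

namespace H81.TP

open MulAction Subgroup H29 Cfsg

/-- The facts about `A₄` and `A₅` that are used. -/
structure KD {K : Type*} [Group K] (t v y : K) (c : ℕ) : Prop where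
  pair : IsPair t v
  yt : y * t * y⁻¹ = v
  yv : y * v * y⁻¹ = t * v
  y3 : y ^ 3 = 1
  cent : ∀ g : K, g * t * g⁻¹ = t → g = 1 ∨ g = t ∨ g = v ∨ g = t * v
  conj : ∀ u : K, u * u = 1 → u ≠ 1 → ∃ k : K, k * t * k⁻¹ = u
  card : Nat.card K = 4 * c
  c35 : c = 3 ∨ (c = 15 ∧ ∃ u : K, u * y * u⁻¹ = y⁻¹ ∧ (u * v) ^ 5 = 1 ∧ u * v ≠ 1 ∧
    ∀ k : K, k * y * k⁻¹ = y⁻¹ → k = u ∨ k = u * y ∨ k = u * y⁻¹)

theorem KD.map {K K' : Type*} [Group K] [Group K'] {t v y : K} {c : ℕ} (h : KD t v y c)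
    (e : K ≃* K') : KD (e t) (e v) (e y) c := by
  refine ⟨⟨?_, ?_, ?_, ?_, ?_, ?_⟩, ?_, ?_, ?_, e.forall_congr_right.1 fun g => ?_,
    e.forall_congr_right.1 fun g => ?_, Nat.card_congr e.toEquiv ▸ h.card,
    h.c35.imp_right fun ⟨hc, u, h1, h2, h3, h4⟩ => ⟨hc, e u, ?_, ?_, ?_,
      e.forall_congr_right.1 fun g => ?_⟩⟩
  all_goals simp only [MulEquiv.toEquiv_eq_coe, EquivLike.coe_coe, ← map_mul, ← map_inv, ← map_pow,
    ne_eq, map_eq_one_iff e e.injective, e.apply_eq_iff_eq]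
  exacts [h.pair.sq₁, h.pair.ne₁, h.pair.sq₂, h.pair.ne₂, h.pair.ne, h.pair.comm, h.yt, h.yv, h.y3,
    h.cent g, fun h1 h2 => (h.conj g h1 h2).elim fun k hk => ⟨e k, by
      rw [← map_inv, ← map_mul, ← map_mul, hk]⟩, h1, h2, h3, h4 g]

theorem KD.fix {K : Type*} [Group K] [Finite K] {t v y : K} {c : ℕ} (h : KD t v y c)
    (σ : K →* K) (h2 : ∀ k, σ (σ k) = k) (ht : σ t = t) (hv : σ v = v) (hy : σ y = y) (k : K) :
    σ k = k := by
  let A := σ.eqLocus (MonoidHom.id K)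
  have y1 : y ≠ 1 := fun e => h.pair.ne (by rw [← h.yt, e]; simp)
  have d4 : 4 ∣ Nat.card A := by
    rw [← h.pair.isKleinFour.card_four]
    exact card_dvd_of_le ((closure_le _).2 (by rintro x (rfl | rfl); exacts [ht, hv]))
  have d3 : 3 ∣ Nat.card A := by
    haveI : Fact (Nat.Prime 3) := ⟨Nat.prime_three⟩
    exact orderOf_eq_prime h.y3 y1 ▸ A.orderOf_dvd_natCard hy
  have : A = ⊤ := eq_top_of_card_eq _ (Nat.dvd_antisymm A.card_subgroup_dvd_card (by
    rw [h.card]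
    rcases h.c35 with rfl | ⟨rfl, u, h1, h3, h4, h5⟩
    · omega
    have yy : y⁻¹ = y * y := by rw [inv_eq_iff_mul_eq_one, ← h.y3, pow_three]
    have hu : σ u = u := by
      rcases h5 (σ u) (by rw [← hy, ← map_inv, ← map_mul, ← map_mul, h1, map_inv]) with e | e | e
      · exact e
      · have := h2 u
        rw [e, map_mul, e, hy, mul_assoc, mul_eq_left, ← yy, inv_eq_one] at this
        exact absurd this y1
      · have := h2 u
        rw [e, map_mul, e, map_inv, hy, mul_assoc, mul_eq_left, ← mul_inv_rev, ← yy, inv_inv] at this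
        exact absurd this y1
    have d5 : 5 ∣ Nat.card A := by
      haveI : Fact (Nat.Prime 5) := ⟨Nat.prime_five⟩
      exact orderOf_eq_prime h3 h4 ▸ A.orderOf_dvd_natCard (A.mul_mem hu hv)
    omega))
  exact (this ▸ mem_top k : k ∈ A)

open Equiv Equiv.Perm in
theorem kd4 : ∃ t v y : alternatingGroup (Fin 4), KD t v y 3 :=
  ⟨⟨swap 0 1 * swap 2 3, mem_alternatingGroup.2 (by decide)⟩, ⟨swap 0 2 * swap 1 3, mem_alternatingGroup.2 (by decide)⟩,
    ⟨swap 1 3 * swap 1 2, mem_alternatingGroup.2 (by decide)⟩,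
    ⟨by decide, by decide, by decide, by decide, by decide, by decide⟩, by decide, by decide,
    by decide, by decide +kernel, by decide +kernel,
    by rw [nat_card_alternatingGroup]; simp [Nat.factorial], Or.inl rfl⟩

open Equiv Equiv.Perm in
theorem kd5 : ∃ t v y : alternatingGroup (Fin 5), KD t v y 15 :=
  ⟨⟨swap 0 1 * swap 2 3, mem_alternatingGroup.2 (by decide)⟩, ⟨swap 0 2 * swap 1 3, mem_alternatingGroup.2 (by decide)⟩,
    ⟨swap 1 3 * swap 1 2, mem_alternatingGroup.2 (by decide)⟩,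
    ⟨by decide, by decide, by decide, by decide, by decide, by decide⟩, by decide, by decide,
    by decide, by decide +kernel, by decide +kernel,
    by rw [nat_card_alternatingGroup]; simp [Nat.factorial],
    Or.inr ⟨rfl, ⟨swap 2 3 * swap 0 4, mem_alternatingGroup.2 (by decide)⟩, by decide, by decide, by decide,
      by decide +kernel⟩⟩

variable {G Ω : Type*} [Group G] [MulAction G Ω]

theorem tp_of [Finite G] [FaithfulSMul G Ω] (h2 : IsMultiplyPretransitive G Ω 2) {α β : Ω}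
    (hab : α ≠ β) {t v y : ↥(stabilizer G α ⊓ stabilizer G β)} {c : ℕ} (h : KD t v y c) :
    TP α β (t : G) v y c := by
  refine ⟨fun g hg => eq_of_smul_eq_smul (α := Ω) fun x => by rw [hg, one_smul], hab,
    fun a b e => H26.trans2 h2 hab e, ⟨congrArg Subtype.val h.pair.sq₁,
      fun e => h.pair.ne₁ (Subtype.ext e), congrArg Subtype.val h.pair.sq₂,
      fun e => h.pair.ne₂ (Subtype.ext e), fun e => h.pair.ne (Subtype.ext e),
      congrArg Subtype.val h.pair.comm⟩, t.2.1, t.2.2, v.2.1, v.2.2, y.2.1, y.2.2,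
    congrArg Subtype.val h.yt, congrArg Subtype.val h.yv, congrArg Subtype.val h.y3,
    fun g a b e => ?_, fun u a b u2 u1 => ?_, h.card, h.c35.imp_right And.left,
    fun s s2 sa e1 e2 e3 k a b => ?_⟩
  · simpa only [Subtype.ext_iff, coe_mul, OneMemClass.coe_one] using h.cent ⟨g, a, b⟩ (Subtype.ext e)
  · obtain ⟨k, hk⟩ := h.conj ⟨u, a, b⟩ (Subtype.ext u2) fun e => u1 (congrArg Subtype.val e)
    exact ⟨k, k.2.1, k.2.2, congrArg Subtype.val hk⟩
  · have sb := smul_smul_of_sq s2 sa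
    let σ : ↥(stabilizer G α ⊓ stabilizer G β) →* ↥(stabilizer G α ⊓ stabilizer G β) :=
      ((MulAut.conj s).toMonoidHom.comp (Subgroup.subtype _)).codRestrict _ fun g =>
        ⟨show (s * g * s⁻¹) • α = α by
          have := (conj_smul_iff s g β β).2 g.2.2
          rwa [sb] at this,
        show (s * g * s⁻¹) • β = β by
          have := (conj_smul_iff s g α α).2 g.2.1
          rwa [sa] at this⟩
    refine comm_of (congrArg Subtype.val (h.fix σ (fun g => Subtype.ext ?_)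
      (Subtype.ext (of_comm e1)) (Subtype.ext (of_comm e2)) (Subtype.ext (of_comm e3)) ⟨k, a, b⟩))
    show s * (s * g * s⁻¹) * s⁻¹ = g
    rw [show s * (s * g * s⁻¹) * s⁻¹ = s * s * g * (s * s)⁻¹ by group, s2]; simp

theorem TP.main {α β : Ω} {t v y : G} {c : ℕ} (h : TP α β t v y c) [Finite G] [Finite Ω] :
    (∃ s : G, orderOf s = 2 ∧ centralizer ({s} : Set G) ⊔ oddCore G = ⊤) ∨
    (HasReg G Ω ∧ (c = 3 → Nat.card Ω = 16 ∧ (Fv Ω t v).ncard = 4)) ∨
    (c = 3 ∧ Nat.card Ω = 6 ∧ Nonempty (G ≃* alternatingGroup (Fin 6))) ∨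
    (c = 15 ∧ Nat.card Ω = 12 ∧ Spor.IsoM11 G) ∨
    (((c = 3 ∧ Nat.card Ω = 15) ∨ (c = 15 ∧ Nat.card Ω = 7)) ∧
      Nonempty (G ≃* alternatingGroup (Fin 7))) := by
  obtain ⟨τ, -, τ2, hτ, a1⟩ := h.inv_cases h.tt h.pair.ne₁
  rcases h.tau_cases hτ a1 (smul_smul_of_sq τ2 a1) with hv | hv
  · obtain ⟨s, s2, sa, sk⟩ := h.exists_s τ2 hτ a1 hv
    have hs : ¬ IsConj t s := h.caseII s2 sa sk
    rcases Nat.even_or_odd (Nat.card Ω) with he | ho
    · exact Or.inr (Or.inl ⟨h.caseI_even s2 sa sk hs he, h.caseI_16 s2 sa sk hs he⟩)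
    · exact Or.inl ⟨s, orderOf_two s2 (h.s_ne s2 sa sk hs), h.caseI_odd s2 sa sk hs ho⟩
  rcases Nat.even_or_odd (Nat.card Ω) with he | ho
  · exact Or.inr (Or.inr ((h.caseIII_even τ2 hτ a1 hv he).imp_right Or.inl))
  by_cases hO : oddCore G = ⊥
  · obtain ⟨k⟩ := h.caseIII_odd τ2 hτ a1 hv ho hO
    refine Or.inr (Or.inr (Or.inr (Or.inr ⟨?_, ⟨k⟩⟩)))
    have h1 := h.card_G
    rw [Nat.card_congr k.toEquiv, nat_card_alternatingGroup, Nat.card_fin] at h1
    generalize Nat.card Ω = n at h1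
    obtain ⟨m, rfl⟩ : ∃ m, n = m + 1 :=
      ⟨n - 1, by rcases n with _ | n <;> simp_all [Nat.factorial]⟩
    rw [Nat.add_sub_cancel] at h1
    change 2520 = _ at h1
    have : m ≤ 14 := by rcases h.c35 with rfl | rfl <;> nlinarith
    rcases h.c35 with rfl | rfl <;> interval_cases m <;> simp_all
  · refine Or.inr (Or.inl ⟨h.reg_of_core hO, fun hc => ?_⟩)
    exfalso
    obtain ⟨p, k, hp, e⟩ := prime_pow_of_reg h.ne (fun b hb => h.tr α b hb.symm) (h.reg_of_core hO)
    have h1 := h.dcG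
    rw [h.d_six τ2 hτ a1 hv hc, hc] at h1
    exact not_pp hp h.witt.two_le (by zify; push_cast at h1; linarith) e

end H81.TP
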