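import Mathlib
import Cfsg.Agent.Base
import Cfsg.Agent.Lib.H81.TP9
import Cfsg.Agent.Lib.H81.TP10

/-! Two-point stabiliser `A₄`: the affine case of degree `16`. -/

set_option autoImplicit false
set_option linter.style.haveILetI false
set_option linter.unusedSectionVars false

namespace H81.TP

open MulAction Subgroup H29 Cfsg H30
open scoped Pointwise

variable {G Ω : Type*} [Group G] [MulAction G Ω]

namespace TP

variable {α β : Ω} {t v y : G} (h : TP α β t v y 3) [Finite G] [Finite Ω]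
include h

theorem conj_V {k u : G} (a : k • α = α) (b : k • β = β) (hu : u ∈ closure ({t, v} : Set G)) :
    k * u * k⁻¹ ∈ closure ({t, v} : Set G) := by
  by_cases u1 : u = 1
  · simp [u1]
  refine h.pair.mem_closure.2 (Or.inr (h.inv_three rfl (by rw [conj_mul, h.V_sq hu]; simp)
    (mt conj_eq_one_iff.1 u1) ?_ ?_))
  · conv_lhs => rw [← a]
    rw [(conj_smul_iff k u α α).2 (h.memV.1 hu).1, a]
  · conv_lhs => rw [← b]
    rw [(conj_smul_iff k u β β).2 (h.memV.1 hu).2.1, b]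

theorem K_le {k : G} (a : k • α = α) (b : k • β = β) : k ∈ stabilizer G (Fv Ω t v) := by
  have key : ∀ k : G, k • α = α → k • β = β → ∀ x, k • x ∈ Fv Ω t v → x ∈ Fv Ω t v :=
    fun k a b x hx => by
      have e : ∀ u ∈ closure ({t, v} : Set G), u • x = x := fun u hu =>
        (conj_smul_iff k u x x).1 (h.fix_of_V (h.conj_V a b hu) hx)
      exact ⟨e t (subset_closure (by simp)), e v (subset_closure (by simp))⟩
  exact mem_stabilizer_set.2 fun x => ⟨key k a b x, fun hx => key k⁻¹ (by rw [inv_smul_eq_iff, a])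
    (by rw [inv_smul_eq_iff, b]) _ (by rwa [inv_smul_smul])⟩

theorem exists_x (hn : Nat.card Ω = 16) (hf : (Fv Ω t v).ncard = 4) :
    ∃ x : G, x • α = α ∧ x ^ 3 = 1 ∧ (∀ b : Ω, x • b = b → b = α) ∧
      ∀ g : G, g • α = α → g * x * g⁻¹ = x := by
  haveI : Fact (Nat.Prime 2) := ⟨Nat.prime_two⟩
  haveI : Fact (Nat.Prime 3) := ⟨Nat.prime_three⟩
  have w := h.wittN
  have NS : Nv h.pair ≤ stabilizer G (Fv Ω t v) := fun g hg =>
    mem_stabilizer_set.2 fun x => ⟨w.inv' hg, w.inv g hg x⟩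
  have w' : T2 (stabilizer G (Fv Ω t v)) (Fv Ω t v) α β :=
    ⟨h.ne, w.ma, w.mb, fun g hg x hx => (mem_stabilizer_set.1 hg x).2 hx, fun a ha b hb hab =>
      (w.tr a ha b hb hab).imp fun g e => ⟨NS e.1, e.2⟩⟩
  have cY : Nat.card (stabilizer G α) = 180 := by rw [h.card_Ga, hn]
  let M := (stabilizer G (Fv Ω t v)).subgroupOf (stabilizer G α)
  have cM : M.index = 5 := by
    have h1 := w'.card_stab
    rw [show stabilizer G (Fv Ω t v) ⊓ stabilizer G α ⊓ stabilizer G β =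
      stabilizer G α ⊓ stabilizer G β from le_antisymm (fun g hg => ⟨hg.1.2, hg.2⟩)
        fun g hg => ⟨⟨h.K_le hg.1 hg.2, hg.1⟩, hg.2⟩, h.card, hf] at h1
    have h2 := card_mul_relIndex_of_le
      (inf_le_right : stabilizer G (Fv Ω t v) ⊓ stabilizer G α ≤ _)
    rw [h1, cY, inf_relIndex_right] at h2
    change _ * M.index = _ at h2
    omega
  have c3 : 3 ∣ Nat.card M.normalCore := by
    have h1 : M.normalCore.index ∣ 120 := by
      rw [normalCore_eq_ker, index_ker]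
      refine (card_subgroup_dvd_card _).trans ?_
      rw [Nat.card_perm, ← index_eq_card, cM]; rfl
    have h2 := M.normalCore.card_mul_index
    rw [cY] at h2
    by_contra h3
    have h4 : Nat.Coprime 9 (Nat.card M.normalCore) :=
      Nat.Coprime.pow_left 2 ((Nat.Prime.coprime_iff_not_dvd Nat.prime_three).2 h3)
    exact absurd ((h4.dvd_of_dvd_mul_left (h2 ▸ (by norm_num : 9 ∣ 180))).trans h1) (by norm_num)
  have hX : ∀ u ∈ M.normalCore, ∀ g : G, g • α = α → ∀ z ∈ Fv Ω t v,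
      (g⁻¹ * u * g⁻¹⁻¹) • z ∈ Fv Ω t v := fun u hu g hg z hz =>
    w'.inv _ (hu (⟨g, hg⟩ : stabilizer G α)⁻¹) z hz
  have hN : M.normalCore.Normal := inferInstance
  have nt : ∀ u ∈ M.normalCore, (u : G) ∈ closure ({t, v} : Set G) → u = 1 := by
    intro u hu hV
    by_contra u1
    obtain ⟨k, a, b, e⟩ := h.conj u u.2 (h.memV.1 hV).2.1 (h.V_sq hV) fun e => u1 (Subtype.ext e)
    have h1 : (⟨t, h.ta⟩ : stabilizer G α) ∈ M.normalCore := by
      have := hN.conj_mem u hu (⟨k, a⟩ : stabilizer G α)⁻¹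
      rwa [show (⟨k, a⟩ : stabilizer G α)⁻¹ * u * (⟨k, a⟩ : stabilizer G α)⁻¹⁻¹ = ⟨t, h.ta⟩ from
        Subtype.ext (inv_cj e)] at this
    have h2 : (⟨v, h.va⟩ : stabilizer G α) ∈ M.normalCore := by
      have := hN.conj_mem _ h1 ⟨y, h.ya⟩
      rwa [show (⟨y, h.ya⟩ : stabilizer G α) * ⟨t, h.ta⟩ * (⟨y, h.ya⟩ : stabilizer G α)⁻¹ =
        ⟨v, h.va⟩ from Subtype.ext h.yt] at this
    obtain ⟨z, hz⟩ : ∃ z, z ∉ Fv Ω t v := by
      by_contra hc
      push Not at hc
      rw [Set.eq_univ_of_forall hc, Set.ncard_univ] at hf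
      omega
    obtain ⟨g, e1, e2⟩ := h.tr α z fun e => hz (e ▸ w.ma)
    have h3 : ∀ u ∈ closure ({t, v} : Set G), ∀ z ∈ Fv Ω t v, (g⁻¹ * u * g⁻¹⁻¹) • z ∈ Fv Ω t v := by
      intro u hu
      rcases h.pair.mem_closure.1 hu with rfl | rfl | rfl | rfl
      exacts [hX 1 (one_mem _) g e1, hX _ h1 g e1, hX _ h2 g e1, hX _ (mul_mem h1 h2) g e1]
    obtain ⟨q, ⟨hq, hq'⟩, e3⟩ := exists_fix (IsPGroup.of_card (p := 2) (n := 2) h.cardV)
      (Set.toFinite {x | g⁻¹ • x ∈ Fv Ω t v ∧ x ≠ α}) (fun u hu x hx => ⟨by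
        have := h3 u hu _ hx.1
        rwa [mul_smul, inv_smul_smul, mul_smul] at this, fun e => hx.2 (smul_left_cancel u
          (e.trans (h.memV.1 hu).1.symm))⟩) (by
        rw [show {x | g⁻¹ • x ∈ Fv Ω t v ∧ x ≠ α} = (g • Fv Ω t v) \ {α} from Set.ext fun x => by
          simp [Set.mem_smul_set_iff_inv_smul_mem], Set.ncard_diff_singleton_of_mem
          (Set.mem_smul_set.2 ⟨α, w.ma, e1⟩), Set.ncard_smul_set, hf]
        norm_num)
    have hq2 : q ∈ Fv Ω t v := ⟨e3 t (subset_closure (by simp)), e3 v (subset_closure (by simp))⟩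
    obtain ⟨a, ha, e4, e5⟩ := w'.tr α w.ma _ hq fun e => hq' (by
      rw [← e1, e, smul_inv_smul])
    obtain ⟨b, hb, e6, e7⟩ := w'.tr α w.ma _ hq2 hq'.symm
    have h4 := h.K_le (k := b⁻¹ * g * a) (by rw [mul_smul, mul_smul, e4, e1, inv_smul_eq_iff, e6])
      (by rw [mul_smul, mul_smul, e5, smul_inv_smul, inv_smul_eq_iff, e7])
    have h5 := mul_mem (mul_mem hb h4) (inv_mem ha)
    rw [show b * (b⁻¹ * g * a) * a⁻¹ = g by group] at h5
    exact hz (e2 ▸ w'.inv g h5 β w.mb)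
  have nK : ∀ u ∈ M.normalCore, (u : G) • β = β → u = 1 := fun u hu ub => by
    have h1 := nt _ (mul_mem (hN.conj_mem _ (inv_mem hu) ⟨t, h.ta⟩) hu) (by
      have := mul_mem (subset_closure (show t ∈ ({t, v} : Set G) by simp))
        (h.conj_V (k := (u : G)⁻¹) (inv_mem u.2) (by rw [inv_smul_eq_iff, ub])
          (inv_mem (subset_closure (show t ∈ ({t, v} : Set G) by simp))))
      simpa [mul_assoc] using this)
    have h2 : t * (u : G)⁻¹ * t⁻¹ * u = 1 := congrArg Subtype.val h1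
    exact nt u hu (h.memV.2 ⟨u.2, ub, by
      rw [show (u : G) * t * (u : G)⁻¹ = u * (t * (u : G)⁻¹ * t⁻¹ * u) * (u : G)⁻¹ * t by group, h2]
      group⟩)
  obtain ⟨⟨x, hx⟩, ox⟩ := exists_prime_orderOf_dvd_card' 3 c3
  rw [orderOf_mk] at ox
  have x1 : x ≠ 1 := fun e => by simp [e] at ox
  have x3 : x ^ 3 = 1 := ox ▸ pow_orderOf_eq_one x
  have mem : ∀ u ∈ M.normalCore, (u : G) • β ∈ Fv Ω t v \ {α} := fun u hu =>
    ⟨w'.inv _ (M.normalCore_le hu) β w.mb, fun e => h.ne (smul_left_cancel (u : G)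
      ((show (u : G) • α = α from u.2).trans (Set.mem_singleton_iff.1 e).symm))⟩
  have inj : ∀ u ∈ M.normalCore, ∀ u' ∈ M.normalCore, (u : G) • β = (u' : G) • β → u = u' :=
    fun u hu u' hu' e => (inv_mul_eq_one.1 (nK _ (mul_mem (inv_mem hu') hu) (by
      rw [coe_mul, coe_inv, mul_smul, e, inv_smul_smul]))).symm
  have xx : x ≠ x⁻¹ := fun e => x1 (by
    rw [← x3, pow_three]; nth_rw 3 [e]; rw [inv_mul_cancel, mul_one])
  have cases : ∀ u ∈ M.normalCore, u = 1 ∨ u = x ∨ u = x⁻¹ := fun u hu => by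
    have e : ({((1 : stabilizer G α) : G) • β, (x : G) • β, ((x⁻¹ : stabilizer G α) : G) • β} :
        Set Ω) = Fv Ω t v \ {α} := Set.eq_of_subset_of_ncard_le (by
      rintro z (rfl | rfl | rfl)
      exacts [mem _ (one_mem _), mem _ hx, mem _ (inv_mem hx)]) (by
      rw [Set.ncard_diff_singleton_of_mem w.ma, hf, Set.ncard_eq_three.2 ⟨_, _, _,
        fun e => x1 (inj _ (one_mem _) _ hx e).symm,
        fun e => x1 (inv_eq_one.1 (inj _ (one_mem _) _ (inv_mem hx) e).symm),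
        fun e => xx (inj _ hx _ (inv_mem hx) e), rfl⟩])
    rcases e.ge (mem u hu) with e | e | e
    exacts [Or.inl (inj _ hu _ (one_mem _) e), Or.inr (Or.inl (inj _ hu _ hx e)),
      Or.inr (Or.inr (inj _ hu _ (inv_mem hx) e))]
  have cj : ∀ g : stabilizer G α, g * x * g⁻¹ = x ∨ g * x * g⁻¹ = x⁻¹ := fun g =>
    (cases _ (hN.conj_mem x hx g)).resolve_left (mt conj_eq_one_iff.1 x1)
  refine ⟨x, x.2, congrArg Subtype.val x3, fun b hb => by_contra fun hb' => ?_, fun g hg => ?_⟩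
  · obtain ⟨g, e1, e2⟩ := h.tr α b (Ne.symm hb')
    exact x1 (conj_eq_one_iff.1 (nK _ (hN.conj_mem x hx (⟨g, e1⟩ : stabilizer G α)⁻¹)
      (cj_smul (by rw [e2, hb]))))
  refine congrArg Subtype.val ((cj ⟨g, hg⟩).resolve_right fun e => ?_)
  have h1 : (centralizer {x}).index = 2 := by
    rw [index_eq_two_iff']
    refine ⟨⟨g, hg⟩, fun b => ?_⟩
    simp only [mem_cent]
    rw [show ⟨g, hg⟩ * b * x * (⟨g, hg⟩ * b)⁻¹ = ⟨g, hg⟩ * (b * x * b⁻¹) * ⟨g, hg⟩⁻¹ by group]
    rcases cj b with e2 | e2 <;> rw [e2]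
    · exact Or.inr ⟨rfl, e ▸ xx.symm⟩
    · exact Or.inl ⟨by rw [← conj_inv, e, inv_inv], xx.symm⟩
  have h2 : 4 ∣ Nat.card (centralizer {x}) := by
    have hV : closure ({t, v} : Set G) ≤ stabilizer G α := fun u hu => (h.memV.1 hu).1
    rw [← h.cardV, ← Nat.card_congr (subgroupOfEquivOfLe hV).toEquiv]
    refine card_dvd_of_le fun u hu => mem_cent.2 (inj _ (hN.conj_mem x hx u) _ hx ?_)
    have e1 : (u : G) • β = β := (h.memV.1 hu).2.1
    rw [coe_mul, coe_mul, coe_inv, mul_smul, mul_smul, inv_smul_eq_iff.2 e1.symm,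
      h.fix_of_V (g := u) hu (mem x hx).1]
  have h3 := (centralizer {x}).card_mul_index
  rw [h1, cY] at h3
  omega

theorem agl (hr : HasReg G Ω) (hn : Nat.card Ω = 16) (hf : (Fv Ω t v).ncard = 4) :
    Nonempty (G ≃* ((Fin 2 → F4) ≃ᵃ[F4] (Fin 2 → F4))) := by
  haveI : Fact (Nat.Prime 2) := ⟨Nat.prime_two⟩
  haveI := h.faithful
  obtain ⟨x, xa, x3, xf, xc⟩ := h.exists_x hn hf
  obtain ⟨R, hR, ht, hs⟩ := hr
  have uq : ∀ r ∈ R, ∀ r' ∈ R, r • α = r' • α → r = r' := fun r hr r' hr' e =>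
    (inv_mul_eq_one.1 (hs α _ (mul_mem (inv_mem hr') hr) (by
      rw [mul_smul, e, inv_smul_smul]))).symm
  let e : R ≃ Ω := Equiv.ofBijective (fun r : R => (r : G) • α)
    ⟨fun r r' e => Subtype.ext (uq r r.2 r' r'.2 e), fun z => by
      obtain ⟨r, hr, e⟩ := ht α z
      exact ⟨⟨r, hr⟩, e⟩⟩
  have cR : Nat.card R = 16 := (Nat.card_congr e).trans hn
  have sq : ∀ r : R, r * r = 1 := fun r => by
    obtain ⟨u, hu⟩ := exists_prime_orderOf_dvd_card' (G := R) 2 (by rw [cR]; norm_num)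
    by_cases r1 : r = 1
    · rw [r1, one_mul]
    obtain ⟨g, e1, e2⟩ := H26.trans2 h.two (a := α) (b := (u : G) • α) (c := α) (d := (r : G) • α)
      (fun e => H9.ne_one_of_orderOf_two hu (Subtype.ext (hs α u u.2 e.symm)))
      fun e => r1 (Subtype.ext (hs α r r.2 e.symm))
    have := uq _ (hR.conj_mem u u.2 g) r r.2 (by
      conv_lhs => rw [← e1]
      rw [mul_smul, inv_smul_smul, mul_smul, e2])
    refine Subtype.ext ?_
    rw [coe_mul, ← this, conj_mul, ← coe_mul, H9.mul_self_of_orderOf_two hu]; simp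
  letI : CommGroup R := { (inferInstance : Group R) with
    mul_comm := fun a b => by
      rw [← inv_eq_of_mul_eq_one_right (sq (a * b)), mul_inv_rev,
        inv_eq_of_mul_eq_one_right (sq a), inv_eq_of_mul_eq_one_right (sq b)] }
  let lin : G → Additive R →+ Additive R := fun g =>
    MonoidHom.toAdditive (MulAut.conjNormal g : MulAut R).toMonoidHom
  have hlin : ∀ g (a : Additive R), ((lin g a).toMul : G) = g * a.toMul * g⁻¹ := fun _ _ => rfl
  have ext : ∀ a b : Additive R, (a.toMul : G) = b.toMul → a = b := fun a b e =>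
    Additive.toMul.injective (Subtype.ext e)
  let e' : Additive R ≃ Ω := Additive.toMul.trans e
  have he : ∀ a : Additive R, e' a = (a.toMul : G) • α := fun _ => rfl
  let act : G →* Equiv.Perm (Additive R) :=
    e'.symm.permCongrHom.toMonoidHom.comp (MulAction.toPermHom G Ω)
  have ha : ∀ g a, e' (act g a) = g • e' a := fun g a => by simp [act]
  refine agl_of (A := Additive R) cR (fun a => congrArg Additive.ofMul (sq a.toMul)) (lin x)
    (fun a => ?_) (by rw [h.card_G, hn]) act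
    (e'.symm.permCongrHom.injective.comp toPerm_injective) lin (fun g a => e'.injective ?_)
    fun g a => ext _ _ ?_
  · have h1 : lin x (lin x (lin x a)) = a := ext _ _ (by
      rw [hlin, hlin, hlin, show x * (x * (x * (a.toMul : G) * x⁻¹) * x⁻¹) * x⁻¹ =
        x ^ 3 * a.toMul * (x ^ 3)⁻¹ by rw [pow_three]; group, x3]; simp)
    have h2 : lin x (lin x (lin x a) + (lin x a + a)) = lin x (lin x a) + (lin x a + a) := by
      rw [map_add, map_add, h1]; abel
    generalize lin x a + a = b at h2 ⊢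
    generalize lin x (lin x a) = c at h2 ⊢
    have h3 := congrArg (fun z : Additive R => (z.toMul : G)) h2
    simp only [hlin] at h3
    have h4 := hs α _ (c + b).toMul.2 (xf _ (by
      rw [← mul_smul, comm_of h3, mul_smul, xa]))
    have h5 : c + b = 0 := ext _ _ h4
    rw [eq_neg_of_add_eq_zero_left h5, neg_eq_iff_add_eq_zero]
    exact congrArg Additive.ofMul (sq b.toMul)
  · rw [ha, he, he, toMul_add, coe_mul, mul_smul, ← he (act g 0), ha, he, hlin, toMul_zero,
      coe_one, one_smul, mul_smul, inv_smul_smul, mul_smul]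
  · obtain ⟨r, hr, e1⟩ := ht α (g • α)
    have h1 := comm_of (xc (r⁻¹ * g) (by rw [mul_smul, ← e1, inv_smul_smul]))
    have h2 : ∀ b : R, r * b * r⁻¹ = b := fun b =>
      of_comm (congrArg Subtype.val (mul_comm (⟨r, hr⟩ : R) b))
    have h3 : ∀ b : Additive R, ((lin g b).toMul : G) = r⁻¹ * g * b.toMul * (r⁻¹ * g)⁻¹ :=
      fun b => by
        rw [← inv_cj (h2 (lin g b).toMul), hlin]; group
    rw [h3, hlin, hlin, h3]
    calc _ = (r⁻¹ * g * x) * (a.toMul : G) * (r⁻¹ * g * x)⁻¹ := by group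
      _ = _ := by rw [h1]; group

end TP

end H81.TP
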